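import Groth.Agent.DQCoh.Pullback
import Groth.Agent.KFlat.LTensorCx
import Groth.Agent.DerPerf.Tensor

/-!
# Derived tensor products preserve quasi-coherent cohomology
-/

set_option backward.isDefEq.respectTransparency false
set_option backward.isDefEq.respectTransparency.types false
set_option linter.style.haveILetI false
set_option autoImplicit false

universe u

open CategoryTheory Limits AlgebraicGeometry HomologicalComplex

attribute [local instance] HasDerivedCategory.standard

namespace Groth.Agent.DQCoh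

open Groth.Agent.KFlat (resF resψ schB tens)

variable {X : Scheme.{u}}

lemma preservesColimits_flip (G : X.Modules) :
    PreservesColimitsOfSize.{u, u} ((schB X).flip.obj G) :=
  ModSiteTensor.preservesColimits_tensorBi_flip_obj X.sheaf G

lemma isQCoh_free_tensor (I : Type u) {G : X.Modules} (hG : Coh.IsQCoh G) :
    Coh.IsQCoh (((schB X).flip.obj G).obj (SheafOfModules.free (R := X.ringCatSheaf) I)) := by
  have := preservesColimits_flip G
  exact QC.isQCoh_of_iso (PreservesCoproduct.iso ((schB X).flip.obj G) _ ≪≫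
      Sigma.mapIso fun _ => DerPerf.unitTensIso G).symm
    (QC.isQCoh_colimit (Discrete.functor fun _ : I => G) fun _ => hG)

/-- **Tensor products** of quasi-coherent modules are quasi-coherent. -/
theorem isQCoh_tensor {F G : X.Modules} (hF : Coh.IsQCoh F) (hG : Coh.IsQCoh G) :
    Coh.IsQCoh (((schB X).obj F).obj G) := by
  refine isQCoh_of_restrict_opens fun x => ?_
  obtain ⟨W, hW, hP⟩ : ∃ W : X.Opens, x ∈ W ∧ QC.HasPres F W := QC.isQCoh_iff_exists_hasPres.1 hF x
  obtain ⟨P⟩ := hP
  refine ⟨W, hW, ?_⟩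
  let W' : Scheme.{u} := W
  let T := (schB W').flip.obj ((Scheme.Modules.pullback W.ι).obj G)
  have hG' : Coh.IsQCoh ((Scheme.Modules.pullback W.ι).obj G) := QC.isQCoh_pullback W.ι hG
  have := preservesColimits_flip (X := W') ((Scheme.Modules.pullback W.ι).obj G)
  have : PreservesFiniteColimits T := by
    have : PreservesColimitsOfSize.{0, 0} T := preservesSmallestColimits_of_preservesColimits _
    infer_instance
  let a : SheafOfModules.free (R := W'.ringCatSheaf) P.relations.I ⟶
      SheafOfModules.free (R := W'.ringCatSheaf) P.generators.I :=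
    P.relations.π ≫ kernel.ι P.generators.π
  have hw : a ≫ P.generators.π = 0 := by simp [a]
  have hex : (ShortComplex.mk (kernel.ι P.generators.π) P.generators.π (kernel.condition _)).Exact :=
    ShortComplex.exact_of_f_is_kernel _ (kernelIsKernel _)
  have hex' : (ShortComplex.mk a P.generators.π hw).Exact :=
    (ShortComplex.exact_iff_of_epi_of_isIso_of_mono
      (S₁ := ShortComplex.mk a P.generators.π hw)
      (S₂ := ShortComplex.mk (kernel.ι P.generators.π) P.generators.π (kernel.condition _))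
      { τ₁ := P.relations.π
        τ₂ := 𝟙 _
        τ₃ := 𝟙 _
        comm₁₂ := (Category.comp_id _).symm
        comm₂₃ := (Category.id_comp _).trans (Category.comp_id _).symm }).2 hex
  have hT := isColimitOfHasCokernelOfPreservesColimit T a
  let e₁ : F.restrict W.ι ≅ cokernel a :=
    (IsColimit.coconePointUniqueUpToIso (cokernelIsCokernel a) hex'.gIsCokernel).symm
  have hq : Coh.IsQCoh (T.obj (cokernel a)) :=
    QC.isQCoh_of_iso (PreservesCokernel.iso T a).symm
      (QC.isQCoh_cokernel (isQCoh_free_tensor _ hG') (isQCoh_free_tensor _ hG') _)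
  exact QC.isQCoh_of_iso (T.mapIso e₁.symm ≪≫
    T.mapIso ((Scheme.Modules.restrictFunctorIsoPullback W.ι).app F) ≪≫
    KFlat.pullTensorIso W.ι F G ≪≫ ((Scheme.Modules.restrictFunctorIsoPullback W.ι).app _).symm) hq

/-- The datum of `- ⊗ G` for a module `G`. -/
noncomputable def modDatum (G : X.Modules) : Datum X X :=
  haveI := preservesColimits_flip G
  haveI : PreservesColimitsOfSize.{0, 0} ((schB X).flip.obj G) := preservesSmallestColimits_of_preservesColimits _
  ofFunctor ((schB X).flip.obj G) (fun _ hK hK' => KFlat.acyclic_tensorRight_sch hK hK' G)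

lemma rightBounded_modDatum (G : X.Modules) : RightBounded (modDatum G) :=
  haveI := preservesColimits_flip G
  haveI : PreservesColimitsOfSize.{0, 0} ((schB X).flip.obj G) := preservesSmallestColimits_of_preservesColimits _
  rightBounded_ofFunctor ((schB X).flip.obj G) (fun _ hK hK' => KFlat.acyclic_tensorRight_sch hK hK' G)

/-- Pullback to an open commutes with tensoring. -/
noncomputable def tensorPullIso {W : Scheme.{u}} (j : W ⟶ X) (G : X.Modules) :
    (schB X).flip.obj G ⋙ Scheme.Modules.pullback j ≅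
      Scheme.Modules.pullback j ⋙ (schB W).flip.obj ((Scheme.Modules.pullback j).obj G) :=
  (NatIso.ofComponents (fun M => KFlat.pullTensorIso j M G)
    (fun a => KFlat.pullTensorIso_natural_left j a G)).symm

theorem base_modDatum {G : X.Modules} (hG : Coh.IsQCoh G) : Base (modDatum G) := fun F hF i => by
  refine isQCoh_of_restrict_opens fun x => ?_
  obtain ⟨U, hU, hx⟩ := QC.exists_affine_mem x
  refine ⟨U, hx, ?_⟩
  haveI : IsAffine (U : Scheme.{u}) := hU
  let j := U.ι
  let Rp := Scheme.Modules.pullback j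
  let R := Rp.mapHomologicalComplex (ComplexShape.up ℤ)
  haveI : PreservesFiniteLimits Rp :=
    preservesFiniteLimits_of_natIso (Scheme.Modules.restrictFunctorIsoPullback j)
  let P₀ := (resF X).obj ((HomologicalComplex.single X.Modules (ComplexShape.up ℤ) 0).obj F)
  let q₀ := (resψ X).app ((HomologicalComplex.single X.Modules (ComplexShape.up ℤ) 0).obj F)
  haveI : QuasiIso (R.map q₀) := HomologicalComplex.quasiIso_map_of_preservesHomology q₀ Rp
  let s : R.obj ((HomologicalComplex.single X.Modules (ComplexShape.up ℤ) 0).obj F) ≅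
      (HomologicalComplex.single _ (ComplexShape.up ℤ) 0).obj (Rp.obj F) :=
    (HomologicalComplex.singleMapHomologicalComplex Rp (ComplexShape.up ℤ) 0).app F
  let G' := Rp.obj G
  have hG' : Coh.IsQCoh G' := QC.isQCoh_pullback j hG
  obtain ⟨P, q, hP, hq, hPq⟩ := hasQCohResolution_of_isAffine (Rp.obj F) (QC.isQCoh_pullback j hF)
  have h1 : GoodAt (modDatum G') ((HomologicalComplex.single _ (ComplexShape.up ℤ) 0).obj (Rp.obj F)) i :=
    (goodAt_iff hP q i).2 (isQCoh_homology_of_X _ (fun n => isQCoh_tensor (hPq n) hG') i)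
  have h2 := (goodAt_iff (D := modDatum G') (KFlat.isKFlat_pullback j (KFlat.isKFlat_resF _))
    (R.map q₀ ≫ s.hom) i).1 h1
  let T := (schB X).flip.obj G
  let C := (T.mapHomologicalComplex (ComplexShape.up ℤ)).obj P₀
  let e : R.obj C ≅ (((schB (U : Scheme.{u})).flip.obj G').mapHomologicalComplex _).obj (R.obj P₀) :=
    Hom.isoOfComponents (fun n => (tensorPullIso j G).app (P₀.X n))
      fun a b _ => ((tensorPullIso j G).hom.naturality (P₀.d a b)).symm
  exact QC.isQCoh_of_iso ((homologyFunctor _ _ i).mapIso e.symm ≪≫ (C.sc i).mapHomologyIso Rp ≪≫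
    ((Scheme.Modules.restrictFunctorIsoPullback j).app _).symm) h2

/-- The datum of `E ⊗ -` for a complex `E`. -/
noncomputable def cxDatum (E : CochainComplex X.Modules ℤ) : Datum X X where
  Φ := (tens (schB X)).obj E
  quasiIso_map a ha hP hP' := @KFlat.quasiIso_obj_map_of_rflat _ _ _ (schB X) _ _ _ _ _ (KFlat.braid X.sheaf)
    (KFlat.exists_resolution_site' X.sheaf) a ha ((KFlat.rflat_iff_sch _).1 hP) ((KFlat.rflat_iff_sch _).1 hP') E
  shortExact S σ := KFlat.shortExact_of_splitting (KFlat.splittingObj (schB X) E S σ)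
  shift K n := ⟨CochainComplex.mapBifunctorShift₂Iso E K (schB X) n⟩
  colim := KFlat.preservesColimitsOfShape_tens_obj (schB X) (fun M => KFlat.preservesColimits_nat X.sheaf M) E

/-- Homology does not see the order of the factors. -/
noncomputable def swapH (A B : CochainComplex X.Modules ℤ) (i : ℤ) :
    (((tens (schB X)).obj A).obj B).homology i ≅ (((tens (schB X)).obj B).obj A).homology i :=
  (homologyFunctor _ _ i).mapIso (KFlat.swapIso (KFlat.braid X.sheaf) A B)

theorem base_cxDatum {E : CochainComplex X.Modules ℤ} (hE : DCoh.IsKFlat E)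
    (hEq : ∀ i, Coh.IsQCoh (E.homology i)) : Base (cxDatum E) := fun F hF i => by
  let S := (HomologicalComplex.single X.Modules (ComplexShape.up ℤ) 0).obj F
  let P := (resF X).obj S
  have hq := ((KFlat.rflat_iff_sch E).1 hE).quasiIso_map_app ((resψ X).app S)
  have h := (goodAt_iff hE (𝟙 E) i).1
    (good_of_qcoh (base_modDatum hF) (rightBounded_modDatum F) hEq i)
  exact QC.isQCoh_of_iso ((homologyFunctor _ _ i).mapIso (KFlat.tensSingleIso (schB X) E F) ≪≫
    swapH E S i ≪≫ (isoOfQuasiIsoAt (((tens (schB X)).map ((resψ X).app S)).app E) i).symm ≪≫ swapH P E i) h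

lemma rightBounded_cxDatum {E : CochainComplex X.Modules ℤ} (hE : DCoh.IsKFlat E) (m : ℤ) [E.IsLE m] :
    RightBounded (cxDatum E) := by
  refine ⟨m, fun P hP n hn i hi => ?_⟩
  have : QuasiIso (P.ιTruncLE n) := (CochainComplex.quasiIso_ιTruncLE_iff P n).2 hn
  have : QuasiIso (E.ιTruncLE m) := (CochainComplex.quasiIso_ιTruncLE_iff E m).2 inferInstance
  obtain ⟨P', q, hP', -, hq, hPb⟩ := KFlat.exists_resolution_le_sch (P.truncLE n) n
  obtain ⟨E', r, hE', -, hr, hEb⟩ := KFlat.exists_resolution_le_sch (E.truncLE m) m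
  have h1 := (cxDatum E).quasiIso_map (q ≫ P.ιTruncLE n) inferInstance hP' hP
  have h2 := ((KFlat.rflat_iff_sch P').1 hP').quasiIso_map_app (r ≫ E.ιTruncLE m)
  have hz : IsZero ((((tens (schB X)).obj E').obj P').X i) := by
    rw [IsZero.iff_id_eq_zero]
    refine HomologicalComplex.mapBifunctor.hom_ext fun p q hpq => ?_
    have hpq' : p + q = i := hpq
    have hz' : IsZero (((schB X).obj (E'.X p)).obj (P'.X q)) := by
      by_cases hp : m < p
      · exact ((schB X).flip.obj (P'.X q)).map_isZero (E'.isZero_of_isStrictlyLE m p hp)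
      · exact ((schB X).obj (E'.X p)).map_isZero (P'.isZero_of_isStrictlyLE n q (by omega))
    exact hz'.eq_of_src _ _
  exact (ShortComplex.isZero_homology_of_isZero_X₂ _ hz).of_iso
    ((isoOfQuasiIsoAt (((cxDatum E).Φ).map (q ≫ P.ιTruncLE n)) i).symm ≪≫
      (isoOfQuasiIsoAt (((tens (schB X)).map (r ≫ E.ιTruncLE m)).app P') i).symm)

/-- Tensoring two K-flat complexes with quasi-coherent cohomology. -/
theorem good_cxDatum {P : CochainComplex X.Modules ℤ} (hP : DCoh.IsKFlat P)
    (hPq : ∀ i, Coh.IsQCoh (P.homology i)) {F : CochainComplex X.Modules ℤ}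
    (hFq : ∀ i, Coh.IsQCoh (F.homology i)) : Good (cxDatum P) F := by
  refine good_of_truncations fun n i => ?_
  let E := (resF X).obj (F.truncLE n)
  let ψ := (resψ X).app (F.truncLE n)
  have : E.IsLE n := (CochainComplex.isLE_iff E n).2 fun l hl => by
    rw [exactAt_iff_isZero_homology]
    exact ((F.truncLE n).isZero_of_isLE n l hl).of_iso (isoOfQuasiIsoAt ψ l)
  have hEq : ∀ l, Coh.IsQCoh (E.homology l) := fun l =>
    QC.isQCoh_of_iso (isoOfQuasiIsoAt ψ l).symm (isQCoh_homology_X₁ n l (hFq l))
  have h := (goodAt_iff hP (𝟙 P) i).1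
    (good_of_qcoh (base_cxDatum (KFlat.isKFlat_resF _) hEq) (rightBounded_cxDatum (KFlat.isKFlat_resF _) n) hPq i)
  exact QC.isQCoh_of_iso (swapH E P i) h

/-- **`⊗^L` preserves `D_QCoh`.** -/
theorem isQCohD_LTensorCx (F : CochainComplex X.Modules ℤ) (hF : DCoh.IsQCohD (DCoh.toD X F))
    [DCoh.HasLTensorCx F] (E : DCoh.D X) (hE : DCoh.IsQCohD E) : DCoh.IsQCohD ((DCoh.LTensorCx F).obj E) :=
  fun i => by
  obtain ⟨P, hP, -, ⟨e⟩⟩ := KFlat.exists_isKFlat_rep E
  have hPq : ∀ j, Coh.IsQCoh (P.homology j) := fun j =>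
    QC.isQCoh_of_iso ((DerivedCategory.homologyFunctor _ j).mapIso e.symm ≪≫ KFlat.hdIso P j) (hE j)
  have hFq : ∀ j, Coh.IsQCoh (F.homology j) := fun j => QC.isQCoh_of_iso (KFlat.hdIso F j) (hF j)
  have h : Coh.IsQCoh ((((tens (schB X)).obj P).obj ((resF X).obj F)).homology i) := good_cxDatum hP hPq hFq i
  have := ((KFlat.rflat_iff_sch P).1 hP).quasiIso_map_app ((resψ X).app F)
  exact QC.isQCoh_of_iso (swapH P _ i ≪≫
    isoOfQuasiIsoAt (((tens (schB X)).map ((resψ X).app F)).app P) i ≪≫ swapH F P i ≪≫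
    (KFlat.hdIso _ i).symm ≪≫ (DerivedCategory.homologyFunctor _ i).mapIso
      ((KFlat.ltIso F hP).symm ≪≫ (DCoh.LTensorCx F).mapIso e)) h

end Groth.Agent.DQCoh
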