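import Groth.Agent.DQCoh.AffinePerf
import Groth.Agent.KFlat.FlatCoker
import Groth.Prelude.Def_DCoh3

/-!
# Tor amplitude relative to a base, stalkwise
-/

set_option backward.isDefEq.respectTransparency false
set_option backward.isDefEq.respectTransparency.types false
set_option linter.style.haveILetI false
set_option autoImplicit false

universe u

open CategoryTheory Limits AlgebraicGeometry HomologicalComplex MonoidalCategory
open ZeroObject
open scoped TensorProduct

attribute [local instance] HasDerivedCategory.standard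

namespace Groth.Agent.DQCoh

variable {X S : Scheme.{u}} (f : X ⟶ S)

/-- stalks as modules over the stalks of the base -/
noncomputable abbrev stA (x : X) : X.Modules ⥤ ModuleCat.{u} (S.presheaf.stalk (f.base x)) :=
  DerSch.stalkFunctor X x ⋙ ModuleCat.restrictScalars.{u} (f.stalkMap x).hom

instance stA_additive (x : X) : (stA f x).Additive := inferInstance

instance stA_preservesFiniteLimits (x : X) : PreservesFiniteLimits (stA f x) :=
  comp_preservesFiniteLimits _ _

instance stA_preservesFiniteColimits (x : X) : PreservesFiniteColimits (stA f x) :=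
  comp_preservesFiniteColimits _ _

lemma isFlatOverAt_iff (M : X.Modules) (x : X) :
    FlatMod.IsFlatOverAt f M x ↔ Module.Flat (S.presheaf.stalk (f.base x)) ((stA f x).obj M) := Iff.rfl

lemma flatOver_of_flat [Flat f] {M : X.Modules} (hM : FlatMod.IsFlat M) : FlatMod.IsFlatOver f M := fun x => by
  let := (f.stalkMap x).hom.toAlgebra
  let := FlatMod.moduleStalkOver f M x
  haveI : IsScalarTower (S.presheaf.stalk (f.base x)) (X.presheaf.stalk x) (M.presheaf.stalk x) :=
    IsScalarTower.of_algebraMap_smul fun _ _ => rfl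
  haveI : Module.Flat (S.presheaf.stalk (f.base x)) (X.presheaf.stalk x) := Flat.stalkMap f x
  haveI : Module.Flat (X.presheaf.stalk x) (M.presheaf.stalk x) := hM x
  exact Module.Flat.trans (S.presheaf.stalk (f.base x)) (X.presheaf.stalk x) (M.presheaf.stalk x)

lemma flatOver_of_isZero {M : X.Modules} (h : IsZero M) : FlatMod.IsFlatOver f M := fun x => by
  rw [isFlatOverAt_iff]
  have : Subsingleton ((stA f x).obj M) := ModuleCat.subsingleton_of_isZero ((stA f x).map_isZero h)
  infer_instance

/-- tor amplitude over the base, at a point -/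
def RelAmpAt (a b : ℤ) (K : DCoh.D X) (x : X) : Prop :=
  DRing.HasTorAmplitudeIn (S.presheaf.stalk (f.base x)) a b ((stA f x).mapDerivedCategory.obj K)

variable {f}

lemma relAmpAt_of_iso {a b : ℤ} {K L : DCoh.D X} (e : K ≅ L) {x : X} (h : RelAmpAt f a b K x) :
    RelAmpAt f a b L x :=
  DRingKP.amp_of_iso ((stA f x).mapDerivedCategory.mapIso e) h

lemma relAmpAt_of_rel {a b : ℤ} {K : DCoh.D X} (h : DCoh.HasRelFlatAmplitudeIn f a b K) (x : X) :
    RelAmpAt f a b K x := by
  obtain ⟨E, hE, hflat, ⟨e⟩⟩ := h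
  exact ⟨((stA f x).mapHomologicalComplex (ComplexShape.up ℤ)).obj E, fun i hi => (stA f x).map_isZero (hE i hi),
    fun i => hflat i x,
    ⟨((stA f x).mapDerivedCategoryFactors.app E).symm ≪≫ (stA f x).mapDerivedCategory.mapIso e⟩⟩

lemma isZero_homology_of_relAmp {a b : ℤ} {K : DCoh.D X} (h : ∀ x, RelAmpAt f a b K x) (i : ℤ) (hi : b < i) :
    IsZero (DCoh.HD K i) :=
  KFlat.isZero_of_stalks _ fun x => by
    have h1 := (DRingKP.torVan_isAbove (h x) i (by lia)).of_iso ((homologyDerIso (stA f x) i).app K).symm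
    have h2 : Subsingleton ((stA f x).obj (DCoh.HD K i)) := ModuleCat.subsingleton_of_isZero h1
    exact @ModuleCat.isZero_of_subsingleton _ _ _ h2

/-- universal exactness below a relatively flat term makes the cokernel relatively flat -/
lemma isFlatOver_opcycles {P : CochainComplex X.Modules ℤ} (a : ℤ) (hP : FlatMod.IsFlatOver f (P.X a))
    (h : ∀ (x : X) (N : ModuleCat.{u} (S.presheaf.stalk (f.base x))),
      ((DRingKP.tR N).obj (((stA f x).mapHomologicalComplex (ComplexShape.up ℤ)).obj P)).ExactAt (a - 1)) :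
    FlatMod.IsFlatOver f (P.opcycles a) := fun x => by
  rw [isFlatOverAt_iff]
  let R := S.presheaf.stalk (f.base x)
  let Q := ((stA f x).mapHomologicalComplex (ComplexShape.up ℤ)).obj P
  have : Module.Flat R (Q.X a) := hP x
  have hfg : (Q.d (a - 1) a).hom ∘ₗ (Q.d (a - 1 - 1) (a - 1)).hom = 0 :=
    ModuleCat.hom_ext_iff.1 (Q.d_comp_d (a - 1 - 1) (a - 1) a)
  have hex : ∀ (M : Type u) [AddCommGroup M] [Module R M],
      Function.Exact ((Q.d (a - 1 - 1) (a - 1)).hom.rTensor M) ((Q.d (a - 1) a).hom.rTensor M) := by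
    intro M _ _
    have h1 := h x (ModuleCat.of R M)
    rw [exactAt_iff' _ (a - 1 - 1) (a - 1) a (by simp) (by simp)] at h1
    exact LinearMap.exact_iff.2 ((ShortComplex.moduleCat_exact_iff_range_eq_ker _).1 h1).symm
  have hflat : Module.Flat R ((Q.X a : Type u) ⧸ LinearMap.range (Q.d (a - 1) a).hom) :=
    KFlat.flat_quotient_range_of_exact_tensor _ _ hfg hex
  have hc := CokernelCofork.mapIsColimit _ (P.opcyclesIsCokernel (a - 1) a (by simp)) (stA f x)
  let e := hc.coconePointUniqueUpToIso (ModuleCat.cokernelIsColimit ((stA f x).map (P.d (a - 1) a)))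
  have : Module.Flat R (ModuleCat.cokernelCocone ((stA f x).map (P.d (a - 1) a))).pt := hflat
  exact Module.Flat.of_linearEquiv e.toLinearEquiv

lemma isFlatOver_of_iso {M N : X.Modules} (e : M ≅ N) (h : FlatMod.IsFlatOver f M) : FlatMod.IsFlatOver f N :=
  fun x => by
    rw [isFlatOverAt_iff]
    have : Module.Flat (S.presheaf.stalk (f.base x)) ((stA f x).obj M) := h x
    exact Module.Flat.of_linearEquiv ((stA f x).mapIso e).toLinearEquiv.symm

/-- **From stalkwise tor amplitude to a bounded complex of modules flat over the base.** -/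
theorem hasRel_of_relAmp [Flat f] {a b : ℤ} {K : DCoh.D X} (h : ∀ x, RelAmpAt f a b K x) :
    DCoh.HasRelFlatAmplitudeIn f a b K := by
  have hz0 : ∀ i, IsZero ((0 : CochainComplex X.Modules ℤ).X i) := fun i =>
    (HomologicalComplex.eval _ _ i).map_isZero (isZero_zero _)
  obtain ⟨F, -, -, ⟨eF⟩⟩ := KFlat.exists_isKFlat_rep K
  have : F.IsLE b := (CochainComplex.isLE_iff F b).2 fun i hi => (exactAt_iff_isZero_homology _ _).2
    ((isZero_homology_of_relAmp h i hi).of_iso ((KFlat.hdIso F i).symm ≪≫
      (DerivedCategory.homologyFunctor X.Modules i).mapIso eF))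
  have hq : QuasiIso (F.ιTruncLE b) := (CochainComplex.quasiIso_ιTruncLE_iff F b).2 inferInstance
  obtain ⟨P, q, -, hPflat, hq', hPb⟩ := KFlat.exists_resolution_le_sch (F.truncLE b) b
  let e' : DCoh.toD X P ≅ K := @asIso _ _ _ _ (DerivedCategory.Q.map (q ≫ F.ιTruncLE b)) inferInstance ≪≫ eF
  let Q := fun x : X => ((stA f x).mapHomologicalComplex (ComplexShape.up ℤ)).obj P
  let eQ := fun x : X => ((stA f x).mapDerivedCategoryFactors.app P).symm ≪≫ (stA f x).mapDerivedCategory.mapIso e'
  have hQb : ∀ x, DRing.VanishesAbove (Q x) b := fun x i hi =>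
    (stA f x).map_isZero (P.isZero_of_isStrictlyLE b i hi)
  have hQf : ∀ x, DRing.TermwiseFlat (Q x) := fun x i => flatOver_of_flat f (hPflat i) x
  have hv : ∀ x, DRingKP.Van a b (Q x) := fun x =>
    DRingKP.torVan_rep (DRingKP.torVan_of_amp (h x)) (hQb x) (hQf x) (eQ x)
  have hex : ∀ i, i < a → ∀ x, (Q x).ExactAt i := fun i hi x => by
    rw [exactAt_iff_isZero_homology]
    exact ((hv x (𝟙_ (ModuleCat.{u} (S.presheaf.stalk (f.base x)))) i (Or.inl hi))).of_iso
      ((HomologicalComplex.homologyFunctor _ _ i).mapIso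
        (HomologicalComplex.Hom.isoOfComponents (fun n => ρ_ ((Q x).X n))
          fun p q _ => (rightUnitor_naturality _).symm)).symm
  have : P.IsGE a := (CochainComplex.isGE_iff P a).2 fun i hi => by
    rw [exactAt_iff_isZero_homology]
    refine KFlat.isZero_of_stalks _ fun x => ?_
    have h2 : Subsingleton ((stA f x).obj (P.homology i)) := ModuleCat.subsingleton_of_isZero
      (((exactAt_iff_isZero_homology _ _).1 (hex i hi x)).of_iso ((P.sc i).mapHomologyIso (stA f x)).symm)
    exact @ModuleCat.isZero_of_subsingleton _ _ _ h2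
  have hq'' : QuasiIso (P.πTruncGE a) := (CochainComplex.quasiIso_πTruncGE_iff P a).2 inferInstance
  refine ⟨P.truncGE a, fun i hi => ?_, fun i => ?_,
    ⟨(@asIso _ _ _ _ (DerivedCategory.Q.map (P.πTruncGE a)) inferInstance).symm ≪≫ e'⟩⟩
  · rcases hi with hi | hi
    · exact (P.truncGE a).isZero_of_isStrictlyGE a i hi
    · by_cases hia : i ≤ a
      · rcases hia.eq_or_lt with rfl | hia
        · exact (((P.isZero_of_isStrictlyLE b _ hi)).of_epi (P.pOpcycles i)).of_iso
            (HomologicalComplex.truncGEXIsoOpcycles P (ComplexShape.embeddingUpIntGE i)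
              (i := 0) (i' := i) (by simp) ((ComplexShape.boundaryGE_embeddingUpIntGE_iff i 0).2 rfl))
        · exact (P.truncGE a).isZero_of_isStrictlyGE a i hia
      · obtain ⟨k, rfl⟩ := Int.le.dest (show a ≤ i by lia)
        exact (P.isZero_of_isStrictlyLE b _ hi).of_iso
          (HomologicalComplex.truncGEXIso P (ComplexShape.embeddingUpIntGE a) (i := k) (by simp)
            (fun h' => by have := (ComplexShape.boundaryGE_embeddingUpIntGE_iff a k).1 h'; lia))
  · by_cases hi : a ≤ i
    · by_cases hk : i = a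
      · subst hk
        refine isFlatOver_of_iso (HomologicalComplex.truncGEXIsoOpcycles P (ComplexShape.embeddingUpIntGE i)
          (i := 0) (i' := i) (by simp) ((ComplexShape.boundaryGE_embeddingUpIntGE_iff i 0).2 rfl)).symm ?_
        exact isFlatOver_opcycles i (flatOver_of_flat f (hPflat i)) fun x N =>
          (exactAt_iff_isZero_homology _ _).2 (hv x N (i - 1) (Or.inl (by lia)))
      · obtain ⟨k, rfl⟩ := Int.le.dest hi
        exact isFlatOver_of_iso (HomologicalComplex.truncGEXIso P (ComplexShape.embeddingUpIntGE a) (i := k)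
          (by simp) (fun h => hk (by rw [(ComplexShape.boundaryGE_embeddingUpIntGE_iff a k).1 h]; simp))).symm
          (flatOver_of_flat f (hPflat _))
    · exact flatOver_of_isZero f ((P.truncGE a).isZero_of_isStrictlyGE a i (by lia))

theorem hasRel_iff [Flat f] {a b : ℤ} {K : DCoh.D X} :
    DCoh.HasRelFlatAmplitudeIn f a b K ↔ ∀ x, RelAmpAt f a b K x :=
  ⟨relAmpAt_of_rel, hasRel_of_relAmp⟩

/-! ### restriction to opens -/

/-- stalks over the base and restriction to an open -/
noncomputable def stARestrictIso (V : X.Opens) (v : ↑(V : Scheme.{u})) :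
    Scheme.Modules.restrictFunctor V.ι ⋙ stA (V.ι ≫ f) v ≅ stA f (V.ι.base v) :=
  let ψ := (V.ι.stalkMap v).hom
  haveI : IsIso (V.ι.stalkMap v) := inferInstance
  haveI : (ModuleCat.restrictScalars.{u} ψ).IsEquivalence :=
    ModuleCat.restrictScalars_isEquivalence_of_ringEquiv (asIso (V.ι.stalkMap v)).commRingCatIsoToRingEquiv
  haveI : (ModuleCat.extendScalars.{u, u, u} ψ).IsEquivalence :=
    (ModuleCat.extendRestrictScalarsAdj.{u, u, u} ψ).isEquivalence_left_of_isEquivalence_right
  haveI : IsIso (ModuleCat.extendRestrictScalarsAdj.{u, u, u} ψ).unit := inferInstance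
  Functor.isoWhiskerRight (Scheme.Modules.restrictFunctorIsoPullback V.ι) _ ≪≫
    (Functor.associator _ _ _).symm ≪≫
    Functor.isoWhiskerRight (KFlat.pullStalkIso V.ι v) (ModuleCat.restrictScalars.{u} ((V.ι ≫ f).stalkMap v).hom) ≪≫
    Functor.associator _ _ _ ≪≫
    Functor.isoWhiskerLeft _ (Functor.isoWhiskerLeft _
      (ModuleCat.restrictScalarsComp'.{u} (f.stalkMap (V.ι.base v)).hom ψ ((V.ι ≫ f).stalkMap v).hom
        (congrArg CommRingCat.Hom.hom (Scheme.Hom.stalkMap_comp V.ι f v))) ≪≫
      (Functor.associator _ _ _).symm ≪≫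
      Functor.isoWhiskerRight (asIso (ModuleCat.extendRestrictScalarsAdj.{u, u, u} ψ).unit).symm _ ≪≫
      Functor.leftUnitor _)

lemma relAmpAt_restrict_iff (V : X.Opens) (F : CochainComplex X.Modules ℤ) (a b : ℤ) (v : ↑(V : Scheme.{u})) :
    RelAmpAt (V.ι ≫ f) a b (DerivedCategory.Q.obj ((DCoh.restrictCx V).obj F)) v ↔
      RelAmpAt f a b (DCoh.toD X F) (V.ι.base v) := by
  let e : (stA (V.ι ≫ f) v).mapDerivedCategory.obj (DerivedCategory.Q.obj ((DCoh.restrictCx V).obj F)) ≅
      (stA f (V.ι.base v)).mapDerivedCategory.obj (DCoh.toD X F) :=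
    (stA (V.ι ≫ f) v).mapDerivedCategoryFactors.app _ ≪≫
      DerivedCategory.Q.mapIso (show ((stA (V.ι ≫ f) v).mapHomologicalComplex (ComplexShape.up ℤ)).obj
          ((DCoh.restrictCx V).obj F) ≅ ((stA f (V.ι.base v)).mapHomologicalComplex (ComplexShape.up ℤ)).obj F from
        HomologicalComplex.Hom.isoOfComponents (fun n => (stARestrictIso (f := f) V v).app (F.X n))
        fun p q _ => ((stARestrictIso (f := f) V v).hom.naturality (F.d p q)).symm) ≪≫
      ((stA f (V.ι.base v)).mapDerivedCategoryFactors.app F).symm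
  exact ⟨fun h => DRingKP.amp_of_iso e h, fun h => DRingKP.amp_of_iso e.symm h⟩

/-- **Local finiteness of the relative tor dimension, stalkwise.** -/
theorem locHas_iff [Flat f] {K : DCoh.D X} :
    DCoh.LocHasFiniteRelTorDim f K ↔
      ∀ x : X, ∃ (V : X.Opens) (a b : ℤ), x ∈ V ∧ ∀ y ∈ V, RelAmpAt f a b K y := by
  refine forall_congr' fun x => exists₃_congr fun V a b => and_congr_right fun _ => ?_
  constructor
  · intro h y hy
    obtain ⟨F, -, -, ⟨eF⟩⟩ := KFlat.exists_isKFlat_rep K
    exact relAmpAt_of_iso eF ((relAmpAt_restrict_iff V F a b ⟨y, hy⟩).1 (relAmpAt_of_rel (h F ⟨eF⟩) ⟨y, hy⟩))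
  · rintro h F ⟨eF⟩
    exact hasRel_of_relAmp fun v => (relAmpAt_restrict_iff V F a b v).2 (relAmpAt_of_iso eF.symm (h _ v.2))

end Groth.Agent.DQCoh
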