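import Groth.Agent.DQCoh.Devissage
import Groth.Agent.DerPerf.PseudoCoh
import Groth.Agent.QC.Pullback
import Groth.Agent.TildeKFlat.Main
import Groth.Agent.DRingKP.Nilp

/-!
# Derived pullback preserves quasi-coherent cohomology
-/

set_option backward.isDefEq.respectTransparency false
set_option backward.isDefEq.respectTransparency.types false
set_option linter.style.haveILetI false
set_option autoImplicit false

universe u

open CategoryTheory Limits AlgebraicGeometry HomologicalComplex

attribute [local instance] HasDerivedCategory.standard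

namespace Groth.Agent.DQCoh

open Groth.Agent.KFlat (resF resψ)

variable {X Y : Scheme.{u}}

/-- The datum of a functor of modules. -/
noncomputable def ofFunctor (T : Y.Modules ⥤ X.Modules) [T.Additive] [PreservesColimitsOfShape ℕ T]
    (hT : KFlat.KFlatAcyclic T) : Datum Y X where
  Φ := T.mapHomologicalComplex (ComplexShape.up ℤ)
  quasiIso_map a ha hP hP' := @KFlat.quasiIso_map_of_kFlat _ _ T _ hT _ _ a ha hP hP'
  shortExact S σ := KFlat.shortExact_of_splitting fun n => (σ n).map T
  shift K n := ⟨(((T.mapHomologicalComplex (ComplexShape.up ℤ)).commShiftIso n).app K)⟩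
  colim := by
    refine ⟨fun {K} => ⟨fun {c} hc => ⟨HomologicalComplex.isColimitOfEval _ _ fun n => ?_⟩⟩⟩
    exact (isColimitOfPreserves (eval Y.Modules (ComplexShape.up ℤ) n ⋙ T) hc)

lemma rightBounded_ofFunctor (T : Y.Modules ⥤ X.Modules) [T.Additive] [PreservesColimitsOfShape ℕ T]
    (hT : KFlat.KFlatAcyclic T) : RightBounded (ofFunctor T hT) := by
  refine ⟨0, fun P hP n hn i hi => ?_⟩
  have : QuasiIso (P.ιTruncLE n) := (CochainComplex.quasiIso_ιTruncLE_iff P n).2 hn
  obtain ⟨P', q, hP', -, hq, hPb⟩ := KFlat.exists_resolution_le_sch (P.truncLE n) n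
  have := KFlat.quasiIso_map_of_kFlat hT (q ≫ P.ιTruncLE n) hP' hP
  exact (ShortComplex.isZero_homology_of_isZero_X₂ _ (T.map_isZero
    (P'.isZero_of_isStrictlyLE n i (by omega)))).of_iso
    (isoOfQuasiIsoAt ((T.mapHomologicalComplex (ComplexShape.up ℤ)).map (q ≫ P.ιTruncLE n)) i).symm

lemma isQCoh_homology_of_X (C : CochainComplex X.Modules ℤ) (h : ∀ n, Coh.IsQCoh (C.X n)) (i : ℤ) :
    Coh.IsQCoh (C.homology i) := by
  have hc : Coh.IsQCoh (C.cycles i) :=
    QC.isQCoh_of_iso (IsLimit.conePointUniqueUpToIso (kernelIsKernel (C.d i (i + 1)))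
      (C.cyclesIsKernel i (i + 1) (by simp))) (QC.isQCoh_kernel (h _) (h _) _)
  exact QC.isQCoh_of_iso (IsColimit.coconePointUniqueUpToIso (cokernelIsCokernel (C.toCycles (i - 1) i))
    (C.homologyIsCokernel (i - 1) i (by simp))) (QC.isQCoh_cokernel (h _) hc _)

/-- A complex of quasi-coherent modules resolving `F`. -/
def HasQCohResolution (F : Y.Modules) : Prop :=
  ∃ (P : CochainComplex Y.Modules ℤ) (q : P ⟶ (HomologicalComplex.single Y.Modules (ComplexShape.up ℤ) 0).obj F),
    DCoh.IsKFlat P ∧ QuasiIso q ∧ ∀ n, Coh.IsQCoh (P.X n)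

lemma hasQCohResolution_spec {R : CommRingCat.{u}} (F : (Spec R).Modules) (hF : Coh.IsQCoh F) :
    HasQCohResolution F := by
  haveI := hF
  let M := (modulesSpecToSheaf.obj F).presheaf.obj (.op ⊤)
  obtain ⟨P, c, -, hflat, -, hc⟩ := DRingKP.exists_kProj_kFlat_resolution
    ((HomologicalComplex.single (ModuleCat.{u} R) (ComplexShape.up ℤ) 0).obj M)
  let T := (tilde.functor R).mapHomologicalComplex (ComplexShape.up ℤ)
  have hc' : QuasiIso (T.map c) := HomologicalComplex.quasiIso_map_of_preservesHomology c (tilde.functor R)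
  let e : T.obj ((HomologicalComplex.single (ModuleCat.{u} R) (ComplexShape.up ℤ) 0).obj M) ≅
      (HomologicalComplex.single (Spec R).Modules (ComplexShape.up ℤ) 0).obj F :=
    (HomologicalComplex.singleMapHomologicalComplex (tilde.functor R) (ComplexShape.up ℤ) 0).app M ≪≫
      (HomologicalComplex.single (Spec R).Modules (ComplexShape.up ℤ) 0).mapIso (QC.isoTildeΓ F)
  exact ⟨T.obj P, T.map c ≫ e.hom, TildeKFlat.tilde_isKFlat P hflat, inferInstance,
    fun n => QC.isQCoh_tilde _⟩

lemma hasQCohResolution_of_isAffine [IsAffine Y] (F : Y.Modules) (hF : Coh.IsQCoh F) :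
    HasQCohResolution F := by
  let g := Y.isoSpec.hom
  let F' := (Scheme.Modules.pullback Y.isoSpec.inv).obj F
  obtain ⟨P, q, hP, hq, hPq⟩ := hasQCohResolution_spec F' (QC.isQCoh_pullback _ hF)
  let G := (Scheme.Modules.pullback g).mapHomologicalComplex (ComplexShape.up ℤ)
  have : PreservesFiniteLimits (Scheme.Modules.pullback g) :=
    preservesFiniteLimits_of_natIso (Scheme.Modules.restrictFunctorIsoPullback g)
  have : QuasiIso (G.map q) := HomologicalComplex.quasiIso_map_of_preservesHomology q _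
  let e : G.obj ((HomologicalComplex.single _ (ComplexShape.up ℤ) 0).obj F') ≅
      (HomologicalComplex.single Y.Modules (ComplexShape.up ℤ) 0).obj F :=
    (HomologicalComplex.singleMapHomologicalComplex (Scheme.Modules.pullback g) (ComplexShape.up ℤ) 0).app F' ≪≫
      (HomologicalComplex.single Y.Modules (ComplexShape.up ℤ) 0).mapIso
        ((Scheme.Modules.pullbackComp g Y.isoSpec.inv).app F ≪≫
          (Scheme.Modules.pullbackCongr Y.isoSpec.hom_inv_id).app F ≪≫ (Scheme.Modules.pullbackId Y).app F)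
  exact ⟨G.obj P, G.map q ≫ e.hom, KFlat.isKFlat_pullback g hP, inferInstance,
    fun n => QC.isQCoh_pullback g (hPq n)⟩

/-- The datum of pullback. -/
noncomputable def pullDatum (f : X ⟶ Y) : Datum Y X :=
  haveI := (Scheme.Modules.pullbackPushforwardAdjunction f).leftAdjoint_preservesColimits.{0, 0}
  ofFunctor (Scheme.Modules.pullback f) (KFlat.kFlatAcyclic_pullback f)

lemma isQCoh_of_restrict_opens {M : X.Modules}
    (h : ∀ x : X, ∃ V : X.Opens, x ∈ V ∧ Coh.IsQCoh (M.restrict V.ι)) : Coh.IsQCoh M :=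
  QC.isQCoh_of_local fun x => by
    obtain ⟨V, hx, hV⟩ := h x
    exact ⟨_, V.ι, inferInstance, by rw [Scheme.Opens.range_ι]; exact hx, hV⟩

theorem base_pullDatum (f : X ⟶ Y) : Base (pullDatum f) := fun F hF i => by
  refine isQCoh_of_restrict_opens fun x => ?_
  obtain ⟨U, hU, hx⟩ := QC.exists_affine_mem (f.base x)
  refine ⟨f ⁻¹ᵁ U, hx, ?_⟩
  haveI : IsAffine (U : Scheme.{u}) := hU
  let P₀ := (resF Y).obj ((HomologicalComplex.single Y.Modules (ComplexShape.up ℤ) 0).obj F)
  let q₀ := (resψ Y).app ((HomologicalComplex.single Y.Modules (ComplexShape.up ℤ) 0).obj F)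
  let R := DCoh.restrictCx U
  haveI : PreservesFiniteLimits (Scheme.Modules.restrictFunctor U.ι) := inferInstance
  haveI : QuasiIso (R.map q₀) :=
    HomologicalComplex.quasiIso_map_of_preservesHomology q₀ (Scheme.Modules.restrictFunctor U.ι)
  let s : R.obj ((HomologicalComplex.single Y.Modules (ComplexShape.up ℤ) 0).obj F) ≅
      (HomologicalComplex.single _ (ComplexShape.up ℤ) 0).obj (F.restrict U.ι) :=
    (HomologicalComplex.singleMapHomologicalComplex (Scheme.Modules.restrictFunctor U.ι)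
      (ComplexShape.up ℤ) 0).app F
  let p := f ∣_ U
  obtain ⟨P, q, hP, hq, hPq⟩ := hasQCohResolution_of_isAffine (F.restrict U.ι) (QC.isQCoh_restrict _ hF)
  have h1 : GoodAt (pullDatum p) ((HomologicalComplex.single _ (ComplexShape.up ℤ) 0).obj (F.restrict U.ι)) i :=
    (goodAt_iff hP q i).2 (isQCoh_homology_of_X _ (fun n => QC.isQCoh_pullback p (hPq n)) i)
  have h2 := (goodAt_iff (D := pullDatum p) (DerPerf.isKFlat_restrictCx U (KFlat.isKFlat_resF _))
    (R.map q₀ ≫ s.hom) i).1 h1
  exact QC.isQCoh_of_iso ((homologyFunctor _ _ i).mapIso (DerPerf.pullRestrictCxIso f U P₀).symm ≪≫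
    ((((Scheme.Modules.pullback f).mapHomologicalComplex _).obj P₀).sc i).mapHomologyIso
      (Scheme.Modules.restrictFunctor (f ⁻¹ᵁ U).ι)) h2

/-- **`Lf^*` preserves `D_QCoh`.** -/
theorem isQCohD_Lpull (f : X ⟶ Y) [DCoh.HasLpull f] (K : DCoh.D Y) (hK : DCoh.IsQCohD K) :
    DCoh.IsQCohD ((DCoh.Lpull f).obj K) := fun i => by
  obtain ⟨F, hF, -, ⟨e⟩⟩ := KFlat.exists_isKFlat_rep K
  have hC : ∀ j, Coh.IsQCoh (F.homology j) := fun j =>
    QC.isQCoh_of_iso ((DerivedCategory.homologyFunctor _ j).mapIso e.symm ≪≫ KFlat.hdIso F j) (hK j)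
  have h := (goodAt_iff hF (𝟙 F) i).1
    (good_of_qcoh (base_pullDatum f) (rightBounded_ofFunctor _ _) hC i)
  exact QC.isQCoh_of_iso ((KFlat.hdIso _ i).symm ≪≫ (DerivedCategory.homologyFunctor _ i).mapIso
    ((KFlat.lpullIso f hF).symm ≪≫ (DCoh.Lpull f).mapIso e)) h

end Groth.Agent.DQCoh
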