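import Groth.Agent.HDU.Cover
import Groth.Agent.HDU.ModData
import Groth.Agent.HDU.Top
import Groth.Agent.CohQC.CechVanish
import Groth.Agent.TorsSh.FullyFaithful
import Groth.Agent.DQCoh.Pullback

/-!
# Derived categories of affine schemes
-/

set_option backward.isDefEq.respectTransparency false
set_option backward.isDefEq.respectTransparency.types false
set_option linter.style.haveILetI false
set_option autoImplicit false

universe u

open CategoryTheory Limits AlgebraicGeometry HomologicalComplex Opposite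

attribute [local instance] HasDerivedCategory.standard

namespace Groth.Agent.DQCoh

variable {X : Scheme.{u}}

/-- Global cohomology of a complex with quasi-coherent cohomology on an affine open. -/
theorem η_bijective_affine (K : DCoh.D X) (hK : DCoh.IsQCohD K) (U : X.Opens) (hU : IsAffineOpen U)
    (q : ℤ) : Function.Bijective ((HDU.modData X.sheaf).η K q U) := by
  haveI : IsGrothendieckAbelian.{u} X.Modules := KFlat.isGrothendieck X.sheaf
  haveI : IsGrothendieckAbelian.{u} (ModSite.Mod X.sheaf) := KFlat.isGrothendieck X.sheaf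
  haveI : HasProduct (CohCx.truncTower K) :=
    have := HDU.hasProduct_derived (A := X.Modules) (T := ULift.{u} ℕ)
      (fun n => CohCx.truncTower K n.down)
    hasLimit_of_iso (F := (Discrete.equivalence (Equiv.ulift.{u}.symm : ℕ ≃ ULift.{u} ℕ)).functor ⋙
        Discrete.functor fun n : ULift.{u} ℕ => CohCx.truncTower K n.down)
      (Discrete.natIso fun _ => Iso.refl _)
  let B : Set X.Opens := {V | IsAffineOpen V}
  have hB : ∀ V : X.Opens, ∃ (ι : Type u) (Y : ι → X.Opens) (f : ∀ i, Y i ⟶ V),
      Sieve.ofArrows Y f ∈ Opens.grothendieckTopology X V ∧ ∀ i, Y i ∈ B :=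
    fun V => HDU.basis_cover B X.isBasis_affineOpens V
  have van : ∀ V ∈ B, ∀ (i : ℤ) (j : ℤ), 0 < j →
      (HDU.modData X.sheaf).Van ((DerivedCategory.homologyFunctor X.Modules i).obj K) j V := by
    intro V hV i j hj
    obtain ⟨p, rfl⟩ : ∃ p : ℕ, j = ((p + 1 : ℕ) : ℤ) := ⟨(j - 1).toNat, by omega⟩
    haveI : (DCoh.HD K i).IsQuasicoherent := hK i
    exact HDU.modVan X.sheaf _ (p + 1) (by omega) V (CohQC.hu_vanish_of_isAffineOpen (DCoh.HD K i) hV p)
  refine HDU.η_bijective_of_acyclic (HDU.modData X.sheaf) K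
    (HDU.isRlimVia_of_locally_bounded (HDU.modData X.sheaf) K B hB fun V hV => ⟨fun _ => 0, fun T hT => ?_⟩)
    U (fun j hj i => van U hU i j hj) q
  obtain ⟨ι, Z, f, hfT, hcov, hZ⟩ := HDU.exists_refinement_in B hB T hT
  exact ⟨ι, Z, f, hfT, hcov, fun i m k hk => van _ (hZ i) _ _ hk⟩

/-- `toH0` is bijective on complexes with quasi-coherent cohomology, for an affine open. -/
theorem toH0_bijective_affine (M : DCoh.D X) (hM : DCoh.IsQCohD M) (U : X.Opens) (hU : IsAffineOpen U) :
    Function.Bijective (fun x : (DerivedCategory.singleFunctor X.Modules 0).obj ((HDU.modData X.sheaf).P U) ⟶ M =>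
      HDU.toH0 x) := by
  let S := HDU.modData X.sheaf
  let e := (shiftFunctorZero (DCoh.D X) ℤ).app M
  let s := (DerivedCategory.homologyFunctor X.Modules 0).map e.inv ≫
    ((DerivedCategory.homologyFunctor X.Modules 0).shiftIso (0 : ℤ) 0 0 (by omega)).hom.app M
  have hη := η_bijective_affine M hM U hU 0
  have key : ∀ x, S.η M 0 U (x ≫ e.inv) = S.sec U _ (HDU.toH0 x ≫ s) := fun x => by
    show S.sec U _ (HDU.toH0 (x ≫ e.inv) ≫ _) = _
    exact congrArg (S.sec U _) ((congrArg (· ≫ _) (HDU.toH0_comp x e.inv)).trans (Category.assoc _ _ _))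
  refine ⟨fun x y h => ?_, fun v => ?_⟩
  · rw [← cancel_mono e.inv]
    exact hη.1 (by rw [key, key]; exact congrArg (fun t => S.sec U _ (t ≫ s)) h)
  · obtain ⟨z, hz⟩ := hη.2 (S.sec U _ (v ≫ s))
    refine ⟨z ≫ e.hom, ?_⟩
    have h1 := key (z ≫ e.hom)
    have h2 : (z ≫ e.hom) ≫ e.inv = z := by simp
    rw [h2] at h1
    exact (cancel_mono s).1 ((S.sec U _).injective (h1.symm.trans hz))

section Lifts

variable {A : Type*} [Category A] [Abelian A]

/-- Maps out of `P` see `S₁ ⟶ cycles ⟶ homology ⟶ 0` as an exact sequence. -/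
def Lifts (P : A) (S : ShortComplex A) : Prop :=
  (∀ v : P ⟶ S.homology, ∃ f : P ⟶ S.cycles, f ≫ S.homologyπ = v) ∧
    ∀ f : P ⟶ S.cycles, f ≫ S.homologyπ = 0 → ∃ h : P ⟶ S.X₁, h ≫ S.f = f ≫ S.iCycles

lemma Lifts.of_iso {P : A} {S T : ShortComplex A} (e : S ≅ T) (h : Lifts P S) : Lifts P T := by
  refine ⟨fun v => ?_, fun f hf => ?_⟩
  · obtain ⟨f, hf⟩ := h.1 (v ≫ ShortComplex.homologyMap e.inv)
    refine ⟨f ≫ ShortComplex.cyclesMap e.hom, ?_⟩
    rw [Category.assoc, ← ShortComplex.homologyπ_naturality, reassoc_of% hf,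
      ← ShortComplex.homologyMap_comp, e.inv_hom_id, ShortComplex.homologyMap_id, Category.comp_id]
  · obtain ⟨k, hk⟩ := h.2 (f ≫ ShortComplex.cyclesMap e.inv) (by
      rw [Category.assoc, ← ShortComplex.homologyπ_naturality, reassoc_of% hf, zero_comp])
    refine ⟨k ≫ e.hom.τ₁, ?_⟩
    rw [Category.assoc, e.hom.comm₁₂, reassoc_of% hk, ← ShortComplex.cyclesMap_i,
      ← ShortComplex.cyclesMap_comp_assoc, e.inv_hom_id, ShortComplex.cyclesMap_id, Category.id_comp]

end Lifts

/-- Sections over an affine open of the cohomology of a K-injective complex with quasi-coherent cohomology. -/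
theorem lifts_zero (J : CochainComplex X.Modules ℤ) [J.IsKInjective]
    (hJ : DCoh.IsQCohD (DerivedCategory.Q.obj J)) (U : X.Opens) (hU : IsAffineOpen U) :
    Lifts ((HDU.modData X.sheaf).P U) (J.sc 0) := by
  have hb := toH0_bijective_affine _ hJ U hU
  let P : X.Modules := (HDU.modData X.sheaf).P U
  change Function.Bijective (fun x : (DerivedCategory.singleFunctor X.Modules 0).obj P ⟶ _ => HDU.toH0 x) at hb
  change Lifts P (J.sc 0)
  let r := (DerivedCategory.homologyFunctorFactors X.Modules 0).inv.app J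
  refine ⟨fun v => ?_, fun f hf => ?_⟩
  · obtain ⟨x, hx⟩ := hb.2 (v ≫ r)
    obtain ⟨φ, rfl⟩ := KInj.Q_map_surjective (K := (CochainComplex.singleFunctor X.Modules 0).obj P) x
    let f₀ := (singleObjXSelf (ComplexShape.up ℤ) 0 P).inv ≫ φ.f 0
    have hf₀ : f₀ ≫ J.d 0 1 = 0 := by
      simp [f₀, φ.comm 0 1, CochainComplex.singleFunctor, CochainComplex.singleFunctors]
    refine ⟨J.liftCycles f₀ 1 (by simp) hf₀, ?_⟩
    refine (cancel_mono r).1 ?_
    rw [Category.assoc, ← hx]
    exact (HDU.toH0_mkHom _ φ (by rw [liftCycles_i])).symm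
  · let φ : (CochainComplex.singleFunctor X.Modules 0).obj P ⟶ J :=
      HomologicalComplex.mkHomFromSingle (f ≫ J.iCycles 0) (fun i _ => by simp)
    have h0 : (DerivedCategory.Q : _ ⥤ DCoh.D X).map φ = DerivedCategory.Q.map 0 := by
      rw [Functor.map_zero]
      refine hb.1 ?_
      show HDU.toH0 _ = HDU.toH0 0
      rw [HDU.toH0_mkHom f φ (by simp only [φ, mkHomFromSingle_f, Iso.inv_hom_id_assoc]), ← Category.assoc]
      erw [hf, zero_comp]
      simp [HDU.toH0]
    obtain ⟨H⟩ := KInj.nonempty_homotopy_of_Q_map_eq h0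
    refine ⟨(singleObjXSelf (ComplexShape.up ℤ) 0 P).inv ≫ H.hom 0 ((ComplexShape.up ℤ).prev 0), ?_⟩
    have h1 := H.comm 0
    simp only [φ, sub_zero, zero_f, add_zero, mkHomFromSingle_f] at h1
    have h2 : dNext 0 H.hom = 0 := by
      rw [dNext_eq _ (show (ComplexShape.up ℤ).Rel 0 1 by simp)]
      simp [CochainComplex.singleFunctor, CochainComplex.singleFunctors]
    rw [h2, zero_add] at h1
    change (_ ≫ H.hom 0 ((ComplexShape.up ℤ).prev 0)) ≫ J.d _ 0 = _
    rw [Category.assoc]
    refine ((Iso.inv_comp_eq _).2 ?_)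
    exact h1.symm

/-- The same in any degree. -/
theorem lifts_deg (I : CochainComplex X.Modules ℤ) [I.IsKInjective]
    (hI : DCoh.IsQCohD (DerivedCategory.Q.obj I)) (U : X.Opens) (hU : IsAffineOpen U) (q : ℤ) :
    Lifts ((HDU.modData X.sheaf).P U) (I.sc q) := by
  have : (I⟦q⟧).IsKInjective := inferInstance
  refine Lifts.of_iso ((CochainComplex.shiftShortComplexFunctorIso X.Modules q 0 q (by omega)).app I)
    (lifts_zero (I⟦q⟧) (fun i => ?_) U hU)
  exact QC.isQCoh_of_iso (((DerivedCategory.homologyFunctor X.Modules i).mapIso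
    (((DerivedCategory.Q : _ ⥤ DCoh.D X).commShiftIso q).app I)) ≪≫
    ((DerivedCategory.homologyFunctor X.Modules 0).shiftIso q i (q + i) rfl).app _).symm (hI (q + i))

section Spec

variable {R : CommRingCat.{u}} [PreservesFiniteLimits (tilde.functor R)]

instance : PreservesLimitsOfSize.{u, u} (moduleSpecΓFunctor (R := R)) :=
  (tilde.adjunction (R := R)).rightAdjoint_preservesLimits

instance : (tilde.functor R).Additive := Functor.additive_of_preserves_binary_products _

instance : (moduleSpecΓFunctor (R := R)).Additive := (tilde.adjunction (R := R)).right_adjoint_additive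

lemma gamma_exact (S : ShortComplex (Spec (CommRingCat.of R)).Modules)
    (hS : Lifts ((HDU.modData (Spec (CommRingCat.of R)).sheaf).P (⊤ : (Spec (CommRingCat.of R)).Opens)) S) :
    ((ShortComplex.mk S.toCycles S.homologyπ S.toCycles_comp_homologyπ).map (moduleSpecΓFunctor (R := R))).Exact ∧
      Epi ((moduleSpecΓFunctor (R := R)).map S.homologyπ) := by
  let D := HDU.modData (Spec (CommRingCat.of R)).sheaf
  refine ⟨?_, ?_⟩
  · rw [ShortComplex.moduleCat_exact_iff]
    intro x hx
    let f : D.P (⊤ : (Spec (CommRingCat.of R)).Opens) ⟶ S.cycles := (D.sec (⊤ : (Spec (CommRingCat.of R)).Opens) S.cycles).symm x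
    have hf : f ≫ S.homologyπ = 0 := by
      apply (D.sec (⊤ : (Spec (CommRingCat.of R)).Opens) S.homology).injective
      refine (D.sec_comp f S.homologyπ).trans (Eq.trans ?_ (map_zero _).symm)
      erw [AddEquiv.apply_symm_apply]
      exact hx
    obtain ⟨h, hh⟩ := hS.2 f hf
    refine ⟨D.sec (⊤ : (Spec (CommRingCat.of R)).Opens) S.X₁ h, ?_⟩
    have hh' : h ≫ S.toCycles = f := by rw [← cancel_mono S.iCycles, Category.assoc, S.toCycles_i, hh]
    refine (D.sec_comp h S.toCycles).symm.trans ?_
    erw [hh']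
    exact (D.sec (⊤ : (Spec (CommRingCat.of R)).Opens) S.cycles).apply_symm_apply x
  · rw [ModuleCat.epi_iff_surjective]
    intro y
    obtain ⟨f, hf⟩ := hS.1 ((D.sec (⊤ : (Spec (CommRingCat.of R)).Opens) S.homology).symm y)
    refine ⟨D.sec (⊤ : (Spec (CommRingCat.of R)).Opens) S.cycles f, ?_⟩
    refine (D.sec_comp f S.homologyπ).symm.trans ?_
    erw [hf]
    exact (D.sec (⊤ : (Spec (CommRingCat.of R)).Opens) S.homology).apply_symm_apply y

set_option maxHeartbeats 1000000 in
lemma quasiIso_mapNatTrans_counit (S : ShortComplex (Spec (CommRingCat.of R)).Modules)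
    (hS : Lifts ((HDU.modData (Spec (CommRingCat.of R)).sheaf).P (⊤ : (Spec (CommRingCat.of R)).Opens)) S) (hH : Coh.IsQCoh S.homology) :
    ShortComplex.QuasiIso (S.mapNatTrans (Scheme.Modules.fromTildeΓNatTrans (R := R))) := by
  let G := moduleSpecΓFunctor (R := R) ⋙ tilde.functor R
  obtain ⟨hex, hepi⟩ := gamma_exact S hS
  let T := (ShortComplex.mk S.toCycles S.homologyπ S.toCycles_comp_homologyπ).map G
  have hT : T.Exact := hex.map (tilde.functor R)
  haveI : Epi T.g := @Functor.map_epi _ _ _ _ (tilde.functor R) _ _ _ _ hepi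
  let hk : IsLimit (KernelFork.ofι (f := (S.map G).g) (G.map S.iCycles)
      (by simp [← Functor.map_comp])) :=
    (KernelFork.ofι S.iCycles S.iCycles_g).isLimitMapConeEquiv G (isLimitOfPreserves G S.cyclesIsKernel)
  have hlift : hk.lift (KernelFork.ofι (S.map G).f (S.map G).zero) = T.f := by
    refine Fork.IsLimit.hom_ext hk ?_
    refine (hk.fac _ WalkingParallelPair.zero).trans ?_
    show G.map S.f = G.map S.toCycles ≫ G.map S.iCycles
    rw [← Functor.map_comp, S.toCycles_i]
  have hz : hk.lift (KernelFork.ofι (S.map G).f (S.map G).zero) ≫ G.map S.homologyπ = 0 := by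
    rw [hlift]; exact T.zero
  let T' : ShortComplex (Spec (CommRingCat.of R)).Modules := ShortComplex.mk _ _ hz
  have hT' : T'.Exact := ShortComplex.exact_of_iso (ShortComplex.isoMk (S₁ := T) (S₂ := T') (Iso.refl _)
    (Iso.refl _) (Iso.refl _) ((Category.id_comp _).trans (hlift.trans (Category.comp_id _).symm))
    ((Category.id_comp _).trans (Category.comp_id _).symm)) hT
  haveI : Epi T'.g := (inferInstance : Epi T.g)
  let h₁ : (S.map G).LeftHomologyData :=
    { K := G.obj S.cycles
      H := G.obj S.homology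
      i := G.map S.iCycles
      π := G.map S.homologyπ
      wi := by simp [← Functor.map_comp]
      hi := hk
      wπ := hz
      hπ := hT'.gIsCokernel }
  have hl₂ : S.cyclesIsKernel.lift (KernelFork.ofι S.f S.zero) = S.toCycles := by
    rw [← cancel_mono S.iCycles, S.toCycles_i]
    exact S.cyclesIsKernel.fac _ WalkingParallelPair.zero
  have hz₂ : S.cyclesIsKernel.lift (KernelFork.ofι S.f S.zero) ≫ S.homologyπ = 0 := by
    rw [hl₂]; exact S.toCycles_comp_homologyπ
  have hT₂ : (ShortComplex.mk _ _ hz₂).Exact := ShortComplex.exact_of_iso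
    (ShortComplex.isoMk (S₁ := ShortComplex.mk _ _ S.toCycles_comp_homologyπ) (S₂ := ShortComplex.mk _ _ hz₂)
      (Iso.refl _) (Iso.refl _) (Iso.refl _) ((Category.id_comp _).trans (hl₂.trans (Category.comp_id _).symm))
      ((Category.id_comp _).trans (Category.comp_id _).symm))
    (ShortComplex.exact_of_g_is_cokernel _ S.homologyIsCokernel)
  haveI : Epi (ShortComplex.mk _ _ hz₂).g := (inferInstance : Epi S.homologyπ)
  let hC := hT₂.gIsCokernel
  let h₂ : (S.map (𝟭 _)).LeftHomologyData :=
    { K := S.cycles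
      H := S.homology
      i := S.iCycles
      π := S.homologyπ
      wi := S.iCycles_g
      hi := S.cyclesIsKernel
      wπ := hz₂
      hπ := hC }
  let ν := Scheme.Modules.fromTildeΓNatTrans (R := R)
  let γ : ShortComplex.LeftHomologyMapData (S.mapNatTrans ν) h₁ h₂ :=
    { φK := ν.app S.cycles
      φH := ν.app S.homology
      commi := (ν.naturality S.iCycles).symm
      commf' := by
        rw [← cancel_mono h₂.i, Category.assoc, Category.assoc, ShortComplex.LeftHomologyData.f'_i]
        erw [← ν.naturality S.iCycles]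
        erw [ShortComplex.LeftHomologyData.f'_i_assoc]
        exact ν.naturality S.f
      commπ := ν.naturality S.homologyπ }
  rw [γ.quasiIso_iff]
  haveI := hH
  exact Scheme.Modules.isIso_fromTildeΓ_of_isQuasicoherent (R := R) S.homology

/-- The counit computes K-injective complexes with quasi-coherent cohomology. -/
theorem quasiIso_counit (I : CochainComplex (Spec (CommRingCat.of R)).Modules ℤ) [I.IsKInjective]
    (hI : DCoh.IsQCohD (DerivedCategory.Q.obj I)) :
    QuasiIso ((KInj.mapHomologicalComplexAdj (tilde.adjunction (R := R)) (ComplexShape.up ℤ)).counit.app I) := by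
  refine ⟨fun i => ?_⟩
  rw [quasiIsoAt_iff]
  have h1 := quasiIso_mapNatTrans_counit (I.sc i) (lifts_deg I hI _ (isAffineOpen_top _) i)
    (QC.isQCoh_of_iso ((DerivedCategory.homologyFunctorFactors (Spec (CommRingCat.of R)).Modules i).app I) (hI i))
  exact h1

lemma counitComputes : TorsSh.CounitComputes (tilde.adjunction (R := R)) := fun P => by
  haveI : IsGrothendieckAbelian.{u} (Spec (CommRingCat.of R)).Modules := KFlat.isGrothendieck (Spec (CommRingCat.of R)).sheaf
  let T := (tilde.functor R).mapHomologicalComplex (ComplexShape.up ℤ)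
  let a := KInj.mapHomologicalComplexAdj (tilde.adjunction (R := R)) (ComplexShape.up ℤ)
  obtain ⟨I, f, hIK, hf, -, -⟩ := KInj.exists_kInjective (T.obj P)
  haveI := hIK
  haveI := hf
  have hI : DCoh.IsQCohD (DerivedCategory.Q.obj I) := fun i =>
    QC.isQCoh_of_iso ((isoOfQuasiIsoAt f i) ≪≫ ((DerivedCategory.homologyFunctorFactors _ i).app I).symm)
      (isQCoh_homology_of_X (T.obj P) (fun n => QC.isQCoh_tilde (P.X n)) i)
  have hq := quasiIso_counit I hI
  refine ⟨I, hIK, KInj.isKInjective_rightAdjoint (tilde.adjunction (R := R)) I hIK, hq, ⟨?_⟩⟩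
  have hg : QuasiIso (a.homEquiv _ _ f) := by
    haveI : QuasiIso (T.map (a.homEquiv _ _ f)) := by
      have h2 : T.map (a.homEquiv _ _ f) ≫ a.counit.app I = f :=
        (a.homEquiv_counit _ _ _).symm.trans ((a.homEquiv _ _).symm_apply_apply f)
      haveI := hq
      haveI : QuasiIso (T.map (a.homEquiv _ _ f) ≫ a.counit.app I) := by rw [h2]; exact hf
      exact quasiIso_of_comp_right _ (a.counit.app I)
    exact HomologicalComplex.quasiIso_map_iff_of_preservesHomology _ (tilde.functor R) |>.1 inferInstance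
  exact @asIso _ _ _ _ (DerivedCategory.Q.map (a.homEquiv _ _ f))
    ((DerivedCategory.isIso_Q_map_iff_quasiIso _ _).2 hg)

theorem tildeD_affine :
    (DCoh.tildeD R).Full ∧ (DCoh.tildeD R).Faithful ∧
      ∀ K : DCoh.D (Spec (CommRingCat.of R)), DCoh.IsQCohD K ↔ ∃ M, Nonempty ((DCoh.tildeD R).obj M ≅ K) := by
  refine ⟨TorsSh.full_mapDerived counitComputes, TorsSh.faithful_mapDerived counitComputes, fun K => ⟨fun hK => ?_, ?_⟩⟩
  · haveI : IsGrothendieckAbelian.{u} (Spec (CommRingCat.of R)).Modules := KFlat.isGrothendieck (Spec (CommRingCat.of R)).sheaf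
    obtain ⟨I, hIK, ⟨e⟩⟩ := HDU.exists_kInj_rep (A := (Spec (CommRingCat.of R)).Modules) K
    haveI := hIK
    have hI : DCoh.IsQCohD (DerivedCategory.Q.obj I) := fun i =>
      QC.isQCoh_of_iso ((DerivedCategory.homologyFunctor (Spec (CommRingCat.of R)).Modules i).mapIso e).symm (hK i)
    haveI := (DerivedCategory.isIso_Q_map_iff_quasiIso _ _).2 (quasiIso_counit I hI)
    exact ⟨DerivedCategory.Q.obj ((moduleSpecΓFunctor.mapHomologicalComplex (ComplexShape.up ℤ)).obj I),
      ⟨(tilde.functor R).mapDerivedCategoryFactors.app _ ≪≫ asIso (DerivedCategory.Q.map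
        ((KInj.mapHomologicalComplexAdj (tilde.adjunction (R := R)) (ComplexShape.up ℤ)).counit.app I)) ≪≫ e⟩⟩
  · rintro ⟨M, ⟨e⟩⟩ i
    let P := (DerivedCategory.Q : _ ⥤ DerivedCategory (ModuleCat.{u} R)).objPreimage M
    exact QC.isQCoh_of_iso ((DerivedCategory.homologyFunctor (Spec (CommRingCat.of R)).Modules i).mapIso
        (((tilde.functor R).mapDerivedCategoryFactors.app P).symm ≪≫
          (tilde.functor R).mapDerivedCategory.mapIso (DerivedCategory.Q.objObjPreimageIso M) ≪≫ e))
      (QC.isQCoh_of_iso ((DerivedCategory.homologyFunctorFactors (Spec (CommRingCat.of R)).Modules i).app _).symm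
        (isQCoh_homology_of_X _ (fun n => QC.isQCoh_tilde _) i))

end Spec

end Groth.Agent.DQCoh
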