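import Groth.Agent.CohQC.CechVanish
import Groth.Agent.CohQC.QuasiAffine
import Groth.Agent.QC.Closure

/-!
# Quasi-coherent modules form a weak Serre subcategory
-/

set_option backward.isDefEq.respectTransparency false
set_option backward.isDefEq.respectTransparency.types false
set_option linter.style.haveILetI false
set_option autoImplicit false

universe u

open CategoryTheory Limits AlgebraicGeometry Opposite

namespace Groth.Agent.DQCoh

variable {X : Scheme.{u}}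

/-- Sections are left exact. -/
lemma exists_app_eq {S : ShortComplex X.Modules} (hS : S.ShortExact) (W : X.Opens) (m : Γ(S.X₂, W))
    (hm : S.g.app W m = 0) : ∃ a : Γ(S.X₁, W), S.f.app W a = m := by
  have hT := CohQC.seq_shortExact hS
  let F := sheafToPresheaf (Opens.grothendieckTopology X) AddCommGrpCat.{u} ⋙
    (CategoryTheory.evaluation _ _).obj (op W)
  have := hT.mono_f
  have h := hT.exact.map_of_mono_of_preservesKernel F
    inferInstance inferInstance
  exact (ShortComplex.ab_exact_iff _).1 h m hm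

/-- Sections are right exact on affine opens. -/
lemma exists_app_eq' {S : ShortComplex X.Modules} (hS : S.ShortExact) (h₁ : Coh.IsQCoh S.X₁) {W : X.Opens}
    (hW : IsAffineOpen W) (c : Γ(S.X₃, W)) : ∃ m : Γ(S.X₂, W), S.g.app W m = c := by
  have hT := CohQC.seq_shortExact hS
  have : Subsingleton (CohSite.HU (S.map (CohQC.toAbF X)).X₁ 1 W) :=
    @CohQC.hu_vanish_of_isAffineOpen X S.X₁ h₁ W hW 0
  exact SiteCoh.sections_surjective hT W c

/-- **Extensions** of quasi-coherent modules are quasi-coherent. -/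
theorem isQCoh_of_shortExact {S : ShortComplex X.Modules} (hS : S.ShortExact) (h₁ : Coh.IsQCoh S.X₁)
    (h₃ : Coh.IsQCoh S.X₃) : Coh.IsQCoh S.X₂ := by
  have := hS.mono_f
  refine QC.isQCoh_iff_isLoc.2 fun U => ?_
  have L₁ := QC.isQCoh_iff_isLoc.1 h₁ U
  have L₃ := QC.isQCoh_iff_isLoc.1 h₃ U
  refine ⟨fun f t => ?_, fun f s hs => ?_⟩
  · obtain ⟨n, c, hc⟩ := L₃.exists_extend f (S.g.app _ t)
    obtain ⟨s₀, hs₀⟩ := exists_app_eq' hS h₁ U.2 c
    let r := QC.resO X (X.basicOpen_le f) f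
    obtain ⟨a, ha⟩ := exists_app_eq hS _ (QC.res S.X₂ (X.basicOpen_le f) s₀ - r ^ n • t) (by
      rw [map_sub, ← QC.app_res, hs₀, hc, Scheme.Modules.Hom.app_smul, sub_self])
    obtain ⟨m, a', ha'⟩ := L₁.exists_extend f a
    refine ⟨m + n, f ^ m • s₀ - S.f.app _ a', ?_⟩
    rw [map_sub, QC.res_smul, QC.app_res, ha', Scheme.Modules.Hom.app_smul, ha, map_pow, smul_sub,
      sub_sub_cancel, smul_smul, ← pow_add]
  · obtain ⟨n, hn⟩ := L₃.exists_pow_smul_eq_zero f (S.g.app _ s) (by rw [QC.app_res, hs, map_zero])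
    obtain ⟨a, ha⟩ := exists_app_eq hS U.1 (f ^ n • s) (by rw [Scheme.Modules.Hom.app_smul, hn])
    obtain ⟨m, hm⟩ := L₁.exists_pow_smul_eq_zero f a (QC.app_injective_of_mono S.f _ (by
      rw [← QC.app_res, ha, map_zero, QC.res_smul, hs, smul_zero]))
    refine ⟨m + n, ?_⟩
    rw [pow_add, ← smul_smul, ← ha, ← Scheme.Modules.Hom.app_smul, hm, map_zero]

lemma isQCoh_of_isZero {M : X.Modules} (h : IsZero M) : Coh.IsQCoh M := by
  have hk : IsZero (kernel (𝟙 (Coh.structureModule X))) := isZero_kernel_of_mono _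
  exact QC.isQCoh_of_iso (hk.iso h) (QC.isQCoh_kernel (QC.isQCoh_unit X) (QC.isQCoh_unit X) _)

/-- The middle of a five term exact sequence. -/
theorem isQCoh_of_exact₅ {A₁ A₂ M A₄ A₅ : X.Modules} (f₁ : A₁ ⟶ A₂) (f₂ : A₂ ⟶ M) (f₃ : M ⟶ A₄)
    (f₄ : A₄ ⟶ A₅) (w₁ : f₁ ≫ f₂ = 0) (w₂ : f₂ ≫ f₃ = 0) (w₃ : f₃ ≫ f₄ = 0)
    (e₁ : (ShortComplex.mk f₁ f₂ w₁).Exact) (e₂ : (ShortComplex.mk f₂ f₃ w₂).Exact)
    (e₃ : (ShortComplex.mk f₃ f₄ w₃).Exact) (h₁ : Coh.IsQCoh A₁) (h₂ : Coh.IsQCoh A₂) (h₄ : Coh.IsQCoh A₄)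
    (h₅ : Coh.IsQCoh A₅) : Coh.IsQCoh M := by
  let T : ShortComplex X.Modules := ShortComplex.mk (kernel.ι f₃) (kernel.lift f₄ f₃ w₃) (by
    rw [← cancel_mono (kernel.ι f₄), Category.assoc, kernel.lift_ι, kernel.condition, zero_comp])
  have : Epi T.g := e₃.epi_kernelLift
  have hT : T.ShortExact :=
    { exact := ShortComplex.exact_of_f_is_kernel _ (KernelFork.IsLimit.ofι' _ _ fun {W} k hk =>
        ⟨kernel.lift f₃ k (by
          have := congrArg (· ≫ kernel.ι f₄) hk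
          simpa [T, kernel.lift_ι] using this), kernel.lift_ι _ _ _⟩)
      mono_f := inferInstanceAs (Mono (kernel.ι f₃))
      epi_g := this }
  refine isQCoh_of_shortExact hT ?_ (QC.isQCoh_kernel h₄ h₅ f₄)
  let p : A₂ ⟶ kernel f₃ := kernel.lift f₃ f₂ w₂
  have : Epi p := e₂.epi_kernelLift
  have wp : f₁ ≫ p = 0 := by
    rw [← cancel_mono (kernel.ι f₃), Category.assoc, kernel.lift_ι, w₁, zero_comp]
  have ep : (ShortComplex.mk f₁ p wp).Exact := by
    refine (ShortComplex.exact_iff_of_epi_of_isIso_of_mono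
      (S₁ := ShortComplex.mk f₁ p wp) (S₂ := ShortComplex.mk f₁ f₂ w₁)
      { τ₁ := 𝟙 _
        τ₂ := 𝟙 _
        τ₃ := kernel.ι f₃
        comm₁₂ := (Category.id_comp _).trans (Category.comp_id _).symm
        comm₂₃ := by simp [p] }).2 e₁
  exact QC.isQCoh_of_iso (IsColimit.coconePointUniqueUpToIso (cokernelIsCokernel f₁) ep.gIsCokernel)
    (QC.isQCoh_cokernel h₁ h₂ f₁)

end Groth.Agent.DQCoh
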