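import Groth.Agent.DerPerf.Tensor

/-!
# `O ⊗ M ≅ M`, naturally
-/

set_option backward.isDefEq.respectTransparency false
set_option backward.isDefEq.respectTransparency.types false
set_option linter.style.haveILetI false
set_option autoImplicit false

universe u

open CategoryTheory Limits AlgebraicGeometry

namespace Groth.Agent.DQCoh

section Site

open Groth.Agent.ModSiteExt MonoidalCategory

variable {C : Type u} [SmallCategory C] {J : GrothendieckTopology C} (O : Sheaf J CommRingCat.{u})

lemma unitTensorIso_natural {M N : ModSite.Mod O} (g : M ⟶ N) :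
    ((ModSite.tensorBi O).obj (ModSite.unit O)).map g ≫ (unitTensorIso O N).hom =
      (unitTensorIso O M).hom ≫ g := by
  let adj := PresheafOfModules.sheafificationAdjunction.{u} (R := ModSite.ringSh O) (𝟙 (ModSite.ringSh O).obj)
  show (Sh O).map (𝟙_ (PM O.obj) ◁ (toPM O).map g) ≫ (Sh O).map (λ_ ((toPM O).obj N)).hom ≫ adj.counit.app N =
    ((Sh O).map (λ_ ((toPM O).obj M)).hom ≫ adj.counit.app M) ≫ g
  rw [← Functor.map_comp_assoc, leftUnitor_naturality, Functor.map_comp, Category.assoc, Category.assoc]
  exact congrArg ((Sh O).map (λ_ ((toPM O).obj M)).hom ≫ ·) (adj.counit.naturality g)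

end Site

variable {X : Scheme.{u}}

/-- `O ⊗ - ≅ 𝟭` -/
noncomputable def unitTensNat (X : Scheme.{u}) :
    (KFlat.schB X).obj (Coh.structureModule X) ≅ 𝟭 X.Modules :=
  NatIso.ofComponents (fun M => DerPerf.unitTensIso M) fun g => unitTensorIso_natural X.sheaf g

/-- `- ⊗ O ≅ 𝟭` -/
noncomputable def tensUnitNat (X : Scheme.{u}) :
    (KFlat.schB X).flip.obj (Coh.structureModule X) ≅ 𝟭 X.Modules :=
  ((KFlat.braid X.sheaf).app (Coh.structureModule X)).symm ≪≫ unitTensNat X

end Groth.Agent.DQCoh
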