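import Groth.Agent.DQCoh.AffinePerf

/-!
# Triangles and cohomological bounds; brutal truncations
-/

set_option backward.isDefEq.respectTransparency false
set_option backward.isDefEq.respectTransparency.types false
set_option linter.style.haveILetI false
set_option autoImplicit false

universe w w' v v' u u'

open CategoryTheory Limits HomologicalComplex Pretriangulated ZeroObject

attribute [local instance] HasDerivedCategory.standard

namespace Groth.Agent.DQCoh

section Calc

variable {C : Type u} [Category.{v} C] [Abelian C]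

local notation "HC" => DerivedCategory.homologyFunctor C

/-- cohomology vanishes in degrees `≥ n` -/
def IsAboveD (n : ℤ) (X : DerivedCategory C) : Prop := ∀ i, n ≤ i → IsZero ((HC i).obj X)

lemma isAboveD_mono {m n : ℤ} (h : m ≤ n) {X : DerivedCategory C} (hX : IsAboveD m X) : IsAboveD n X :=
  fun i hi => hX i (h.trans hi)

lemma isAboveD_of_iso {n : ℤ} {X Y : DerivedCategory C} (e : X ≅ Y) (hX : IsAboveD n X) : IsAboveD n Y :=
  fun i hi => (hX i hi).of_iso ((HC i).mapIso e.symm)

lemma isAboveD_shift {n : ℤ} {X : DerivedCategory C} (hX : IsAboveD n X) (k : ℤ) :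
    IsAboveD (n - k) (X⟦k⟧) :=
  fun i hi => (hX (k + i) (by lia)).of_iso
    (((DerivedCategory.homologyFunctor C 0).shiftIso k i (k + i) rfl).app X)

lemma isAboveD_map {D : Type u'} [Category.{v'} D] [Abelian D] (G : C ⥤ D) [G.Additive]
    [PreservesFiniteLimits G] [PreservesFiniteColimits G] {n : ℤ} {X : DerivedCategory C} (hX : IsAboveD n X) :
    IsAboveD n (G.mapDerivedCategory.obj X) :=
  fun i hi => (G.map_isZero (hX i hi)).of_iso ((homologyDerIso G i).app X)

lemma mIsoD_of_isIso (m : ℤ) {X Y : DerivedCategory C} (f : X ⟶ Y) [IsIso f] : MIsoD m f :=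
  ⟨fun _ _ => inferInstance, inferInstance⟩

lemma mIsoD_mono {m n : ℤ} (h : m ≤ n) {X Y : DerivedCategory C} {f : X ⟶ Y} (hf : MIsoD m f) : MIsoD n f := by
  refine ⟨fun i hi => hf.1 i (by lia), ?_⟩
  obtain rfl | hn := h.eq_or_lt
  · exact hf.2
  · haveI := hf.1 n hn; infer_instance

lemma mIsoD_comp {m : ℤ} {X Y Z : DerivedCategory C} {f : X ⟶ Y} {g : Y ⟶ Z} (hf : MIsoD m f)
    (hg : MIsoD m g) : MIsoD m (f ≫ g) := by
  refine ⟨fun i hi => ?_, ?_⟩
  · haveI := hf.1 i hi; haveI := hg.1 i hi
    rw [Functor.map_comp]; infer_instance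
  · haveI := hf.2; haveI := hg.2
    rw [Functor.map_comp]; infer_instance

/-- the cone criterion -/
lemma mIsoD_iff (m : ℤ) (T : Triangle (DerivedCategory C)) (hT : T ∈ distTriang (DerivedCategory C)) :
    MIsoD m T.mor₁ ↔ IsAboveD m T.obj₃ := by
  constructor
  · rintro ⟨h, h'⟩ i hi
    have he : Epi ((HC i).map T.mor₁) := by
      obtain rfl | hi := hi.eq_or_lt
      · exact h'
      · haveI := h i hi; infer_instance
    haveI := h (i + 1) (by lia)
    exact (DerivedCategory.HomologySequence.exact₃ T hT i (i + 1) rfl).isZero_of_both_zeros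
      ((DerivedCategory.HomologySequence.epi_homologyMap_mor₁_iff T hT i).1 he)
      ((DerivedCategory.HomologySequence.mono_homologyMap_mor₁_iff T hT i (i + 1) rfl).1 inferInstance)
  · intro h
    have he : ∀ i, m ≤ i → Epi ((HC i).map T.mor₁) := fun i hi =>
      (DerivedCategory.HomologySequence.epi_homologyMap_mor₁_iff T hT i).2 ((h i hi).eq_of_tgt _ _)
    refine ⟨fun i hi => ?_, he m le_rfl⟩
    haveI := he i hi.le
    haveI : Mono ((HC i).map T.mor₁) :=
      (DerivedCategory.HomologySequence.mono_homologyMap_mor₁_iff T hT (i - 1) i (by lia)).2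
        ((h (i - 1) (by lia)).eq_of_src _ _)
    exact isIso_of_mono_of_epi _

/-! ### brutal truncation -/

variable (E : CochainComplex C ℤ) (n : ℤ)

/-- terms of the brutal truncation -/
noncomputable def σX (i : ℤ) : C := if n ≤ i then E.X i else 0

/-- identification with the original term -/
noncomputable def σXIso (i : ℤ) (h : n ≤ i) : σX E n i ≅ E.X i := eqToIso (if_pos h)

lemma isZero_σX (i : ℤ) (h : i < n) : IsZero (σX E n i) := by
  rw [σX, if_neg (not_le.2 h)]; exact isZero_zero _

/-- the brutal truncation in degrees `≥ n` -/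
noncomputable def σGE : CochainComplex C ℤ :=
  CochainComplex.of (σX E n)
    (fun i => if h : n ≤ i then (σXIso E n i h).hom ≫ E.d i (i + 1) ≫ (σXIso E n (i + 1) (by lia)).inv else 0)
    fun i => by
      by_cases h : n ≤ i
      · simp [dif_pos h, dif_pos (show n ≤ i + 1 by lia)]
      · simp [dif_neg h]

/-- its inclusion -/
noncomputable def σι : σGE E n ⟶ E where
  f i := if h : n ≤ i then (σXIso E n i h).hom else 0
  comm' i j h := by
    obtain rfl : i + 1 = j := h
    by_cases hi : n ≤ i
    · simp [σGE, dif_pos hi, dif_pos (show n ≤ i + 1 by lia)]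
    · exact (isZero_σX E n i (not_le.1 hi)).eq_of_src _ _

lemma isIso_σι_f (i : ℤ) (h : n ≤ i) : IsIso ((σι E n).f i) := by
  change IsIso (if h : n ≤ i then (σXIso E n i h).hom else 0)
  rw [dif_pos h]; infer_instance

lemma isZero_σGE_X (i : ℤ) (h : i < n) : IsZero ((σGE E n).X i) := isZero_σX E n i h

instance mono_σι_f (i : ℤ) : Mono ((σι E n).f i) := by
  by_cases h : n ≤ i
  · haveI := isIso_σι_f E n i h; infer_instance
  · exact ⟨fun _ _ _ => (isZero_σGE_X E n i (not_le.1 h)).eq_of_tgt _ _⟩

instance mono_σι : Mono (σι E n) := HomologicalComplex.mono_of_mono_f _ fun _ => inferInstance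

/-- the truncation sequence -/
noncomputable def σSeq : ShortComplex (CochainComplex C ℤ) :=
  ShortComplex.mk (σι E n) (cokernel.π (σι E n)) (cokernel.condition _)

lemma σSeq_shortExact : (σSeq E n).ShortExact :=
  { exact := ShortComplex.exact_cokernel (σι E n)
    mono_f := mono_σι E n
    epi_g := inferInstanceAs (Epi (cokernel.π (σι E n))) }

lemma isZero_σQuot (i : ℤ) (h : n ≤ i) : IsZero ((σSeq E n).X₃.X i) := by
  haveI := isIso_σι_f E n i h
  exact ((σSeq_shortExact E n).map_of_exact (HomologicalComplex.eval _ _ i)).isIso_f_iff.1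
    (show IsIso ((σι E n).f i) from inferInstance)

lemma mIsoD_σι : MIsoD n ((DerivedCategory.Q : _ ⥤ DerivedCategory C).map (σι E n)) := by
  refine (mIsoD_iff n (DerivedCategory.triangleOfSES (σSeq_shortExact E n))
    (DerivedCategory.triangleOfSES_distinguished _)).2 fun i hi => ?_
  exact (ShortComplex.isZero_homology_of_isZero_X₂ _ (isZero_σQuot E n i hi)).of_iso
    ((DerivedCategory.homologyFunctorFactors C i).app (σSeq E n).X₃)

end Calc

end Groth.Agent.DQCoh
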