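import Groth.Agent.DQCoh.Devissage
import Groth.Agent.KInj.Ops
import Groth.Agent.KInj.Existence
import Groth.Agent.KFlat.LTensorCx

/-!
# Coproducts in the derived category of a scheme
-/

set_option backward.isDefEq.respectTransparency false
set_option backward.isDefEq.respectTransparency.types false
set_option linter.style.haveILetI false
set_option autoImplicit false

universe w w' v v' u u'

open CategoryTheory Limits HomologicalComplex

namespace Groth.Agent.DQCoh

section Generic

open CochainComplex HomComplex DerivedCategory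

variable {A : Type u} [Category.{v} A] [Abelian A] [HasDerivedCategory.{v'} A]

/-- A coproduct of complexes is a coproduct in the derived category. -/
theorem nonempty_isColimit_Q_coprod
    (hKinj : ∀ K : CochainComplex A ℤ, ∃ (I : CochainComplex A ℤ) (f : K ⟶ I), I.IsKInjective ∧ QuasiIso f)
    {T : Type w'} [HasColimitsOfShape (Discrete T) A] (K₀ : T → CochainComplex A ℤ) :
    Nonempty (IsColimit (Cofan.mk ((Q : _ ⥤ DerivedCategory A).obj (∐ K₀)) fun t => Q.map (Sigma.ι K₀ t))) := by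
  have hbij : ∀ d : DerivedCategory A, ∀ x : ∀ t, Q.obj (K₀ t) ⟶ d,
      ∃! g : Q.obj (∐ K₀) ⟶ d, ∀ t, Q.map (Sigma.ι K₀ t) ≫ g = x t := by
    intro d x
    obtain ⟨I, f, hI, hf⟩ := hKinj ((Q : _ ⥤ DerivedCategory A).objPreimage d)
    let eI : d ≅ Q.obj I := ((Q : _ ⥤ DerivedCategory A).objObjPreimageIso d).symm ≪≫ asIso (Q.map f)
    choose g hg using fun t => KInj.Q_map_surjective (I := I) (x t ≫ eI.hom)
    refine ⟨Q.map (Sigma.desc g) ≫ eI.inv, fun t => by
      rw [← Functor.map_comp_assoc, Sigma.ι_desc, hg, Category.assoc, Iso.hom_inv_id, Category.comp_id], ?_⟩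
    intro m hm
    obtain ⟨m', hm'⟩ := KInj.Q_map_surjective (I := I) (m ≫ eI.hom)
    rw [Iso.eq_comp_inv, ← hm']
    refine KInj.Q_map_eq_of_homotopy ?_
    have H : ∀ t, Nonempty (Homotopy (Sigma.ι K₀ t ≫ (m' - Sigma.desc g)) 0) := fun t => by
      rw [Preadditive.comp_sub, Sigma.ι_desc]
      apply KInj.nonempty_homotopy_of_Q_map_eq
      rw [hg, Functor.map_comp, hm', ← hm t, Category.assoc]
    choose α hα using fun t => KInj.exists_delta_eq _ (H t).some
    let col := fun a => isColimitCofanMkObjOfIsColimit (HomologicalComplex.eval A (ComplexShape.up ℤ) a)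
      _ _ (coproductIsCoproduct K₀)
    refine (KInj.nonempty_homotopy_of_delta_eq (Cochain.mk fun a b hab =>
      Cofan.IsColimit.desc (col a) fun t => (α t).v a b hab) ?_).some
    ext a
    refine Cofan.IsColimit.hom_ext (col a) _ _ fun t => ?_
    have hfac : ∀ (a' b' : ℤ) (h : a' + -1 = b'),
        (Sigma.ι K₀ t).f a' ≫ Cofan.IsColimit.desc (col a') (fun t => (α t).v a' b' h) =
          (α t).v a' b' h :=
      fun a' b' h => Cofan.IsColimit.fac (col a') _ t
    show (Sigma.ι K₀ t).f a ≫ _ = (Sigma.ι K₀ t).f a ≫ _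
    have h3 := Cochain.congr_v (hα t) a a (add_zero a)
    rw [δ_v (-1) 0 (neg_add_cancel 1) _ a a (add_zero a) (a - 1) (a + 1) rfl rfl] at h3 ⊢
    simp only [Cochain.mk_v, Cochain.ofHom_v, Preadditive.comp_add,
      Int.negOnePow_zero, one_smul, HomologicalComplex.comp_f] at h3 ⊢
    rw [← h3, reassoc_of% (hfac a (a - 1) (sub_eq_add_neg a 1).symm), (Sigma.ι K₀ t).comm_assoc,
      hfac (a + 1) a (add_neg_cancel_right a 1)]
  exact ⟨mkCofanColimit _ (fun s => (hbij s.pt s.inj).exists.choose) (fun s => (hbij s.pt s.inj).exists.choose_spec)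
    fun s m hm => (hbij s.pt s.inj).unique hm (hbij s.pt s.inj).exists.choose_spec⟩

section Flip

open Groth.Agent.KFlat (tens)

variable {A : Type u} [Category.{v} A] [Abelian A] (B : A ⥤ A ⥤ A) [B.Additive] [∀ X, (B.obj X).Additive]
  [∀ K L : CochainComplex A ℤ, HomologicalComplex.HasMapBifunctor K L B (ComplexShape.up ℤ)]
  {J : Type w} [Category.{w'} J] [HasColimitsOfShape J A]

lemma preservesColimitsOfShape_tens_flip (hB : ∀ X, PreservesColimitsOfShape J (B.flip.obj X))
    (L : CochainComplex A ℤ) : PreservesColimitsOfShape J ((tens B).flip.obj L) := by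
  refine ⟨fun {D} => ⟨fun {c} hc => ⟨isColimitOfEval _ _ fun n => ?_⟩⟩⟩
  have hpq : ∀ p q, IsColimit ((eval A _ p ⋙ B.flip.obj (L.X q)).mapCocone c) := fun p q =>
    haveI := hB (L.X q)
    isColimitOfPreserves (eval A _ p ⋙ B.flip.obj (L.X q)) hc
  have e : ∀ {K K' : CochainComplex A ℤ} (g : K ⟶ K') p q (h : p + q = n),
      HomologicalComplex.ιMapBifunctor K L B (ComplexShape.up ℤ) p q n h ≫
        (((tens B).map g).app L).f n =
        (B.map (g.f p)).app (L.X q) ≫
          HomologicalComplex.ιMapBifunctor K' L B (ComplexShape.up ℤ) p q n h := fun g p q h =>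
    (ι_mapBifunctorMap g (𝟙 L) B _ p q n h).trans (by simp)
  refine ⟨fun s => mapBifunctorDesc fun p q h => (hpq p q).desc ⟨s.pt,
    { app := fun j => HomologicalComplex.ιMapBifunctor (D.obj j) L B (ComplexShape.up ℤ) p q n h ≫
        s.ι.app j
      naturality := fun i j f => ?_ }⟩, fun s j => ?_, fun s m hm => ?_⟩
  · change (B.map ((D.map f).f p)).app (L.X q) ≫ _ ≫ s.ι.app j = (_ ≫ s.ι.app i) ≫ 𝟙 _
    rw [Category.comp_id, ← s.w f]
    exact ((Category.assoc _ _ _).symm.trans (congrArg (· ≫ s.ι.app j) (e _ p q h).symm)).trans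
      (Category.assoc _ _ _)
  · refine mapBifunctor.hom_ext fun p q h => ?_
    change HomologicalComplex.ιMapBifunctor (D.obj j) L B (ComplexShape.up ℤ) p q n h ≫
      (((tens B).map (c.ι.app j)).app L).f n ≫ mapBifunctorDesc _ = _
    refine (Category.assoc _ _ _).symm.trans ?_
    refine (congrArg (· ≫ mapBifunctorDesc _) (e _ p q h)).trans ?_
    refine (Category.assoc _ _ _).trans ?_
    refine (congrArg ((B.map ((c.ι.app j).f p)).app (L.X q) ≫ ·) (ι_mapBifunctorDesc _ p q h)).trans ?_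
    exact (hpq p q).fac _ j
  · refine mapBifunctor.hom_ext fun p q h => ?_
    refine Eq.trans ?_ (ι_mapBifunctorDesc _ p q h).symm
    refine (hpq p q).hom_ext fun j => ?_
    rw [IsColimit.fac]
    change (B.map ((c.ι.app j).f p)).app (L.X q) ≫ _ ≫ m = _ ≫ s.ι.app j
    rw [← hm j]
    exact ((Category.assoc _ _ _).symm.trans (congrArg (· ≫ m) (e _ p q h).symm)).trans (Category.assoc _ _ _)

end Flip

end Generic

section Scheme

open AlgebraicGeometry

attribute [local instance] HasDerivedCategory.standard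

variable {X Y : Scheme.{u}}

lemma exists_kInj (M : CochainComplex X.Modules ℤ) :
    ∃ (I : CochainComplex X.Modules ℤ) (g : M ⟶ I), I.IsKInjective ∧ QuasiIso g := by
  haveI : IsGrothendieckAbelian.{u} X.Modules := KFlat.isGrothendieck X.sheaf
  obtain ⟨I, g, h1, h2, -⟩ := KInj.exists_kInjective M
  exact ⟨I, g, h1, h2⟩

lemma hasExactColimits_discrete (ι : Type u) : HasExactColimitsOfShape (Discrete ι) X.Modules := by
  haveI : IsGrothendieckAbelian.{u} X.Modules := KFlat.isGrothendieck X.sheaf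
  infer_instance

variable {ι : Type u}

/-- The coproduct of the representing complexes represents the coproduct. -/
lemma exists_coprod_iso (C : ι → DCoh.D Y) [HasCoproduct C] (K₀ : ι → CochainComplex Y.Modules ℤ)
    (e : ∀ t, DerivedCategory.Q.obj (K₀ t) ≅ C t) :
    ∃ φ : DerivedCategory.Q.obj (∐ K₀) ≅ ∐ C,
      ∀ t, DerivedCategory.Q.map (Sigma.ι K₀ t) ≫ φ.hom = (e t).hom ≫ Sigma.ι C t := by
  obtain ⟨hc⟩ := nonempty_isColimit_Q_coprod exists_kInj K₀
  let d : DerivedCategory.Q.obj (∐ K₀) ⟶ ∐ C := Cofan.IsColimit.desc hc fun t => (e t).hom ≫ Sigma.ι C t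
  have hd : ∀ t, DerivedCategory.Q.map (Sigma.ι K₀ t) ≫ d = (e t).hom ≫ Sigma.ι C t := fun t =>
    Cofan.IsColimit.fac hc _ t
  refine ⟨⟨d, Sigma.desc fun t => (e t).inv ≫ DerivedCategory.Q.map (Sigma.ι K₀ t),
    Cofan.IsColimit.hom_ext hc _ _ fun t => ?_, Sigma.hom_ext _ _ fun t => ?_⟩, hd⟩
  · change DerivedCategory.Q.map (Sigma.ι K₀ t) ≫ d ≫ _ = DerivedCategory.Q.map (Sigma.ι K₀ t) ≫ 𝟙 _
    rw [reassoc_of% (hd t), Sigma.ι_desc, Iso.hom_inv_id_assoc, Category.comp_id]
  · rw [Sigma.ι_desc_assoc, Category.assoc, hd, Iso.inv_hom_id_assoc, Category.comp_id]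

/-- **Coproducts** of objects with quasi-coherent cohomology. -/
theorem isQCohD_coproduct (K : ι → DCoh.D X) (hK : ∀ t, DCoh.IsQCohD (K t)) [HasCoproduct K] :
    DCoh.IsQCohD (∐ K) := fun i => by
  let K₀ := fun t => (DerivedCategory.Q (C := X.Modules)).objPreimage (K t)
  let e : ∀ t, DerivedCategory.Q.obj (K₀ t) ≅ K t := fun t => DerivedCategory.Q.objObjPreimageIso (K t)
  obtain ⟨φ, -⟩ := exists_coprod_iso K K₀ e
  haveI := hasExactColimits_discrete (X := X) ι
  obtain ⟨H, hH, ⟨eH⟩⟩ := exists_homology_isColimit (Discrete.functor K₀) (colimit.isColimit _) i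
  refine QC.isQCoh_of_iso (eH.symm ≪≫ (KFlat.hdIso _ i).symm ≪≫
    (DerivedCategory.homologyFunctor _ i).mapIso φ) (QC.isQCoh_colimit H fun t => ?_)
  exact QC.isQCoh_of_iso ((DerivedCategory.homologyFunctor _ i).mapIso (e t.as).symm ≪≫ KFlat.hdIso _ i ≪≫
    (hH t).some.symm) (hK t.as i)

/-- A functor computed by a coproduct preserving functor on complexes preserves coproducts. -/
theorem isIso_desc_of_iso (G : DCoh.D Y ⥤ DCoh.D X) (Φ : CochainComplex Y.Modules ℤ ⥤ CochainComplex X.Modules ℤ)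
    (α : DerivedCategory.Q ⋙ G ⟶ Φ ⋙ DerivedCategory.Q) [PreservesColimitsOfShape (Discrete ι) Φ]
    (hα : ∀ P, DCoh.IsKFlat P → IsIso (α.app P)) (C : ι → DCoh.D Y) [HasCoproduct C]
    [HasCoproduct fun t => G.obj (C t)] :
    IsIso (Sigma.desc fun t => G.map (Sigma.ι C t)) := by
  choose P hP _ he using fun t => KFlat.exists_isKFlat_rep (C t)
  let e := fun t => (he t).some
  haveI := hasExactColimits_discrete (X := Y) ι
  have hPc : DCoh.IsKFlat (∐ P) := (KFlat.rflat_iff_sch _).2 (KFlat.rflat_of_isColimit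
    (fun M => by
      have := KFlat.preservesColimits_left Y.sheaf M
      exact inferInstanceAs (PreservesColimitsOfShape (Discrete ι) ((ModSite.tensorBi Y.sheaf).obj M)))
    (colimit.isColimit (Discrete.functor P)) fun t => (KFlat.rflat_iff_sch _).1 (hP t.as))
  obtain ⟨φ, hφ⟩ := exists_coprod_iso C P e
  obtain ⟨hd⟩ := nonempty_isColimit_Q_coprod exists_kInj (fun t => Φ.obj (P t))
  haveI : HasCoproduct fun t => DerivedCategory.Q.obj (Φ.obj (P t)) := ⟨⟨⟨_, hd⟩⟩⟩
  haveI := hα _ hPc
  let a : ∀ t, G.obj (C t) ≅ DerivedCategory.Q.obj (Φ.obj (P t)) := fun t =>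
    G.mapIso (e t).symm ≪≫ @asIso _ _ _ _ (α.app (P t)) (hα _ (hP t))
  let i₁ : (∐ fun t => G.obj (C t)) ≅ DerivedCategory.Q.obj (∐ fun t => Φ.obj (P t)) :=
    { hom := Sigma.desc fun t => (a t).hom ≫ DerivedCategory.Q.map (Sigma.ι (fun t => Φ.obj (P t)) t)
      inv := Cofan.IsColimit.desc hd fun t => (a t).inv ≫ Sigma.ι (fun t => G.obj (C t)) t
      hom_inv_id := Sigma.hom_ext _ _ fun t => by
        rw [Sigma.ι_desc_assoc, Category.assoc]
        refine (congrArg ((a t).hom ≫ ·) (Cofan.IsColimit.fac hd _ t)).trans ?_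
        simp
      inv_hom_id := Cofan.IsColimit.hom_ext hd _ _ fun t => by
        refine (Category.assoc _ _ _).symm.trans ?_
        refine (congrArg (· ≫ _) (Cofan.IsColimit.fac hd _ t)).trans ?_
        simp }
  let ψ : (∐ fun t => G.obj (C t)) ≅ G.obj (∐ C) :=
    i₁ ≪≫ DerivedCategory.Q.mapIso (PreservesCoproduct.iso Φ P).symm ≪≫ (asIso (α.app (∐ P))).symm ≪≫ G.mapIso φ
  suffices (Sigma.desc fun t => G.map (Sigma.ι C t)) = ψ.hom by rw [this]; infer_instance
  refine Sigma.hom_ext _ _ fun t => ?_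
  have h2 : Sigma.ι (fun t => Φ.obj (P t)) t ≫ (PreservesCoproduct.iso Φ P).inv = Φ.map (Sigma.ι P t) := by
    simp [PreservesCoproduct.iso]
  simp only [ψ, i₁, Sigma.ι_desc, Iso.trans_hom, Sigma.ι_desc_assoc, Functor.mapIso_hom,
    Iso.symm_hom, asIso_inv, Category.assoc]
  rw [← Functor.map_comp_assoc, h2]
  simp only [a, Iso.trans_hom, asIso_hom, Functor.mapIso_hom, Iso.symm_hom, Category.assoc]
  have h3 := α.naturality (Sigma.ι P t)
  simp only [Functor.comp_map] at h3
  erw [← reassoc_of% h3]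
  rw [IsIso.hom_inv_id_assoc, ← Functor.map_comp, ← Functor.map_comp, hφ, Iso.inv_hom_id_assoc]

/-- The comparison of `Lf^*` with pullback of complexes. -/
noncomputable def lpullCounit (f : X ⟶ Y) [DCoh.HasLpull f] :
    DerivedCategory.Q ⋙ DCoh.Lpull f ⟶
      (Scheme.Modules.pullback f).mapHomologicalComplex (ComplexShape.up ℤ) ⋙ DerivedCategory.Q :=
  Functor.whiskerRight (DerivedCategory.quotientCompQhIso Y.Modules).inv _ ≫ (Functor.associator _ _ _).hom ≫
    Functor.whiskerLeft (HomotopyCategory.quotient Y.Modules (ComplexShape.up ℤ))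
      ((DCoh.pullKh f).totalLeftDerivedCounit DerivedCategory.Qh
        (HomotopyCategory.quasiIso Y.Modules (ComplexShape.up ℤ))) ≫ (Functor.associator _ _ _).inv ≫
    Functor.whiskerRight ((Scheme.Modules.pullback f).mapHomotopyCategoryFactors (ComplexShape.up ℤ)).hom _ ≫
    (Functor.associator _ _ _).hom ≫ Functor.whiskerLeft _ (DerivedCategory.quotientCompQhIso X.Modules).hom

theorem isIso_desc_Lpull (f : X ⟶ Y) [DCoh.HasLpull f] (C : ι → DCoh.D Y) [HasCoproduct C]
    [HasCoproduct fun t => (DCoh.Lpull f).obj (C t)] :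
    IsIso (Sigma.desc fun t => (DCoh.Lpull f).map (Sigma.ι C t)) := by
  haveI := (Scheme.Modules.pullbackPushforwardAdjunction f).leftAdjoint_preservesColimits.{u, u}
  haveI : PreservesColimitsOfShape (Discrete ι) ((Scheme.Modules.pullback f).mapHomologicalComplex (ComplexShape.up ℤ)) :=
    ⟨fun {K} => ⟨fun {c} hc => ⟨HomologicalComplex.isColimitOfEval _ _ fun n =>
      isColimitOfPreserves (eval Y.Modules (ComplexShape.up ℤ) n ⋙ Scheme.Modules.pullback f) hc⟩⟩⟩
  refine isIso_desc_of_iso (DCoh.Lpull f) _ (lpullCounit f) (fun P hP => ?_) C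
  have := KFlat.isIso_app_of_kFlat (KFlat.kFlatAcyclic_pullback f) (DCoh.Lpull f)
    ((DCoh.pullKh f).totalLeftDerivedCounit DerivedCategory.Qh
      (HomotopyCategory.quasiIso Y.Modules (ComplexShape.up ℤ))) hP
  simp only [lpullCounit, NatTrans.comp_app, Functor.whiskerRight_app, Functor.whiskerLeft_app]
  infer_instance

theorem isIso_desc_LTensorCx (D : CochainComplex X.Modules ℤ) [DCoh.HasLTensorCx D] (C : ι → DCoh.D X)
    [HasCoproduct C] [HasCoproduct fun t => (DCoh.LTensorCx D).obj (C t)] :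
    IsIso (Sigma.desc fun t => (DCoh.LTensorCx D).map (Sigma.ι C t)) := by
  haveI : PreservesColimitsOfShape (Discrete ι) ((DCoh.tensorCx (X := X)).flip.obj D) :=
    preservesColimitsOfShape_tens_flip (KFlat.schB X) (fun M => by
      have : PreservesColimitsOfSize.{u, u} ((KFlat.schB X).flip.obj M) :=
        ModSiteTensor.preservesColimits_tensorBi_flip_obj X.sheaf M
      infer_instance) D
  exact isIso_desc_of_iso (DCoh.LTensorCx D) _ (KFlat.ltCounit D)
    (fun P hP => KFlat.isIso_ltCounit_app D hP) C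

end Scheme

end Groth.Agent.DQCoh
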