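import Groth.Agent.DQCoh.PCCalc
import Groth.Prelude.Def_DTor2

/-!
# Pseudo-coherent of finite tor dimension is perfect
-/

set_option backward.isDefEq.respectTransparency false
set_option backward.isDefEq.respectTransparency.types false
set_option linter.style.haveILetI false
set_option autoImplicit false

universe u

open CategoryTheory Limits AlgebraicGeometry HomologicalComplex Pretriangulated ZeroObject

attribute [local instance] HasDerivedCategory.standard

open Groth.Agent.QC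

namespace Groth.Agent.DQCoh

variable {X U : Scheme.{u}}

/-- finite local freeness is local -/
lemma isFinLocFree_of_local {M : X.Modules}
    (h : ∀ x : X, ∃ (U : Scheme.{u}) (j : U ⟶ X) (_ : IsOpenImmersion j) (u : U), j.base u = x ∧
      FlatMod.IsFinLocFree ((Scheme.Modules.restrictFunctor j).obj M)) : FlatMod.IsFinLocFree M := by
  intro x
  obtain ⟨U, j, hj, u, hu, hM⟩ := h x
  haveI := hj
  obtain ⟨V, n, hV, ⟨e⟩⟩ := hM u
  obtain ⟨k, hk, hkj⟩ := exists_opens (V.ι ≫ j)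
  refine ⟨(V.ι ≫ j).opensRange, n, ⟨⟨u, hV⟩, hu⟩, ⟨?_⟩⟩
  exact (Scheme.Modules.restrictFunctorCongr hkj).symm.app M ≪≫
    (Scheme.Modules.restrictFunctorComp k (V.ι ≫ j)).app M ≪≫
    (Scheme.Modules.restrictFunctor k).mapIso ((Scheme.Modules.restrictFunctorComp V.ι j).app M ≪≫ e) ≪≫
    (Scheme.Modules.restrictFunctorIsoPullback k).app _ ≪≫ DerPerf.pullFreeIso k n

lemma isFlat_restrict (j : U ⟶ X) [IsOpenImmersion j] {M : X.Modules} (h : FlatMod.IsFlat M) :
    FlatMod.IsFlat ((Scheme.Modules.restrictFunctor j).obj M) :=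
  KFlat.isFlat_of_iso ((Scheme.Modules.restrictFunctorIsoPullback j).app M).symm (KFlat.isFlat_pullback_obj j h)

lemma flat_tilde_stalk {R : CommRingCat.{u}} (N : ModuleCat.{u} R) (x : Spec R)
    (h : Module.Flat ((Spec R).presheaf.stalk x) ((tilde N).presheaf.stalk x)) :
    Module.Flat R (LocalizedModule x.asIdeal.primeCompl N) := by
  letI : Algebra R ((Spec R).presheaf.stalk x) := (TildeKFlat.toStalkRing x).toAlgebra
  haveI : IsScalarTower R ((Spec R).presheaf.stalk x) ((tilde N).presheaf.stalk x) :=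
    .of_algebraMap_smul fun _ _ => rfl
  haveI : IsLocalization x.asIdeal.primeCompl ((Spec R).presheaf.stalk x) :=
    inferInstanceAs (IsLocalization.AtPrime ((AlgebraicGeometry.structurePresheafInCommRingCat R).stalk x) x.asIdeal)
  haveI : Module.Flat R ((Spec R).presheaf.stalk x) :=
    IsLocalization.flat ((Spec R).presheaf.stalk x) x.asIdeal.primeCompl
  haveI : Module.Flat R ((tilde N).presheaf.stalk x) :=
    Module.Flat.trans R ((Spec R).presheaf.stalk x) ((tilde N).presheaf.stalk x)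
  exact Module.Flat.of_linearEquiv (IsLocalizedModule.iso x.asIdeal.primeCompl (tilde.toStalk N x).hom)

lemma flat_of_isFlat_tilde {A : Type u} [CommRing A] (N : ModuleCat.{u} A)
    (h : FlatMod.IsFlat ((tilde.functor (CommRingCat.of A)).obj N)) : Module.Flat A N :=
  Module.flat_of_localized_maximal N fun P hP =>
    flat_tilde_stalk (R := CommRingCat.of A) N ⟨P, hP.isPrime⟩ (h _)

/-- flat cokernels on an affine scheme -/
lemma isFinLocFree_cokernel_spec {A : Type u} [CommRing A] {M N : (Spec (CommRingCat.of A)).Modules} (φ : M ⟶ N)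
    (hM : FlatMod.IsFinLocFree M) (hN : FlatMod.IsFinLocFree N) (hflat : FlatMod.IsFlat (cokernel φ)) :
    FlatMod.IsFinLocFree (cokernel φ) := by
  haveI : M.IsQuasicoherent := isQCoh_of_isFinLocFree hM
  haveI : N.IsQuasicoherent := isQCoh_of_isFinLocFree hN
  let Γf := moduleSpecΓFunctor (R := CommRingCat.of A)
  let ν := Scheme.Modules.fromTildeΓNatTrans (R := CommRingCat.of A)
  haveI : IsIso (ν.app M) := Scheme.Modules.isIso_fromTildeΓ_of_isQuasicoherent (R := CommRingCat.of A) M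
  haveI : IsIso (ν.app N) := Scheme.Modules.isIso_fromTildeΓ_of_isQuasicoherent (R := CommRingCat.of A) N
  obtain ⟨hM1, hM2⟩ := finiteProjective_gamma M hM
  obtain ⟨hN1, hN2⟩ := finiteProjective_gamma N hN
  let ψ := Γf.map φ
  let e : (tilde.functor (CommRingCat.of A)).obj (ModuleCat.cokernelCocone ψ).pt ≅ cokernel φ :=
    (CokernelCofork.mapIsColimit _ (ModuleCat.cokernelIsColimit ψ) (tilde.functor _)).coconePointUniqueUpToIso
      (cokernelIsCokernel ((tilde.functor _).map ψ)) ≪≫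
    cokernel.mapIso _ _ (asIso (ν.app M)) (asIso (ν.app N)) (ν.naturality φ)
  let N₀ : ModuleCat.{u} A := ModuleCat.of A ((Γf.obj N : Type u) ⧸ LinearMap.range ψ.hom)
  have hfl : Module.Flat A N₀ := flat_of_isFlat_tilde N₀ (KFlat.isFlat_of_iso e.symm hflat)
  haveI : Module.FinitePresentation A (Γf.obj N) := Module.finitePresentation_of_projective _ _
  have hfp : Module.FinitePresentation A N₀ :=
    Module.finitePresentation_of_surjective (LinearMap.range ψ.hom).mkQ (Submodule.mkQ_surjective _)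
      (by rw [Submodule.ker_mkQ]; exact LinearMap.range_eq_map ψ.hom ▸ (Module.finite_def.1 hM1).map ψ.hom)
  haveI := hfl
  haveI := hfp
  exact isFinLocFree_of_iso' e (isFinLocFree_tilde N₀ ⟨inferInstance, Module.Flat.projective_of_finitePresentation⟩)

/-- **flat cokernels of maps of finite locally free modules are finite locally free** -/
theorem isFinLocFree_cokernel {M N : X.Modules} (φ : M ⟶ N) (hM : FlatMod.IsFinLocFree M)
    (hN : FlatMod.IsFinLocFree N) (hflat : FlatMod.IsFlat (cokernel φ)) :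
    FlatMod.IsFinLocFree (cokernel φ) := by
  refine isFinLocFree_of_local fun x => ?_
  obtain ⟨V, hV, hx⟩ := exists_affine_mem x
  let R := Scheme.Modules.restrictFunctor hV.fromSpec
  let e := PreservesCokernel.iso R φ
  obtain ⟨v, hv⟩ : x ∈ Set.range hV.fromSpec.base := hV.range_fromSpec.symm ▸ hx
  refine ⟨_, hV.fromSpec, inferInstance, v, hv, isFinLocFree_of_iso' e.symm ?_⟩
  exact isFinLocFree_cokernel_spec (A := Γ(X, V)) (R.map φ) (isFinLocFree_restrict _ hM) (isFinLocFree_restrict _ hN)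
    (KFlat.isFlat_of_iso e (isFlat_restrict _ hflat))

lemma hasFlatAmplitudeIn_restrict (j : U ⟶ X) [IsOpenImmersion j] {K : DCoh.D X} {a b : ℤ}
    (h : DCoh.HasFlatAmplitudeIn a b K) : DCoh.HasFlatAmplitudeIn a b ((RD j).obj K) := by
  obtain ⟨E, hE, hf, ⟨e⟩⟩ := h
  exact ⟨(rC j).obj E, fun i hi => (Scheme.Modules.restrictFunctor j).map_isZero (hE i hi),
    fun i => isFlat_restrict j (hf i), ⟨(rdIso j E).symm ≪≫ (RD j).mapIso e⟩⟩

/-- a module of finite tor amplitude in degrees `≥ 0` is flat -/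
lemma isFlat_of_torAmp {F : X.Modules} {B : ℤ} (h : DCoh.HasTorAmplitudeIn 0 B (DCoh.inD X F)) :
    FlatMod.IsFlat F :=
  (KFlat.isFlat_iff_tor_one_vanishes_sch F).2 fun G _ => h G (-1) (Or.inl (by lia))

/-- the standard truncation argument -/
lemma exists_perfect_of_pc_amp {K : DCoh.D X} {a b : ℤ} (hab : a ≤ b)
    {E : CochainComplex X.Modules ℤ} (hE : DCoh.IsStrictlyPerfect E) (α : DerivedCategory.Q.obj E ⟶ K)
    (hα : MIsoD (a - 1) α) (h : DCoh.HasFlatAmplitudeIn a b K) :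
    ∃ τ : CochainComplex X.Modules ℤ, DCoh.IsStrictlyPerfect τ ∧ Nonempty (DCoh.toD X τ ≅ K) := by
  obtain ⟨F, hF, hFf, ⟨eF⟩⟩ := id h
  haveI : F.IsStrictlyGE a := (CochainComplex.isStrictlyGE_iff F a).2 fun i hi => hF i (Or.inl hi)
  obtain ⟨E', s, hs, g, hg⟩ := DerivedCategory.right_fac (α ≫ eF.inv)
  have hqs : QuasiIso s := (DerivedCategory.isIso_Q_map_iff_quasiIso _ s).1 hs
  have hqg : ∀ i, a ≤ i → QuasiIsoAt g i := fun i hi => by
    rw [quasiIsoAt_iff_isIso_homologyMap]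
    refine (NatIso.isIso_map_iff (DerivedCategory.homologyFunctorFactors X.Modules i) g).1 ?_
    have h1 : DerivedCategory.Q.map g = DerivedCategory.Q.map s ≫ α ≫ eF.inv := by
      rw [hg, IsIso.hom_inv_id_assoc]
    haveI := hα.1 i (by lia)
    change IsIso ((DerivedCategory.homologyFunctor X.Modules i).map (DerivedCategory.Q.map g))
    rw [h1, Functor.map_comp, Functor.map_comp]
    infer_instance
  have q1 : QuasiIso (CochainComplex.truncGEMap s a) :=
    (CochainComplex.quasiIso_truncGEMap_iff s a).2 fun i _ => inferInstance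
  have q2 : QuasiIso (CochainComplex.truncGEMap g a) := (CochainComplex.quasiIso_truncGEMap_iff g a).2 hqg
  have q3 : QuasiIso (F.πTruncGE a) := (CochainComplex.quasiIso_πTruncGE_iff F a).2 inferInstance
  let τ := E.truncGE a
  let eτ : DCoh.toD X τ ≅ K :=
    (@asIso _ _ _ _ _ ((DerivedCategory.isIso_Q_map_iff_quasiIso _ _).2 q1)).symm ≪≫
      (@asIso _ _ _ _ _ ((DerivedCategory.isIso_Q_map_iff_quasiIso _ _).2 q2)) ≪≫
      (@asIso _ _ _ _ _ ((DerivedCategory.isIso_Q_map_iff_quasiIso _ _).2 q3)).symm ≪≫ eF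
  obtain ⟨⟨a', b', hab'⟩, hl⟩ := hE
  let B := max (max b b') (a + 1)
  have hXgt : ∀ i, a < i → Nonempty (τ.X i ≅ E.X i) := fun i hi => by
    obtain ⟨k, rfl⟩ := Int.le.dest hi.le
    exact ⟨HomologicalComplex.truncGEXIso E (ComplexShape.embeddingUpIntGE a) (i := k) (by simp)
      (fun h' => by have := (ComplexShape.boundaryGE_embeddingUpIntGE_iff a k).1 h'; lia)⟩
  have hv : DCoh.VanishesOutside τ a B := fun i hi => by
    rcases hi with hi | hi
    · exact τ.isZero_of_isStrictlyGE a i hi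
    · obtain ⟨e⟩ := hXgt i (by lia)
      exact (hab' i (Or.inr (by lia))).of_iso e
  let C := E.opcycles a
  let eC : τ.X a ≅ C := HomologicalComplex.truncGEXIsoOpcycles E (ComplexShape.embeddingUpIntGE a)
    (i := 0) (i' := a) (by simp) ((ComplexShape.boundaryGE_embeddingUpIntGE_iff a 0).2 rfl)
  let eC' : cokernel (E.d (a - 1) a) ≅ C := (cokernelIsCokernel (E.d (a - 1) a)).coconePointUniqueUpToIso
    (E.opcyclesIsCokernel (a - 1) a (by simp))
  let σ := σGE τ (a + 1)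
  have hσf : ∀ i, FlatMod.IsFlat (σ.X i) := fun i => by
    by_cases hi : a + 1 ≤ i
    · haveI := isIso_σι_f τ (a + 1) i hi
      obtain ⟨e⟩ := hXgt i (by lia)
      exact KFlat.isFlat_of_iso (asIso ((σι τ (a + 1)).f i) ≪≫ e).symm (DerPerf.isFlat_of_isFinLocFree (hl i))
    · exact KFlat.isFlat_of_isZero (isZero_σGE_X τ (a + 1) i (not_le.1 hi))
  have hT := DerivedCategory.triangleOfSES_distinguished (σSeq_shortExact τ (a + 1))
  let T := DerivedCategory.triangleOfSES (σSeq_shortExact τ (a + 1))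
  have h1 : DCoh.HasFlatAmplitudeIn (a + 1) (B + 1) T.obj₁ := ⟨σ, fun i hi => by
      rcases hi with hi | hi
      · exact isZero_σGE_X τ (a + 1) i hi
      · exact IsZero.of_mono ((σι τ (a + 1)).f i) (hv i (Or.inr (by lia))), hσf, ⟨Iso.refl _⟩⟩
  have h2 : DCoh.HasFlatAmplitudeIn a B T.obj₂ :=
    ⟨F, fun i hi => hF i (hi.imp id fun hi => by lia), hFf, ⟨eF ≪≫ eτ.symm⟩⟩
  have h3 := (KFlat.torAmplitude_triangle_sch T hT a B).1 h1 h2
  let Qc := (σSeq τ (a + 1)).X₃
  haveI : IsIso ((σSeq τ (a + 1)).g.f a) :=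
    ((σSeq_shortExact τ (a + 1)).map_of_exact (HomologicalComplex.eval _ _ a)).isIso_g_iff.2
      (isZero_σGE_X τ (a + 1) a (by lia))
  have hQz : ∀ i, i ≠ a → IsZero (Qc.X i) := fun i hi => by
    rcases lt_or_gt_of_ne hi with hi | hi
    · haveI : IsIso ((σSeq τ (a + 1)).g.f i) :=
        ((σSeq_shortExact τ (a + 1)).map_of_exact (HomologicalComplex.eval _ _ i)).isIso_g_iff.2
          (isZero_σGE_X τ (a + 1) i (by lia))
      exact (hv i (Or.inl hi)).of_iso (@asIso _ _ _ _ ((σSeq τ (a + 1)).g.f i) this).symm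
    · exact isZero_σQuot τ (a + 1) i (by lia)
  haveI : Qc.IsStrictlyGE a := (CochainComplex.isStrictlyGE_iff _ a).2 fun i hi => hQz i (by lia)
  haveI : Qc.IsStrictlyLE a := (CochainComplex.isStrictlyLE_iff _ a).2 fun i hi => hQz i (by lia)
  obtain ⟨M, ⟨eM⟩⟩ := CochainComplex.exists_iso_single Qc a
  let eMC : M ≅ C := (singleObjXSelf (ComplexShape.up ℤ) a M).symm ≪≫
    ((HomologicalComplex.eval _ _ a).mapIso eM).symm ≪≫ (asIso ((σSeq τ (a + 1)).g.f a)).symm ≪≫ eC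
  have hM : DCoh.HasTorAmplitudeIn 0 (B - a) (DCoh.inD X M) := by
    refine KFlat.hasTorAmplitudeIn_of_torRep (KFlat.torRep_of_iso ?_
      (KFlat.torRep_shift (KFlat.torRep_iff.2 h3) a 0 (B - a) (by lia) (by lia)))
    exact (shiftFunctor (DCoh.D X) a).mapIso (DerivedCategory.Q.mapIso eM ≪≫
        ((DerivedCategory.singleFunctorIsoCompQ X.Modules a).app M).symm) ≪≫
      ((DerivedCategory.singleFunctors X.Modules).shiftIso a 0 a (by lia)).app M
  have hCflat : FlatMod.IsFlat C := KFlat.isFlat_of_iso eMC (isFlat_of_torAmp hM)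
  have hCfree : FlatMod.IsFinLocFree C := isFinLocFree_of_iso' eC'
    (isFinLocFree_cokernel _ (hl _) (hl _) (KFlat.isFlat_of_iso eC'.symm hCflat))
  refine ⟨τ, ⟨⟨a, B, hv⟩, fun i => ?_⟩, ⟨eτ⟩⟩
  rcases lt_trichotomy i a with hi | rfl | hi
  · exact isFinLocFree_of_isZero (hv i (Or.inl hi))
  · exact isFinLocFree_of_iso' eC.symm hCfree
  · obtain ⟨e⟩ := hXgt i hi
    exact isFinLocFree_of_iso' e.symm (hl i)

theorem isPerfect_of_amp_pc {K : DCoh.D X} {a b : ℤ} (hab : a ≤ b) (h : DCoh.HasFlatAmplitudeIn a b K)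
    (hp : DCoh.IsPseudoCoherentD (a - 1) K) : DCoh.IsPerfect K := by
  rw [pc_iff_near] at hp
  rw [perfect_iff_near]
  intro x
  obtain ⟨U, j, hj, u, hu, hP⟩ := hp x
  haveI := hj
  obtain ⟨E, α, hE, hα⟩ := hP
  obtain ⟨τ, hτ, ⟨e⟩⟩ := exists_perfect_of_pc_amp hab hE α hα (hasFlatAmplitudeIn_restrict j h)
  exact ⟨U, j, hj, u, hu, τ, hτ, ⟨e.symm⟩⟩

theorem pc_of_perfect {K : DCoh.D X} (h : DCoh.IsPerfect K) (m : ℤ) : DCoh.IsPseudoCoherentD m K := by
  rw [perfect_iff_near] at h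
  rw [pc_iff_near]
  intro x
  obtain ⟨U, j, hj, u, hu, hP⟩ := h x
  obtain ⟨E, hE, ⟨e⟩⟩ := hP
  exact ⟨U, j, hj, u, hu, E, e.inv, hE, mIsoD_of_isIso m _⟩

lemma locHasFiniteTorDim_of_near {K : DCoh.D X}
    (h : ∀ x, Near (fun j => ∃ a b, DCoh.HasFlatAmplitudeIn a b ((RD j).obj K)) x) :
    DCoh.LocHasFiniteTorDim K := by
  intro x
  obtain ⟨U, j, hj, u, hu, hP⟩ := h x
  haveI := hj
  obtain ⟨a, b, hE⟩ := hP
  obtain ⟨k, hk, hkj⟩ := exists_opens j
  refine ⟨j.opensRange, a, b, ⟨u, hu⟩, fun F ⟨eF⟩ => ?_⟩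
  obtain ⟨E, h1, h2, ⟨e⟩⟩ := hasFlatAmplitudeIn_restrict k hE
  exact ⟨E, h1, h2, ⟨e ≪≫ ((rdComp k j).app K).symm ≪≫ (rdCongr hkj).app K ≪≫
    (RD j.opensRange.ι).mapIso eF.symm ≪≫ rdIso j.opensRange.ι F⟩⟩

lemma amp_of_perfect {K : DCoh.D X} (h : DCoh.IsPerfect K) :
    ∀ x, Near (fun j => ∃ a b, DCoh.HasFlatAmplitudeIn a b ((RD j).obj K)) x := by
  rw [perfect_iff_near] at h
  intro x
  obtain ⟨U, j, hj, u, hu, hP⟩ := h x
  obtain ⟨E, ⟨⟨a, b, hab⟩, hl⟩, ⟨e⟩⟩ := hP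
  exact ⟨U, j, hj, u, hu, a, b, E, hab, fun i => DerPerf.isFlat_of_isFinLocFree (hl i), ⟨e.symm⟩⟩

theorem isPerfect_iff_pc_locTor (K : DCoh.D X) :
    DCoh.IsPerfect K ↔ (∀ m : ℤ, DCoh.IsPseudoCoherentD m K) ∧ DCoh.LocHasFiniteTorDim K := by
  refine ⟨fun h => ⟨pc_of_perfect h, locHasFiniteTorDim_of_near (amp_of_perfect h)⟩, fun ⟨h1, h2⟩ => ?_⟩
  rw [perfect_iff_near]
  intro x
  obtain ⟨V, a, b, hx, hV⟩ := h2 x
  let F := (DerivedCategory.Q : _ ⥤ DCoh.D X).objPreimage K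
  let eF : DCoh.toD X F ≅ K := DerivedCategory.Q.objObjPreimageIso K
  obtain ⟨E, hE1, hE2, ⟨e⟩⟩ := hV F ⟨eF⟩
  have hamp : DCoh.HasFlatAmplitudeIn a (max a b) ((RD V.ι).obj K) :=
    ⟨E, fun i hi => hE1 i (hi.imp id fun hi => lt_of_le_of_lt (le_max_right a b) hi), hE2,
      ⟨e ≪≫ (rdIso V.ι F).symm ≪≫ (RD V.ι).mapIso eF⟩⟩
  have hp := isPerfect_of_amp_pc (le_max_left a b) hamp (pc_restrict V.ι (h1 (a - 1)))
  obtain ⟨U, j, hj, u, hu, hP⟩ := (perfect_iff_near _).1 hp (⟨x, hx⟩ : ↑(V : Scheme.{u}))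
  haveI := hj
  exact ⟨U, j ≫ V.ι, inferInstance, u, congrArg (fun t => V.ι.base t) hu, perfOn_push j V.ι hP⟩

theorem perfect_of_retract {K L : DCoh.D X} [HasBinaryBiproduct K L] (h : DCoh.IsPerfect (K ⊞ L)) :
    DCoh.IsPerfect K ∧ DCoh.IsPerfect L := by
  obtain ⟨hp, -⟩ := (isPerfect_iff_pc_locTor _).1 h
  have hK := fun m => (pc_of_retract (hp m)).1
  have hL := fun m => (pc_of_retract (hp m)).2
  have hamp : ∀ (M : DCoh.D X), (∃ (s : M ⟶ K ⊞ L) (r : K ⊞ L ⟶ M), s ≫ r = 𝟙 M) →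
      DCoh.LocHasFiniteTorDim M := fun M ⟨s, r, hsr⟩ => by
    refine locHasFiniteTorDim_of_near fun x => ?_
    obtain ⟨U, j, hj, u, hu, hP⟩ := amp_of_perfect h x
    haveI := hj
    obtain ⟨a, b, hP⟩ := hP
    refine ⟨U, j, hj, u, hu, a, max a b, KFlat.flatAmplitude_of_torAmplitude _ _ _ (le_max_left a b) ?_⟩
    obtain ⟨E, hE, hf, e⟩ := hP
    exact KFlat.torRep_retract (KFlat.hasTorAmplitudeIn_of_torRep (KFlat.torRep_of_flatAmplitude
      ⟨E, fun i hi => hE i (hi.imp id fun hi => lt_of_le_of_lt (le_max_right a b) hi), hf, e⟩))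
      ((RD j).map s) ((RD j).map r) (by rw [← Functor.map_comp, hsr, CategoryTheory.Functor.map_id])
  exact ⟨(isPerfect_iff_pc_locTor K).2 ⟨hK, hamp K ⟨biprod.inl, biprod.fst, biprod.inl_fst⟩⟩,
    (isPerfect_iff_pc_locTor L).2 ⟨hL, hamp L ⟨biprod.inr, biprod.snd, biprod.inr_snd⟩⟩⟩

end Groth.Agent.DQCoh
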