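import Groth.Agent.DQCoh.Pullback

/-!
# Cohomology of pseudo-coherent complexes
-/

set_option backward.isDefEq.respectTransparency false
set_option backward.isDefEq.respectTransparency.types false
set_option linter.style.haveILetI false
set_option autoImplicit false

universe u

open CategoryTheory Limits AlgebraicGeometry HomologicalComplex

attribute [local instance] HasDerivedCategory.standard

namespace Groth.Agent.DQCoh

variable {X : Scheme.{u}}

lemma isQCoh_freeMod (n : ℕ) : Coh.IsQCoh (FlatMod.freeMod X n) := by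
  refine QC.isQCoh_of_iso (Sigma.whiskerEquiv (g := fun _ : Fin n => Coh.structureModule X)
    (f := fun _ : ULift.{u} (Fin n) => Coh.structureModule X) Equiv.ulift (fun _ => Iso.refl _)) ?_
  exact QC.isQCoh_colimit (Discrete.functor fun _ : ULift.{u} (Fin n) => Coh.structureModule X)
    fun _ => QC.isQCoh_unit X

lemma isQCoh_of_isFinLocFree {M : X.Modules} (h : FlatMod.IsFinLocFree M) : Coh.IsQCoh M :=
  isQCoh_of_restrict_opens fun x => by
    obtain ⟨U, n, hx, ⟨e⟩⟩ := h x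
    exact ⟨U, hx, QC.isQCoh_of_iso e.symm (isQCoh_freeMod n)⟩

theorem isQCoh_cohomology_of_pseudoCoherent (m : ℤ) (E : DCoh.D X) (hE : DCoh.IsPseudoCoherentD m E) :
    (∀ i : ℤ, m < i → Coh.IsQCoh (DCoh.HD E i)) ∧ ∀ x : X, ∃ (V : X.Opens) (Q : (V : Scheme.{u}).Modules)
      (π : Q ⟶ (Scheme.Modules.restrictFunctor V.ι).obj (DCoh.HD E m)), x ∈ V ∧ Coh.IsQCoh Q ∧ Epi π := by
  obtain ⟨F, -, -, ⟨e⟩⟩ := KFlat.exists_isKFlat_rep E
  have key : ∀ (i : ℤ) (V : X.Opens), DCoh.HD (DCoh.toD (V : Scheme.{u}) ((DCoh.restrictCx V).obj F)) i ≅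
      (Scheme.Modules.restrictFunctor V.ι).obj (DCoh.HD E i) := fun i V =>
    KFlat.hdIso _ i ≪≫ (F.sc i).mapHomologyIso (Scheme.Modules.restrictFunctor V.ι) ≪≫
      (Scheme.Modules.restrictFunctor V.ι).mapIso ((KFlat.hdIso F i).symm ≪≫
        (DerivedCategory.homologyFunctor _ i).mapIso e)
  have hloc : ∀ x : X, ∃ V : X.Opens, x ∈ V ∧ (∀ i, m < i → Coh.IsQCoh ((DCoh.HD E i).restrict V.ι)) ∧
      ∃ (Q : (V : Scheme.{u}).Modules) (π : Q ⟶ (Scheme.Modules.restrictFunctor V.ι).obj (DCoh.HD E m)),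
        Coh.IsQCoh Q ∧ Epi π := by
    intro x
    obtain ⟨V, hx, P, α, hP, hα⟩ := (DerPerf.isPseudoCoherent_iff_rep e).1 hE x
    have hq : ∀ i, Coh.IsQCoh (DCoh.HD (DCoh.toD (V : Scheme.{u}) P) i) := fun i =>
      QC.isQCoh_of_iso (KFlat.hdIso P i).symm
        (isQCoh_homology_of_X P (fun n => isQCoh_of_isFinLocFree (hP.2 n)) i)
    refine ⟨V, hx, fun i hi => ?_, _, (DerivedCategory.homologyFunctor _ m).map α ≫ (key m V).hom, hq m, ?_⟩
    · have := hα.1 i hi
      exact QC.isQCoh_of_iso (@asIso _ _ _ _ ((DerivedCategory.homologyFunctor _ i).map α) this ≪≫ key i V) (hq i)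
    · have := hα.2
      exact epi_comp _ _
  refine ⟨fun i hi => isQCoh_of_restrict_opens fun x => ?_, fun x => ?_⟩
  · obtain ⟨V, hx, h, -⟩ := hloc x
    exact ⟨V, hx, h i hi⟩
  · obtain ⟨V, hx, -, Q, π, hQ, hπ⟩ := hloc x
    exact ⟨V, Q, π, hx, hQ, hπ⟩

end Groth.Agent.DQCoh
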