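import Groth.Agent.DQCoh.TopCohom
import Groth.Agent.DQCoh.Affine
import Groth.Agent.DRingKP.Coherent
import Groth.Agent.H4Easy.Batch8
import Groth.Agent.RelPCS.Descend

/-!
# Pseudo-coherence on Noetherian schemes
-/

set_option autoImplicit false
set_option backward.isDefEq.respectTransparency false
set_option backward.isDefEq.respectTransparency.types false
set_option linter.style.haveILetI false

universe u

open CategoryTheory Limits AlgebraicGeometry Opposite TopologicalSpace Pretriangulated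

attribute [local instance] HasDerivedCategory.standard

namespace Groth.Agent.DQCoh

variable {X : Scheme.{u}}

lemma exists_tilde_chart (E : DCoh.D X) (hE : DCoh.IsQCohD E) (V : X.Opens) (hV : IsAffineOpen V) :
    ∃ M : Dual.D Γ(X, V), Nonempty ((DCoh.tildeD Γ(X, V)).obj M ≅ (RD hV.fromSpec).obj E) :=
  RelPCS.exists_tilde_rep (P := Γ(X, V)) _ fun i =>
    QC.isQCoh_of_iso ((homologyDerIso (Scheme.Modules.restrictFunctor hV.fromSpec) i).app E).symm
      (QC.isQCoh_restrict _ (hE i))

theorem pc_iff_isCoh [IsNoetherian X] (E : DCoh.D X) (hE : DCoh.IsQCohD E) (m : ℤ) :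
    DCoh.IsPseudoCoherentD m E ↔
      (∀ i : ℤ, m ≤ i → Coh.IsCoh (DCoh.HD E i)) ∧ ∃ b : ℤ, E.IsLE b := by
  have hA : ∀ V : X.Opens, IsAffineOpen V → DRingKP.IsCoh Γ(X, V) := fun V hV => by
    haveI := IsLocallyNoetherian.component_noetherian (X := X) ⟨V, hV⟩
    exact DRingKP.isCoh_of_noetherian
  have aff : ∀ x : X, ∃ (V : X.Opens) (hV : IsAffineOpen V), x ∈ Set.range hV.fromSpec.base := fun x => by
    obtain ⟨_, ⟨V, hV, rfl⟩, hxV, -⟩ := X.isBasis_affineOpens.exists_subset_of_mem_open (Set.mem_univ x) isOpen_univ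
    exact ⟨V, hV, hV.range_fromSpec.ge hxV⟩
  have hd : ∀ (V : X.Opens) (hV : IsAffineOpen V) (M : Dual.D Γ(X, V))
      (_ : (DCoh.tildeD Γ(X, V)).obj M ≅ (RD hV.fromSpec).obj E) (i : ℤ),
      Nonempty ((tilde.functor Γ(X, V)).obj ((DerivedCategory.homologyFunctor (ModuleCat.{u} Γ(X, V)) i).obj M) ≅
        (DCoh.HD E i).restrict hV.fromSpec) := fun V hV M e i =>
    ⟨(hdTildeIso (R := Γ(X, V)) M i).symm ≪≫ (DerivedCategory.homologyFunctor _ i).mapIso e ≪≫
      (homologyDerIso (Scheme.Modules.restrictFunctor hV.fromSpec) i).app E⟩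
  constructor
  · intro h
    have hloc : ∀ (V : X.Opens) (hV : IsAffineOpen V),
        (∀ i, m ≤ i → CohB1.IsFT ((DCoh.HD E i).restrict hV.fromSpec)) ∧
          ∃ b : ℤ, ∀ i, b < i → IsZero ((DCoh.HD E i).restrict hV.fromSpec) := fun V hV => by
      obtain ⟨M, ⟨e⟩⟩ := exists_tilde_chart E hE V hV
      have hM : DRing.IsPseudoCoherent Γ(X, V) m M :=
        (pseudoCoherent_tilde_iff (A := Γ(X, V)) M m).1 (pc_of_iso e.symm (pc_restrict hV.fromSpec h))
      obtain ⟨h₁, h₂⟩ := DRingKP.pc_finite_fp (hA V hV) hM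
      refine ⟨fun i hi => ?_, ?_⟩
      · haveI : Module.Finite Γ(X, V) ((DerivedCategory.homologyFunctor (ModuleCat.{u} Γ(X, V)) i).obj M) := by
          obtain rfl | hi' := hi.eq_or_lt
          · exact h₁
          · haveI : Module.FinitePresentation Γ(X, V)
                ((DerivedCategory.homologyFunctor (ModuleCat.{u} Γ(X, V)) i).obj M) := h₂ i hi'
            infer_instance
        exact QC.isFT_of_epi (hd V hV M e i).some.hom (QC.isFT_tilde _)
      · obtain ⟨b, hb⟩ := DRingKP.pc_bounded hM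
        exact ⟨b, fun i hi => ((tilde.functor _).map_isZero (hb i (by lia))).of_iso (hd V hV M e i).some.symm⟩
    refine ⟨fun i hi => ⟨hE i, QC.isFT_of_local fun x => ?_⟩, ?_⟩
    · obtain ⟨V, hV, hx⟩ := aff x
      exact ⟨_, hV.fromSpec, inferInstance, hx, (hloc V hV).1 i hi⟩
    · choose V hV hx using aff
      choose b hb using fun x => (hloc (V x) (hV x)).2
      obtain ⟨T, hT⟩ := isCompact_univ.elim_finite_subcover (fun x => (V x : Set X)) (fun x => (V x).isOpen)
        (fun x _ => Set.mem_iUnion.2 ⟨x, (hV x).range_fromSpec.le (hx x)⟩)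
      obtain ⟨B, hB⟩ := (T.image b).bddAbove
      refine ⟨B, (DerivedCategory.isLE_iff E B).2 fun i hi => KFlat.isZero_of_stalks _ fun x => ?_⟩
      obtain ⟨y, hy, hxy⟩ := Set.mem_iUnion₂.1 (hT (Set.mem_univ x))
      obtain ⟨z, hz⟩ : x ∈ Set.range (hV y).fromSpec.base := (hV y).range_fromSpec.ge hxy
      have hz0 := hb y i (lt_of_le_of_lt (hB (Finset.mem_coe.2 (Finset.mem_image_of_mem b hy))) hi)
      subst hz
      let j := (hV y).fromSpec
      let ψ := (j.stalkMap z).hom
      haveI : IsIso (j.stalkMap z) := inferInstance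
      have h1 : IsZero ((ModuleCat.extendScalars.{u, u, u} ψ).obj ((DerSch.stalkFunctor X (j.base z)).obj (DCoh.HD E i))) :=
        ((DerSch.stalkFunctor _ z).map_isZero (hz0.of_iso ((Scheme.Modules.restrictFunctorIsoPullback j).app _).symm)).of_iso
          ((KFlat.pullStalkIso j z).app _).symm
      haveI : (ModuleCat.restrictScalars.{u} ψ).IsEquivalence :=
        ModuleCat.restrictScalars_isEquivalence_of_ringEquiv (asIso (j.stalkMap z)).commRingCatIsoToRingEquiv
      haveI : (ModuleCat.extendScalars.{u, u, u} ψ).IsEquivalence :=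
        (ModuleCat.extendRestrictScalarsAdj.{u, u, u} ψ).isEquivalence_left_of_isEquivalence_right
      rw [IsZero.iff_id_eq_zero] at h1 ⊢
      exact (ModuleCat.extendScalars.{u, u, u} ψ).map_injective
        (((ModuleCat.extendScalars.{u, u, u} ψ).map_id _).trans (h1.trans (Functor.map_zero _ _ _).symm))
  · rintro ⟨hc, b, hb⟩
    rw [pc_iff_near]
    intro x
    obtain ⟨V, hV, z, hz⟩ := aff x
    obtain ⟨M, ⟨e⟩⟩ := exists_tilde_chart E hE V hV
    haveI := IsLocallyNoetherian.component_noetherian (X := X) ⟨V, hV⟩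
    have hfin : ∀ i, m ≤ i → Module.Finite Γ(X, V)
        ((DerivedCategory.homologyFunctor (ModuleCat.{u} Γ(X, V)) i).obj M) := fun i hi =>
      (H4Easy.isFT_tilde_iff _ _).1 (QC.isFT_of_epi (hd V hV M e i).some.inv (QC.isFT_restrict _ (hc i hi).2))
    have hM : DRing.IsPseudoCoherent Γ(X, V) m M :=
      (DRingKP.pc_iff_coherent (hA V hV) ⟨b + 1, fun i hi => isZero_of_tilde
        (((Scheme.Modules.restrictFunctor hV.fromSpec).map_isZero ((DerivedCategory.isLE_iff E b).1 hb i (by lia))).of_iso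
          (hd V hV M e i).some)⟩).2
        ⟨hfin m le_rfl, fun i hi => by
          haveI := hfin i hi.le
          exact Module.finitePresentation_of_finite _ _⟩
    obtain ⟨U', k, hk, u', hu', hP⟩ :=
      (pc_iff_near m _).1 (pc_of_iso e ((pseudoCoherent_tilde_iff (A := Γ(X, V)) M m).2 hM)) z
    haveI := hk
    refine ⟨U', k ≫ hV.fromSpec, inferInstance, u', ?_, pcOn_push k hV.fromSpec hP⟩
    show hV.fromSpec.base (k.base u') = x
    rw [hu', hz]

end Groth.Agent.DQCoh
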