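import Groth.Agent.DQCoh.AffineAmp
import Groth.Agent.DQCoh.Pseudo
import Groth.Agent.DerPerf.PseudoCoh
import Groth.Agent.LocFree.Props
import Groth.Agent.LocFree.Summand
import Groth.Agent.DRingKP.PerfDesc
import Groth.Agent.DRingKP.Descend
import Groth.Agent.TildeKFlat.Lpull

/-!
# Pseudo-coherence and perfectness of `M~`
-/

set_option backward.isDefEq.respectTransparency false
set_option backward.isDefEq.respectTransparency.types false
set_option linter.style.haveILetI false
set_option autoImplicit false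

universe w w' v v' u u'

open CategoryTheory Limits AlgebraicGeometry HomologicalComplex

attribute [local instance] HasDerivedCategory.standard

namespace Groth.Agent.DQCoh

section Homology

variable {C : Type u} [Category.{v} C] [Abelian C] {D : Type u'} [Category.{v'} D] [Abelian D]
  (G : C ⥤ D) [G.Additive] [PreservesFiniteLimits G] [PreservesFiniteColimits G]

/-- cohomology commutes with exact functors, on complexes -/
noncomputable def homologyMapIso' (i : ℤ) :
    G.mapHomologicalComplex (ComplexShape.up ℤ) ⋙ HomologicalComplex.homologyFunctor D (ComplexShape.up ℤ) i ≅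
      HomologicalComplex.homologyFunctor C (ComplexShape.up ℤ) i ⋙ G :=
  NatIso.ofComponents (fun K => (K.sc i).mapHomologyIso G) fun {K L} f =>
    ShortComplex.mapHomologyIso_hom_naturality ((shortComplexFunctor C (ComplexShape.up ℤ) i).map f) G

/-- cohomology commutes with exact functors, on derived categories -/
noncomputable def homologyDerIso (i : ℤ) :
    G.mapDerivedCategory ⋙ DerivedCategory.homologyFunctor D i ≅
      DerivedCategory.homologyFunctor C i ⋙ G :=
  Localization.liftNatIso DerivedCategory.Q (HomologicalComplex.quasiIso C (ComplexShape.up ℤ))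
    (DerivedCategory.Q ⋙ G.mapDerivedCategory ⋙ DerivedCategory.homologyFunctor D i)
    (DerivedCategory.Q ⋙ DerivedCategory.homologyFunctor C i ⋙ G) _ _
    ((Functor.associator _ _ _).symm ≪≫ Functor.isoWhiskerRight G.mapDerivedCategoryFactors _ ≪≫
      Functor.associator _ _ _ ≪≫
      Functor.isoWhiskerLeft _ (DerivedCategory.homologyFunctorFactors D i) ≪≫
      homologyMapIso' G i ≪≫
      Functor.isoWhiskerRight (DerivedCategory.homologyFunctorFactors C i).symm _ ≪≫
      Functor.associator _ _ _)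

/-- isomorphism above `m`, epimorphism at `m` -/
def MIsoD (m : ℤ) {X Y : DerivedCategory C} (α : X ⟶ Y) : Prop :=
  (∀ i : ℤ, m < i → IsIso ((DerivedCategory.homologyFunctor C i).map α)) ∧
    Epi ((DerivedCategory.homologyFunctor C m).map α)

lemma mIsoD_map {m : ℤ} {X Y : DerivedCategory C} {α : X ⟶ Y} (h : MIsoD m α) :
    MIsoD m (G.mapDerivedCategory.map α) := by
  refine ⟨fun i hi => ?_, ?_⟩
  · haveI := h.1 i hi
    exact (NatIso.isIso_map_iff (homologyDerIso G i) α).2 (G.map_isIso _)
  · haveI := h.2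
    exact ((MorphismProperty.epimorphisms D).arrow_mk_iso_iff
      (Arrow.isoMk ((homologyDerIso G m).app X) ((homologyDerIso G m).app Y)
        ((homologyDerIso G m).hom.naturality α).symm)).2 (G.map_epi _)

lemma mIsoD_of_map [G.Faithful] {m : ℤ} {X Y : DerivedCategory C} {α : X ⟶ Y}
    (h : MIsoD m (G.mapDerivedCategory.map α)) : MIsoD m α := by
  refine ⟨fun i hi => ?_, ?_⟩
  · haveI : IsIso (G.map ((DerivedCategory.homologyFunctor C i).map α)) :=
      (NatIso.isIso_map_iff (homologyDerIso G i) α).1 (h.1 i hi)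
    exact isIso_of_reflects_iso _ G
  · exact G.epi_of_epi_map (((MorphismProperty.epimorphisms D).arrow_mk_iso_iff
      (Arrow.isoMk ((homologyDerIso G m).app X) ((homologyDerIso G m).app Y)
        ((homologyDerIso G m).hom.naturality α).symm)).1 h.2)

omit [G.Additive] [PreservesFiniteLimits G] [PreservesFiniteColimits G] in
lemma mIsoD_comp_iso {m : ℤ} {X' X Y Y' : DerivedCategory C} (e : X' ≅ X) {α : X ⟶ Y} (e' : Y ≅ Y')
    (h : MIsoD m α) : MIsoD m (e.hom ≫ α ≫ e'.hom) := by
  refine ⟨fun i hi => ?_, ?_⟩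
  · have := h.1 i hi
    rw [Functor.map_comp, Functor.map_comp]
    infer_instance
  · have := h.2
    rw [Functor.map_comp, Functor.map_comp]
    infer_instance

end Homology

section Affine

variable {A : Type u} [CommRing A]

instance : PreservesFiniteLimits (tilde.functor (CommRingCat.of A)) := QC.tilde_preservesFiniteLimits

instance : (tilde.functor (CommRingCat.of A)).Faithful :=
  (tilde.fullyFaithfulFunctor (R := CommRingCat.of A)).faithful

instance : (tilde.functor (CommRingCat.of A)).Additive := TildeKFlat.additive_tilde _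

instance : PreservesFiniteColimits (tilde.functor (CommRingCat.of A)) :=
  TildeKFlat.preservesFiniteColimits_tilde _

instance : (moduleSpecΓFunctor (R := CommRingCat.of A)).Additive :=
  (tilde.adjunction (R := CommRingCat.of A)).right_adjoint_additive

instance : (moduleSpecΓFunctor (R := CommRingCat.of A)).PreservesZeroMorphisms :=
  @Functor.preservesZeroMorphisms_of_additive _ _ _ _ _ _ _ inferInstance

lemma isFinLocFree_of_iso' {X : Scheme.{u}} {M N : X.Modules} (e : M ≅ N) (h : FlatMod.IsFinLocFree M) :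
    FlatMod.IsFinLocFree N := fun x => by
  obtain ⟨U, n, hx, ⟨i⟩⟩ := h x
  exact ⟨U, n, hx, ⟨(Scheme.Modules.restrictFunctor U.ι).mapIso e.symm ≪≫ i⟩⟩

lemma isFinLocFree_tilde (N : ModuleCat.{u} A) (hN : Module.Finite A N ∧ Module.Projective A N) :
    FlatMod.IsFinLocFree (tilde (R := CommRingCat.of A) N) := by
  obtain ⟨hf, hp⟩ := hN
  obtain ⟨n, p, hp'⟩ := Module.Finite.exists_fin' A N
  obtain ⟨s, hs⟩ := Module.projective_lifting_property p LinearMap.id hp'
  let F : ModuleCat.{u} A := ModuleCat.of A (ULift.{u} (Fin n) →₀ A)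
  let e : (Fin n → A) ≃ₗ[A] (ULift.{u} (Fin n) →₀ A) :=
    (Finsupp.linearEquivFunOnFinite A A (Fin n)).symm ≪≫ₗ Finsupp.domLCongr Equiv.ulift.symm
  let i : N ⟶ F := ModuleCat.ofHom (e.toLinearMap.comp s)
  let r : F ⟶ N := ModuleCat.ofHom (p.comp e.symm.toLinearMap)
  have hir : i ≫ r = 𝟙 N := by
    ext x
    exact (congrArg p (e.symm_apply_apply (s x))).trans (LinearMap.congr_fun hs x)
  let eF : (tilde.functor (CommRingCat.of A)).obj F ≅ FlatMod.freeMod (Spec (CommRingCat.of A)) n :=
    tildeFinsupp (R := CommRingCat.of A) (ULift.{u} (Fin n)) ≪≫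
      Sigma.whiskerEquiv (g := fun _ : Fin n => Coh.structureModule (Spec (CommRingCat.of A)))
        Equiv.ulift (fun _ => Iso.refl _)
  exact LocFree.isFinLocFree_of_retract _ n ((tilde.functor _).map i ≫ eF.hom) (eF.inv ≫ (tilde.functor _).map r)
    (by rw [Category.assoc, eF.hom_inv_id_assoc, ← Functor.map_comp, hir, CategoryTheory.Functor.map_id]; rfl)

lemma finiteProjective_gamma (M : (Spec (CommRingCat.of A)).Modules) (h : FlatMod.IsFinLocFree M) :
    Module.Finite A ((moduleSpecΓFunctor (R := CommRingCat.of A)).obj M) ∧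
      Module.Projective A ((moduleSpecΓFunctor (R := CommRingCat.of A)).obj M) := by
  let X := Spec (CommRingCat.of A)
  let N := (moduleSpecΓFunctor (R := CommRingCat.of A)).obj M
  let e : Γ(X, ⊤) ≃+* A := (Scheme.ΓSpecIso (CommRingCat.of A)).commRingCatIsoToRingEquiv
  haveI : RingHomInvPair (e : Γ(X, ⊤) →+* A) (e.symm : A →+* Γ(X, ⊤)) := RingHomInvPair.of_ringEquiv e
  haveI : RingHomInvPair (e.symm : A →+* Γ(X, ⊤)) (e : Γ(X, ⊤) →+* A) := RingHomInvPair.of_ringEquiv e.symm
  let l : Γ(M, ⊤) ≃ₛₗ[(e : Γ(X, ⊤) →+* A)] N :=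
    { toFun := fun s => s
      map_add' := fun _ _ => rfl
      map_smul' := fun c s => by
        show c • s = e.symm (e c) • (show Γ(M, ⊤) from s)
        rw [e.symm_apply_apply]
      invFun := fun s => s
      left_inv := fun _ => rfl
      right_inv := fun _ => rfl }
  have hfp := LocFree.finitePresentation_sections h (isAffineOpen_top X)
  have hpr := LocFree.projective_sections h (isAffineOpen_top X)
  haveI := hpr
  refine ⟨?_, Module.Projective.of_equiv l⟩
  haveI : Module.Finite Γ(X, ⊤) Γ(M, ⊤) := inferInstance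
  haveI : RingHomSurjective (e : Γ(X, ⊤) →+* A) := ⟨e.surjective⟩
  exact Module.Finite.of_surjective l.toLinearMap l.surjective

set_option maxHeartbeats 1000000 in
lemma exists_tilde_strictlyPerfect (E : CochainComplex (Spec (CommRingCat.of A)).Modules ℤ)
    (h : DCoh.IsStrictlyPerfect E) :
    ∃ (E₀ : DRing.Cx A) (a b : ℤ), DRing.VanishesOutside E₀ a b ∧ DRing.TermwiseFiniteProjective E₀ ∧
      Nonempty ((tCx (R := CommRingCat.of A)).obj E₀ ≅ E) := by
  obtain ⟨⟨a, b, hab⟩, hE⟩ := h
  let Γf := moduleSpecΓFunctor (R := CommRingCat.of A)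
  haveI : ∀ n, IsIso ((Scheme.Modules.fromTildeΓNatTrans (R := CommRingCat.of A)).app (E.X n)) := fun n => by
    haveI : (E.X n).IsQuasicoherent := isQCoh_of_isFinLocFree (hE n)
    exact Scheme.Modules.isIso_fromTildeΓ_of_isQuasicoherent (R := CommRingCat.of A) (E.X n)
  refine ⟨(Γf.mapHomologicalComplex _).obj E, a, b, fun i hi => Γf.map_isZero (hab i hi),
    fun i => finiteProjective_gamma _ (hE i), ⟨HomologicalComplex.Hom.isoOfComponents
      (fun n => @asIso _ _ _ _ ((Scheme.Modules.fromTildeΓNatTrans (R := CommRingCat.of A)).app (E.X n)) (this n))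
      fun i j _ => ((Scheme.Modules.fromTildeΓNatTrans (R := CommRingCat.of A)).naturality (E.d i j)).symm⟩⟩

lemma isStrictlyPerfect_tilde {E₀ : DRing.Cx A} {a b : ℤ} (hv : DRing.VanishesOutside E₀ a b)
    (hp : DRing.TermwiseFiniteProjective E₀) :
    DCoh.IsStrictlyPerfect ((tCx (R := CommRingCat.of A)).obj E₀) :=
  ⟨⟨a, b, fun i hi => (tilde.functor _).map_isZero (hv i hi)⟩, fun i => isFinLocFree_tilde _ (hp i)⟩

/-- complexes of `M~` and their restrictions -/
lemma exists_away {V : (Spec (CommRingCat.of A)).Opens} {x : Spec (CommRingCat.of A)} (hx : x ∈ V) :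
    ∃ f : A, f ∉ x.asIdeal ∧ ∃ g : Spec (CommRingCat.of (Localization.Away f)) ⟶ (V : Scheme.{u}),
      IsOpenImmersion g ∧ g ≫ V.ι = Spec.map (CommRingCat.ofHom (algebraMap A (Localization.Away f))) := by
  obtain ⟨_, ⟨f, rfl⟩, hxf, hfV⟩ :=
    TopologicalSpace.Opens.isBasis_iff_nbhd.1 PrimeSpectrum.isBasis_basic_opens hx
  let j := Spec.map (CommRingCat.ofHom (algebraMap A (Localization.Away f)))
  haveI : IsOpenImmersion j := IsOpenImmersion.of_isLocalization f
  have hr : Set.range j ⊆ Set.range V.ι := by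
    rw [show Set.range j = (PrimeSpectrum.basicOpen f : Set (PrimeSpectrum A)) from
      PrimeSpectrum.localization_away_comap_range (Localization.Away f) f, Scheme.Opens.range_ι]
    exact hfV
  refine ⟨f, hxf, IsOpenImmersion.lift V.ι j hr, ?_, IsOpenImmersion.lift_fac _ _ _⟩
  haveI : IsOpenImmersion (IsOpenImmersion.lift V.ι j hr ≫ V.ι) := by
    rw [IsOpenImmersion.lift_fac]; infer_instance
  exact IsOpenImmersion.of_comp _ V.ι

/-- restriction of `P~` to a distinguished open -/
noncomputable def pullAwayIso {f : A} {V : (Spec (CommRingCat.of A)).Opens}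
    (g : Spec (CommRingCat.of (Localization.Away f)) ⟶ (V : Scheme.{u}))
    (hg : g ≫ V.ι = Spec.map (CommRingCat.ofHom (algebraMap A (Localization.Away f)))) (P : DRing.Cx A) :
    ((Scheme.Modules.pullback g).mapHomologicalComplex (ComplexShape.up ℤ)).obj
        ((DCoh.restrictCx V).obj ((tCx (R := CommRingCat.of A)).obj P)) ≅
      (tCx (R := CommRingCat.of (Localization.Away f))).obj
        (((ModuleCat.extendScalars.{u, u, u} (algebraMap A (Localization.Away f))).mapHomologicalComplex _).obj P) :=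
  let η : (tilde.functor (CommRingCat.of A) ⋙ Scheme.Modules.restrictFunctor V.ι) ⋙ Scheme.Modules.pullback g ≅
      ModuleCat.extendScalars.{u, u, u} (algebraMap A (Localization.Away f)) ⋙
        tilde.functor (CommRingCat.of (Localization.Away f)) :=
    Functor.associator _ _ _ ≪≫ Functor.isoWhiskerLeft _ (Functor.isoWhiskerRight
        (Scheme.Modules.restrictFunctorIsoPullback V.ι) _ ≪≫ Scheme.Modules.pullbackComp g V.ι ≪≫
        Scheme.Modules.pullbackCongr hg) ≪≫
      QC.pullbackTildeIso (CommRingCat.ofHom (algebraMap A (Localization.Away f)))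
  HomologicalComplex.Hom.isoOfComponents (fun n => η.app (P.X n))
    fun i j _ => (η.hom.naturality (P.d i j)).symm

lemma exists_finset_away (S : PrimeSpectrum A → A) (hS : ∀ x, S x ∉ x.asIdeal) :
    ∃ t : Finset (PrimeSpectrum A), Ideal.span (Set.range fun x : t => S x.1) = ⊤ := by
  classical
  have h : Ideal.span (Set.range S) = ⊤ := by
    by_contra hne
    obtain ⟨m, hm, hle⟩ := Ideal.exists_le_maximal _ hne
    exact hS ⟨m, hm.isPrime⟩ (hle (Ideal.subset_span ⟨_, rfl⟩))
  obtain ⟨s, hs, hs'⟩ := Submodule.mem_span_finite_of_mem_span ((Ideal.eq_top_iff_one _).1 h)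
  choose g hg using fun y : s => hs y.2
  refine ⟨Finset.univ.image g, (Ideal.eq_top_iff_one _).2 (Submodule.span_mono ?_ hs')⟩
  intro y hy
  exact ⟨⟨g ⟨y, hy⟩, Finset.mem_image_of_mem _ (Finset.mem_univ _)⟩, hg ⟨y, hy⟩⟩

theorem pseudoCoherent_tilde_iff (M : Dual.D A) (m : ℤ) :
    DCoh.IsPseudoCoherentD m ((DCoh.tildeD (CommRingCat.of A)).obj M) ↔ DRing.IsPseudoCoherent A m M := by
  let P := (DerivedCategory.Q : _ ⥤ DerivedCategory (ModuleCat.{u} A)).objPreimage M
  let eP : DRing.toD P ≅ M := DerivedCategory.Q.objObjPreimageIso M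
  rw [DerPerf.isPseudoCoherent_iff_rep
    ((tildeToDIso (R := CommRingCat.of A) P).symm ≪≫ (DCoh.tildeD (CommRingCat.of A)).mapIso eP)]
  constructor
  · intro h
    have key : ∀ x : PrimeSpectrum A, ∃ f : A, f ∉ x.asIdeal ∧
        DRing.IsPseudoCoherent (Localization.Away f) m
          (DRing.toD ((DRingKP.bc (algebraMap A (Localization.Away f))).obj P)) := by
      intro x
      obtain ⟨V, hV, E, α, hE, hα⟩ := h x
      obtain ⟨f, hf, g, hg', hg⟩ := exists_away hV
      refine ⟨f, hf, ?_⟩
      haveI := hg'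
      let G := Scheme.Modules.pullback g
      haveI : PreservesFiniteLimits G :=
        preservesFiniteLimits_of_natIso (Scheme.Modules.restrictFunctorIsoPullback g)
      obtain ⟨E₀, a, b, hv, hp, ⟨e₀⟩⟩ :=
        exists_tilde_strictlyPerfect _ (DerPerf.isStrictlyPerfect_pullback g hE)
      let R' := CommRingCat.of (Localization.Away f)
      let P' := (DRingKP.bc (algebraMap A (Localization.Away f))).obj P
      haveI := (tildeD_affine (R := R')).1
      let lhs : (DCoh.tildeD R').obj (DRing.toD E₀) ≅ G.mapDerivedCategory.obj (DerivedCategory.Q.obj E) :=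
        tildeToDIso (R := R') E₀ ≪≫ DerivedCategory.Q.mapIso e₀ ≪≫ (G.mapDerivedCategoryFactors.app E).symm
      let rhs : G.mapDerivedCategory.obj (DerivedCategory.Q.obj ((DCoh.restrictCx V).obj
          ((tCx (R := CommRingCat.of A)).obj P))) ≅ (DCoh.tildeD R').obj (DRing.toD P') :=
        G.mapDerivedCategoryFactors.app _ ≪≫ DerivedCategory.Q.mapIso (pullAwayIso g hg P) ≪≫
          (tildeToDIso (R := R') P').symm
      obtain ⟨β, hβ⟩ := (DCoh.tildeD R').map_surjective (lhs.hom ≫ G.mapDerivedCategory.map α ≫ rhs.hom)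
      have hβ' : DRingKP.MIso m β := mIsoD_of_map (tilde.functor R') (by
        erw [hβ]
        exact mIsoD_comp_iso lhs rhs (mIsoD_map G hα))
      obtain ⟨T, t₁, t₂, hT⟩ := Pretriangulated.distinguished_cocone_triangle β
      exact DRingKP.pc_obj₂ _ hT m
        (DRingKP.pc_of_pc' (DRingKP.pc'_of_isPerfect ⟨E₀, a, b, hv, hp, ⟨Iso.refl _⟩⟩) m)
        (DRingKP.pc_of_isAbove ((DRingKP.mIso_iff m _ hT).1 hβ'))
    choose S hS hS' using key
    obtain ⟨t, ht⟩ := exists_finset_away S hS
    exact DRingKP.pc_of_iso eP (DRingKP.pc_of_bc (B := fun x : t => Localization.Away (S x.1))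
      (DRingKP.detects_away _ ht) m P fun x => hS' x.1)
  · intro hM x
    obtain ⟨E, a, b, α, hv, hf, hα⟩ := DRingKP.pc_iff.1 (DRingKP.pc_of_iso eP.symm hM)
    let V : (Spec (CommRingCat.of A)).Opens := ⊤
    let G := Scheme.Modules.restrictFunctor V.ι
    haveI : PreservesFiniteLimits G := inferInstance
    let e := fun Q' : DRing.Cx A =>
      G.mapDerivedCategory.mapIso (tildeToDIso (R := CommRingCat.of A) Q') ≪≫
        G.mapDerivedCategoryFactors.app ((tCx (R := CommRingCat.of A)).obj Q')
    refine ⟨V, trivial, (DCoh.restrictCx V).obj ((tCx (R := CommRingCat.of A)).obj E),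
      (e E).inv ≫ G.mapDerivedCategory.map ((DCoh.tildeD (CommRingCat.of A)).map α) ≫ (e P).hom, ?_, ?_⟩
    · obtain ⟨⟨a', b', hab'⟩, hl⟩ := DerPerf.isStrictlyPerfect_pullback V.ι
        (isStrictlyPerfect_tilde hv (DRingKP.termwiseFiniteProjective_of_free hf))
      exact ⟨⟨a', b', fun i hi => (hab' i hi).of_iso
          ((Scheme.Modules.restrictFunctorIsoPullback V.ι).app _)⟩,
        fun i => isFinLocFree_of_iso' ((Scheme.Modules.restrictFunctorIsoPullback V.ι).app _).symm (hl i)⟩
    · exact mIsoD_comp_iso (e E).symm (e P) (mIsoD_map G (mIsoD_map (tilde.functor (CommRingCat.of A)) hα))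

theorem perfect_tilde_iff (M : Dual.D A) :
    DCoh.IsPerfect ((DCoh.tildeD (CommRingCat.of A)).obj M) ↔ DRing.IsPerfect A M := by
  let P := (DerivedCategory.Q : _ ⥤ DerivedCategory (ModuleCat.{u} A)).objPreimage M
  let eP : DRing.toD P ≅ M := DerivedCategory.Q.objObjPreimageIso M
  let eM := (tildeToDIso (R := CommRingCat.of A) P).symm ≪≫ (DCoh.tildeD (CommRingCat.of A)).mapIso eP
  rw [DerPerf.isPerfect_iff_rep eM]
  constructor
  · intro h
    have key : ∀ x : PrimeSpectrum A, ∃ f : A, f ∉ x.asIdeal ∧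
        DRing.IsPerfect (Localization.Away f)
          (DRing.toD ((DRingKP.bc (algebraMap A (Localization.Away f))).obj P)) := by
      intro x
      obtain ⟨V, hV, E, hE, ⟨i⟩⟩ := h x
      obtain ⟨f, hf, g, hg', hg⟩ := exists_away hV
      refine ⟨f, hf, ?_⟩
      haveI := hg'
      let G := Scheme.Modules.pullback g
      haveI : PreservesFiniteLimits G :=
        preservesFiniteLimits_of_natIso (Scheme.Modules.restrictFunctorIsoPullback g)
      obtain ⟨E₀, a, b, hv, hp, ⟨e₀⟩⟩ :=
        exists_tilde_strictlyPerfect _ (DerPerf.isStrictlyPerfect_pullback g hE)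
      let R' := CommRingCat.of (Localization.Away f)
      haveI := (tildeD_affine (R := R')).1
      haveI := (tildeD_affine (R := R')).2.1
      refine ⟨E₀, a, b, hv, hp, ⟨(DCoh.tildeD R').preimageIso ?_⟩⟩
      exact tildeToDIso (R := R') E₀ ≪≫ DerivedCategory.Q.mapIso e₀ ≪≫ (G.mapDerivedCategoryFactors.app E).symm ≪≫
        G.mapDerivedCategory.mapIso i.symm ≪≫ G.mapDerivedCategoryFactors.app _ ≪≫
        DerivedCategory.Q.mapIso (pullAwayIso g hg P) ≪≫ (tildeToDIso (R := R') _).symm
    choose S hS hS' using key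
    obtain ⟨t, ht⟩ := exists_finset_away S hS
    obtain ⟨E, a, b, hv, hp, ⟨e⟩⟩ := DRingKP.isPerfect_of_bc (B := fun x : t => Localization.Away (S x.1))
      (DRingKP.detects_away _ ht) P fun x => hS' x.1
    exact ⟨E, a, b, hv, hp, ⟨e ≪≫ eP⟩⟩
  · rintro ⟨E, a, b, hv, hp, ⟨e⟩⟩ x
    let V : (Spec (CommRingCat.of A)).Opens := ⊤
    obtain ⟨⟨a', b', hab'⟩, hl⟩ := DerPerf.isStrictlyPerfect_pullback V.ι (isStrictlyPerfect_tilde hv hp)
    exact ⟨V, trivial, (DCoh.restrictCx V).obj ((tCx (R := CommRingCat.of A)).obj E),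
      ⟨⟨a', b', fun i hi => (hab' i hi).of_iso ((Scheme.Modules.restrictFunctorIsoPullback V.ι).app _)⟩,
        fun i => isFinLocFree_of_iso' ((Scheme.Modules.restrictFunctorIsoPullback V.ι).app _).symm (hl i)⟩,
      ⟨DerPerf.restrictCxIso V (eM ≪≫ (DCoh.tildeD (CommRingCat.of A)).mapIso e.symm ≪≫
        tildeToDIso (R := CommRingCat.of A) E)⟩⟩

end Affine

end Groth.Agent.DQCoh
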