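import Groth.Agent.DQCoh.QCDescent
import Groth.Agent.DQCoh.PerfCrit
import Groth.Agent.DRingKP.PerfDesc

/-!
# Descent of pseudo-coherence and perfection along fpqc maps, on schemes
-/

set_option autoImplicit false
set_option backward.isDefEq.respectTransparency false
set_option backward.isDefEq.respectTransparency.types false
set_option linter.style.haveILetI false

universe u

open CategoryTheory Limits AlgebraicGeometry Opposite TopologicalSpace Pretriangulated

attribute [local instance] HasDerivedCategory.standard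

namespace Groth.Agent.DQCoh

open Groth.Agent.RelPCS

variable {X Y : Scheme.{u}}

/-- Objects with quasi-coherent cohomology descend the property `P` once it does so for rings. -/
theorem descend_affine (f : X ⟶ Y) [Flat f]
    (PS : ∀ {Z : Scheme.{u}}, DCoh.D Z → Prop) (PR : ∀ (A : Type u) [CommRing A], Dual.D A → Prop)
    (hiso : ∀ {Z : Scheme.{u}} {K L : DCoh.D Z}, (K ≅ L) → PS K → PS L)
    (hres : ∀ {U Z : Scheme.{u}} (j : U ⟶ Z) [IsOpenImmersion j] {K : DCoh.D Z}, PS K → PS ((RD j).obj K))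
    (htilde : ∀ (A : Type u) [CommRing A] (M : Dual.D A),
      PS ((DCoh.tildeD (CommRingCat.of A)).obj M) ↔ PR A M)
    (hdesc : ∀ (A : Type u) [CommRing A] {ι : Type u} [Finite ι] (B : ι → Type u) [∀ i, CommRing (B i)]
      [∀ i, Algebra A (B i)] [∀ i, Module.Flat A (B i)], DRingKP.Detects (A := A) B → ∀ (L : DRing.Cx A),
      (∀ i, PR (B i) (DRing.toD ((DRingKP.bc (algebraMap A (B i))).obj L))) → PR A (DRing.toD L))
    (hf : ∀ V : Y.Opens, IsAffineOpen V → ∃ (κ : Type u) (_ : Finite κ) (W : κ → X.Opens),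
      (∀ k, IsAffineOpen (W k)) ∧ (∀ k, W k ≤ f ⁻¹ᵁ V) ∧ ∀ y ∈ V, ∃ k, ∃ x ∈ W k, f.base x = y)
    (E : DCoh.D Y) (hE : DCoh.IsQCohD E) (h : PS ((PB f).obj E)) (V : Y.Opens) (hV : IsAffineOpen V) :
    PS ((RD hV.fromSpec).obj E) := by
  obtain ⟨κ, _, W, hW, hWV, hcov⟩ := hf V hV
  let A : Type u := Γ(Y, V)
  let B : κ → Type u := fun k => Γ(X, W k)
  let r : ∀ k, A →+* B k := fun k => (f.appLE V (W k) (hWV k)).hom
  letI : ∀ k, Algebra A (B k) := fun k => (r k).toAlgebra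
  haveI : ∀ k, Module.Flat A (B k) := fun k => f.flat_appLE hV (hW k) (hWV k)
  have hD : DRingKP.Detects (A := A) B := detects_of_flat_surj B fun p => by
    obtain ⟨k, t, ht, hts⟩ := hcov (hV.fromSpec.base p) (hV.range_fromSpec.le ⟨p, rfl⟩)
    obtain ⟨q, hq⟩ : t ∈ Set.range (hW k).fromSpec.base := (hW k).range_fromSpec.ge ht
    refine ⟨k, q, hV.fromSpec.isOpenEmbedding.injective ?_⟩
    have w := IsAffineOpen.SpecMap_appLE_fromSpec f hV (hW k) (hWV k)
    exact ((congrArg (fun g => g.base q) w).trans ((congrArg f.base hq).trans hts))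
  let K := (RD hV.fromSpec).obj E
  have hK : DCoh.IsQCohD (X := Spec (CommRingCat.of A)) K := fun i =>
    QC.isQCoh_of_iso ((homologyDerIso (Scheme.Modules.restrictFunctor hV.fromSpec) i).app E).symm
      (QC.isQCoh_restrict _ (hE i))
  obtain ⟨M, ⟨e⟩⟩ := exists_tilde_rep K hK
  let L := (DerivedCategory.Q : _ ⥤ DerivedCategory (ModuleCat.{u} A)).objPreimage M
  let eL : DRing.toD L ≅ M := DerivedCategory.Q.objObjPreimageIso M
  refine hiso ((DCoh.tildeD (CommRingCat.of A)).mapIso eL ≪≫ e) ((htilde A _).2 (hdesc A B hD L fun k => ?_))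
  let γ : A →+* B k := algebraMap A (B k)
  haveI : Flat (sp γ) := Flat.SpecMap_iff.2 (f.flat_appLE hV (hW k) (hWV k))
  let e1 : (PB (sp γ)).obj K ≅ DCoh.toD _ (((Scheme.Modules.pullback (sp γ)).mapHomologicalComplex (ComplexShape.up ℤ)).obj
      ((tCx (R := CommRingCat.of A)).obj L)) :=
    (PB (sp γ)).mapIso (e.symm ≪≫ (DCoh.tildeD (CommRingCat.of A)).mapIso eL.symm ≪≫
      tildeToDIso (R := CommRingCat.of A) L) ≪≫ (Scheme.Modules.pullback (sp γ)).mapDerivedCategoryFactors.app _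
  let τ := QC.pullbackTildeIso (CommRingCat.ofHom γ)
  let e2 : ((Scheme.Modules.pullback (sp γ)).mapHomologicalComplex (ComplexShape.up ℤ)).obj
      ((tCx (R := CommRingCat.of A)).obj L) ≅ (tCx (R := CommRingCat.of (B k))).obj ((DRingKP.bc γ).obj L) :=
    HomologicalComplex.Hom.isoOfComponents (fun n => τ.app (L.X n))
      (fun i j _ => (τ.hom.naturality (L.d i j)).symm)
  have w : (hW k).fromSpec ≫ f = sp γ ≫ hV.fromSpec :=
    (IsAffineOpen.SpecMap_appLE_fromSpec f hV (hW k) (hWV k)).symm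
  let e3 := (pbRdIso hV.fromSpec (hW k).fromSpec (sp γ) w).app E
  exact (htilde (B k) _).1 (hiso (e3 ≪≫ e1 ≪≫ DerivedCategory.Q.mapIso e2 ≪≫
    (tildeToDIso (R := CommRingCat.of (B k)) _).symm) (hres (hW k).fromSpec h))

lemma perfect_restrict {U Z : Scheme.{u}} (j : U ⟶ Z) [IsOpenImmersion j] {K : DCoh.D Z} (h : DCoh.IsPerfect K) :
    DCoh.IsPerfect ((RD j).obj K) := by
  rw [perfect_iff_near] at h ⊢
  intro u
  obtain ⟨U', j', hj', u', hu', hP⟩ := h (j.base u)
  haveI := hj'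
  obtain ⟨W, k, k', hk, hk', w, hw, hw', hkk⟩ := exists_common j j' u u' hu'.symm
  obtain ⟨E, hE, ⟨i⟩⟩ := perfOn_congr hkk.symm (perfOn_comp k' j' hP)
  exact ⟨W, k, hk, w, hw, E, hE, ⟨((rdComp k j).app K).symm ≪≫ i⟩⟩

variable (f : X ⟶ Y) [Flat f]
  (hf : ∀ V : Y.Opens, IsAffineOpen V → ∃ (κ : Type u) (_ : Finite κ) (W : κ → X.Opens),
      (∀ k, IsAffineOpen (W k)) ∧ (∀ k, W k ≤ f ⁻¹ᵁ V) ∧ ∀ y ∈ V, ∃ k, ∃ x ∈ W k, f.base x = y)
include hf

theorem pc_descends (E : DCoh.D Y) (hE : DCoh.IsQCohD E) (m : ℤ)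
    (h : DCoh.IsPseudoCoherentD m ((PB f).obj E)) : DCoh.IsPseudoCoherentD m E := by
  have key := descend_affine f (fun {Z} K => DCoh.IsPseudoCoherentD m K) (fun A _ M => DRing.IsPseudoCoherent A m M)
    (fun e hK => pc_of_iso e hK) (fun j _ _ hK => pc_restrict j hK) (fun A _ M => pseudoCoherent_tilde_iff M m)
    (fun A _ {ι} _ B _ _ _ hD L hL => DRingKP.pc_of_bc hD m L hL) hf E hE h
  rw [pc_iff_near]
  intro y
  obtain ⟨_, ⟨V, hV, rfl⟩, hyV, -⟩ := Y.isBasis_affineOpens.exists_subset_of_mem_open (Set.mem_univ y) isOpen_univ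
  obtain ⟨z, hz⟩ : y ∈ Set.range hV.fromSpec.base := hV.range_fromSpec.ge hyV
  obtain ⟨U', k, hk, u', hu', hP⟩ := (pc_iff_near m _).1 (key V hV) z
  haveI := hk
  refine ⟨U', k ≫ hV.fromSpec, inferInstance, u', ?_, pcOn_push k hV.fromSpec hP⟩
  show hV.fromSpec.base (k.base u') = y
  rw [hu', hz]

theorem perfect_descends (E : DCoh.D Y) (hE : DCoh.IsQCohD E)
    (h : DCoh.IsPerfect ((PB f).obj E)) : DCoh.IsPerfect E := by
  have key := descend_affine f (fun {Z} K => DCoh.IsPerfect K) (fun A _ M => DRing.IsPerfect A M)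
    (fun e hK => perfect_of_iso e hK) (fun j _ _ hK => perfect_restrict j hK) (fun A _ M => perfect_tilde_iff M)
    (fun A _ {ι} _ B _ _ _ hD L hL => DRingKP.isPerfect_of_bc hD L hL) hf E hE h
  rw [perfect_iff_near]
  intro y
  obtain ⟨_, ⟨V, hV, rfl⟩, hyV, -⟩ := Y.isBasis_affineOpens.exists_subset_of_mem_open (Set.mem_univ y) isOpen_univ
  obtain ⟨z, hz⟩ : y ∈ Set.range hV.fromSpec.base := hV.range_fromSpec.ge hyV
  obtain ⟨U', k, hk, u', hu', hP⟩ := (perfect_iff_near _).1 (key V hV) z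
  haveI := hk
  refine ⟨U', k ≫ hV.fromSpec, inferInstance, u', ?_, perfOn_push k hV.fromSpec hP⟩
  show hV.fromSpec.base (k.base u') = y
  rw [hu', hz]

theorem isQCohD_of_pc (E : DCoh.D Y) (h : ∀ m, DCoh.IsPseudoCoherentD m ((PB f).obj E)) : DCoh.IsQCohD E :=
  fun i => isQCoh_of_pieces f _ hf (QC.isQCoh_of_iso (by
    haveI := preservesFiniteLimits_pullback f
    haveI := (Scheme.Modules.pullbackPushforwardAdjunction f).leftAdjoint_preservesColimits.{0, 0}
    exact (homologyDerIso (Scheme.Modules.pullback f) i).app E)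
    ((isQCoh_cohomology_of_pseudoCoherent (i - 1) _ (h (i - 1))).1 i (by lia)))

end Groth.Agent.DQCoh
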