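import Groth.Agent.DQCoh.Pseudo
import Groth.Agent.CohQC.QuasiAffine
import Groth.Agent.DerPerf.Local
import Groth.Agent.DerPerf.PseudoCoh

/-!
# Local lifting from strictly perfect complexes
-/

set_option backward.isDefEq.respectTransparency false
set_option backward.isDefEq.respectTransparency.types false
set_option linter.style.haveILetI false
set_option autoImplicit false

universe u

open CategoryTheory Limits AlgebraicGeometry HomologicalComplex Opposite TopologicalSpace

attribute [local instance] HasDerivedCategory.standard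

namespace Groth.Agent.DQCoh

variable {X U W : Scheme.{u}}

/-- restriction along an open immersion, on complexes -/
noncomputable abbrev rC (j : U ⟶ X) [IsOpenImmersion j] :
    CochainComplex X.Modules ℤ ⥤ CochainComplex U.Modules ℤ :=
  (Scheme.Modules.restrictFunctor j).mapHomologicalComplex (ComplexShape.up ℤ)

instance preservesFiniteLimits_restrictFunctor' (j : U ⟶ X) [IsOpenImmersion j] :
    PreservesFiniteLimits (Scheme.Modules.restrictFunctor j) :=
  QC.preservesFiniteLimits_of_preservesMono _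

/-- restriction along a composite, on complexes -/
noncomputable def rCComp (k : W ⟶ U) (j : U ⟶ X) [IsOpenImmersion k] [IsOpenImmersion j] :
    rC (k ≫ j) ≅ rC j ⋙ rC k :=
  NatIso.ofComponents (fun C => HomologicalComplex.Hom.isoOfComponents
      (fun n => (Scheme.Modules.restrictFunctorComp k j).app (C.X n))
      fun p q _ => ((Scheme.Modules.restrictFunctorComp k j).hom.naturality (C.d p q)).symm)
    fun {C D} g => HomologicalComplex.hom_ext _ _ fun n =>
      (Scheme.Modules.restrictFunctorComp k j).hom.naturality (g.f n)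

lemma isFinLocFree_restrict (j : U ⟶ X) [IsOpenImmersion j] {M : X.Modules} (h : FlatMod.IsFinLocFree M) :
    FlatMod.IsFinLocFree ((Scheme.Modules.restrictFunctor j).obj M) := fun x => by
  obtain ⟨V, n, hx, ⟨e⟩⟩ := DerPerf.isFinLocFree_pullback j h x
  exact ⟨V, n, hx, ⟨(Scheme.Modules.restrictFunctor V.ι).mapIso
    ((Scheme.Modules.restrictFunctorIsoPullback j).app M) ≪≫ e⟩⟩

lemma isStrictlyPerfect_restrict (j : U ⟶ X) [IsOpenImmersion j] {E : CochainComplex X.Modules ℤ}
    (h : DCoh.IsStrictlyPerfect E) : DCoh.IsStrictlyPerfect ((rC j).obj E) := by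
  obtain ⟨⟨a, b, hab⟩, hl⟩ := h
  exact ⟨⟨a, b, fun i hi => (Scheme.Modules.restrictFunctor j).map_isZero (hab i hi)⟩,
    fun i => isFinLocFree_restrict j (hl i)⟩

/-- sections of an epimorphism lift locally -/
lemma exists_local_section {G H : X.Modules} (p : G ⟶ H) [Epi p] (s : Γ(H, ⊤)) (x : X) :
    ∃ (V : X.Opens) (t : Γ(G, V)), x ∈ V ∧ p.app V t = QC.res H (le_top : V ≤ ⊤) s := by
  let q := (SheafOfModules.toSheaf.{u} X.ringCatSheaf).map p
  haveI : Epi q := inferInstance
  have hl : Sheaf.IsLocallySurjective q :=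
    (Sheaf.isLocallySurjective_iff_epi' AddCommGrpCat.{u} q).mpr inferInstance
  obtain ⟨V, i, ⟨t, ht⟩, hx⟩ :=
    Presheaf.imageSieve_mem (Opens.grothendieckTopology X) q.hom (U := op ⊤) s x trivial
  exact ⟨V, t, hx, ht⟩

/-- maps out of the structure module are determined at `1` -/
lemma hom_ext_one {F : X.Modules} {φ ψ : Coh.structureModule X ⟶ F}
    (h : φ.app ⊤ (1 : Γ(X, ⊤)) = ψ.app ⊤ (1 : Γ(X, ⊤))) : φ = ψ := by
  refine Scheme.Modules.hom_ext _ _ fun W => ?_
  ext r
  have key : ∀ χ : Coh.structureModule X ⟶ F,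
      χ.app W (show Γ(Coh.structureModule X, W) from (1 : Γ(X, W))) =
        QC.res F (le_top : W ≤ ⊤) (χ.app ⊤ (1 : Γ(X, ⊤))) := fun χ => by
    exact ((QC.app_res χ (le_top : W ≤ ⊤) (1 : Γ(X, ⊤))).trans
      (congrArg (χ.app W) (map_one (X.presheaf.map (homOfLE (le_top : W ≤ ⊤)).op).hom))).symm
  have key' : ∀ χ : Coh.structureModule X ⟶ F,
      χ.app W r = (show Γ(X, W) from r) • χ.app W (show Γ(Coh.structureModule X, W) from (1 : Γ(X, W))) :=
    fun χ => by
      rw [← Scheme.Modules.Hom.app_smul]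
      exact congrArg (χ.app W) (mul_one (show Γ(X, W) from r)).symm
  rw [key' φ, key' ψ, key φ, key ψ, h]

/-- **Local projectivity of finite free modules.** -/
lemma exists_lift_free {n : ℕ} {G H : X.Modules} (p : G ⟶ H) [Epi p] (φ : FlatMod.freeMod X n ⟶ H) (x : X) :
    ∃ (V : X.Opens) (_ : x ∈ V) (ψ : (Scheme.Modules.restrictFunctor V.ι).obj (FlatMod.freeMod X n) ⟶
        (Scheme.Modules.restrictFunctor V.ι).obj G),
      ψ ≫ (Scheme.Modules.restrictFunctor V.ι).map p = (Scheme.Modules.restrictFunctor V.ι).map φ := by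
  let ι := fun i : Fin n => Sigma.ι (fun _ : Fin n => Coh.structureModule X) i
  choose W t hx ht using fun i : Fin n => exists_local_section p ((ι i ≫ φ).app ⊤ (1 : Γ(X, ⊤))) x
  let V : X.Opens := ⟨⋂ i, (W i : Set X), isOpen_iInter_of_finite fun i => (W i).2⟩
  have hV : x ∈ V := Set.mem_iInter.2 hx
  have hle : ∀ i, V.ι ''ᵁ ⊤ ≤ W i := fun i =>
    (V.ι_image_le ⊤).trans fun y hy => Set.mem_iInter.1 hy i
  let R := Scheme.Modules.restrictFunctor V.ι
  let a : Coh.structureModule (V : Scheme.{u}) ≅ R.obj (Coh.structureModule X) :=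
    (Scheme.Modules.restrictUnitIso V.ι).symm
  let τ : Fin n → (R.obj (Coh.structureModule X) ⟶ R.obj G) := fun i =>
    a.inv ≫ CohQC.secHom (F := R.obj G) (QC.res G (hle i) (t i))
  haveI : PreservesColimit (Discrete.functor fun _ : Fin n => Coh.structureModule X) R := inferInstance
  let e := PreservesCoproduct.iso R (fun _ : Fin n => Coh.structureModule X)
  refine ⟨V, hV, e.hom ≫ Sigma.desc τ, ?_⟩
  rw [← cancel_epi e.inv, Category.assoc, Iso.inv_hom_id_assoc]
  refine Sigma.hom_ext _ _ fun i => ?_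
  rw [Sigma.ι_desc_assoc, PreservesCoproduct.inv_hom, ι_comp_sigmaComparison_assoc, ← Functor.map_comp]
  rw [← cancel_epi a.hom]
  refine hom_ext_one ?_
  have h1 : (a.hom : Coh.structureModule (V : Scheme.{u}) ⟶ _).app ⊤ (1 : Γ((V : Scheme.{u}), ⊤)) =
      (1 : Γ(X, V.ι ''ᵁ ⊤)) := map_one (V.ι.appIso ⊤).inv.hom
  have h2 : (CohQC.secHom (F := R.obj G) (QC.res G (hle i) (t i))).app ⊤
      (show Γ(Coh.structureModule (V : Scheme.{u}), ⊤) from (1 : Γ((V : Scheme.{u}), ⊤))) =
      QC.res G (hle i) (t i) := by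
    rw [CohQC.secHom_app_one]
    exact QC.res_self (R.obj G) _ _
  have h3 : p.app (V.ι ''ᵁ ⊤) (QC.res G (hle i) (t i)) =
      (ι i ≫ φ).app (V.ι ''ᵁ ⊤) (1 : Γ(X, V.ι ''ᵁ ⊤)) := by
    refine (QC.app_res p (hle i) (t i)).symm.trans ?_
    rw [ht i, QC.res_res]
    exact (QC.app_res (ι i ≫ φ) (le_top : V.ι ''ᵁ ⊤ ≤ ⊤) (1 : Γ(X, ⊤))).trans
      (congrArg ((ι i ≫ φ).app _) (map_one (X.presheaf.map (homOfLE (le_top : V.ι ''ᵁ ⊤ ≤ ⊤)).op).hom))
  have h4 : a.hom ≫ τ i ≫ R.map p = CohQC.secHom (F := R.obj G) (QC.res G (hle i) (t i)) ≫ R.map p := by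
    simp [τ]
  rw [h4]
  refine (congrArg (fun w => (R.map p).app ⊤ w) h2).trans (h3.trans ?_)
  exact (congrArg (fun w => (R.map (ι i ≫ φ)).app ⊤ w) h1).symm

/-- an open immersion through an open subscheme -/
lemma exists_opens (j : U ⟶ X) [IsOpenImmersion j] :
    ∃ k : (j.opensRange : Scheme.{u}) ⟶ U, IsIso k ∧ k ≫ j = j.opensRange.ι :=
  ⟨j.isoOpensRange.inv, inferInstance, Scheme.Hom.isoOpensRange_inv_comp j⟩

/-- **Local projectivity of finite locally free modules.** -/
lemma exists_lift_finLocFree {M G H : X.Modules} (hM : FlatMod.IsFinLocFree M) (p : G ⟶ H) [Epi p]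
    (φ : M ⟶ H) (x : X) :
    ∃ (U : Scheme.{u}) (j : U ⟶ X) (_ : IsOpenImmersion j) (u : U), j.base u = x ∧
      ∃ ψ : (Scheme.Modules.restrictFunctor j).obj M ⟶ (Scheme.Modules.restrictFunctor j).obj G,
        ψ ≫ (Scheme.Modules.restrictFunctor j).map p = (Scheme.Modules.restrictFunctor j).map φ := by
  obtain ⟨V₀, n, hx, ⟨e⟩⟩ := hM x
  let R₀ := Scheme.Modules.restrictFunctor V₀.ι
  haveI : Epi (R₀.map p) := inferInstance
  obtain ⟨V, hV, ψ, hψ⟩ := exists_lift_free (R₀.map p) (e.inv ≫ R₀.map φ) (⟨x, hx⟩ : ↑(V₀ : Scheme.{u}))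
  let c := Scheme.Modules.restrictFunctorComp V.ι V₀.ι
  let R := Scheme.Modules.restrictFunctor V.ι
  refine ⟨_, V.ι ≫ V₀.ι, inferInstance, ⟨⟨x, hx⟩, hV⟩, rfl,
    c.hom.app M ≫ R.map e.hom ≫ ψ ≫ c.inv.app G, ?_⟩
  simp only [Category.assoc]
  erw [← c.inv.naturality p, reassoc_of% hψ]
  erw [← Functor.map_comp_assoc, Iso.hom_inv_id_assoc, c.inv.naturality φ, Iso.hom_inv_id_app_assoc]

section Homotopy

lemma quotient_map_comp_eq_zero {C C' D D' : CochainComplex X.Modules ℤ} (e : C' ⟶ C) (g : C ⟶ D) (e' : D ⟶ D')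
    (h : (HomotopyCategory.quotient X.Modules (ComplexShape.up ℤ)).map g = 0) :
    (HomotopyCategory.quotient X.Modules (ComplexShape.up ℤ)).map (e ≫ g ≫ e') = 0 := by
  rw [Functor.map_comp, Functor.map_comp, h, zero_comp, comp_zero]

/-- one descending step -/
lemma exists_kill_step (k : ℤ) {E F : CochainComplex X.Modules ℤ} (α : E ⟶ F)
    (hE : FlatMod.IsFinLocFree (E.X k)) (hF : IsZero (F.homology k))
    (hα : ∀ i, k < i → α.f i = 0) (x : X) :
    ∃ (U : Scheme.{u}) (j : U ⟶ X) (_ : IsOpenImmersion j) (u : U), j.base u = x ∧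
      ∃ α' : (rC j).obj E ⟶ (rC j).obj F, Nonempty (Homotopy ((rC j).map α) α') ∧ ∀ i, k ≤ i → α'.f i = 0 := by
  have hd : α.f k ≫ F.d k (k + 1) = 0 := by rw [α.comm, hα (k + 1) (by lia), comp_zero]
  let φ := F.liftCycles (α.f k) (k + 1) (by simp) hd
  haveI : Epi (F.toCycles (k - 1) k) := by
    have hex : F.ExactAt k := (exactAt_iff_isZero_homology _ _).2 hF
    rw [exactAt_iff' _ (k - 1) k (k + 1) (by simp) (by simp)] at hex
    have h := (F.sc' (k - 1) k (k + 1)).exact_iff_epi_kernel_lift.1 hex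
    let hk := F.cyclesIsKernel k (k + 1) (by simp)
    let i := IsLimit.conePointUniqueUpToIso hk (kernelIsKernel (F.d k (k + 1)))
    have he : F.toCycles (k - 1) k = kernel.lift _ (F.d (k - 1) k) (F.d_comp_d _ _ _) ≫ i.inv := by
      rw [← cancel_mono (F.iCycles k), F.toCycles_i, Category.assoc]
      erw [IsLimit.conePointUniqueUpToIso_inv_comp hk (kernelIsKernel (F.d k (k + 1))) WalkingParallelPair.zero]
      exact (kernel.lift_ι _ _ _).symm
    rw [he]
    exact @epi_comp _ _ _ _ _ _ h _ inferInstance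
  obtain ⟨U, j, hj, u, hu, ψ, hψ⟩ := exists_lift_finLocFree hE (F.toCycles (k - 1) k) φ x
  haveI := hj
  let R := Scheme.Modules.restrictFunctor j
  have hψ' : ψ ≫ (Scheme.Modules.restrictFunctor j).map (F.d (k - 1) k) =
      (Scheme.Modules.restrictFunctor j).map (α.f k) := by
    have e1 : φ ≫ F.iCycles k = α.f k := liftCycles_i _ _ _ _ _
    conv_lhs => rw [← F.toCycles_i (k - 1) k, Functor.map_comp, ← Category.assoc, hψ, ← Functor.map_comp, e1]
  let h : ∀ p q : ℤ, (ComplexShape.up ℤ).Rel q p → (((rC j).obj E).X p ⟶ ((rC j).obj F).X q) :=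
    fun p q hpq => if hp : p = k then
      eqToHom (by subst hp; rfl) ≫ ψ ≫ eqToHom (by
        obtain rfl : q = k - 1 := by simp at hpq; lia
        rfl)
    else 0
  refine ⟨U, j, hj, u, hu, (rC j).map α - Homotopy.nullHomotopicMap' h, ⟨?_⟩, fun i hi => ?_⟩
  · exact Homotopy.equivSubZero.symm ((Homotopy.ofEq (sub_sub_cancel _ _)).trans (Homotopy.nullHomotopy' h))
  · rw [sub_f_apply, Homotopy.nullHomotopicMap'_f (show (ComplexShape.up ℤ).Rel (i - 1) i by simp)
      (show (ComplexShape.up ℤ).Rel i (i + 1) by simp)]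
    rcases hi.eq_or_lt with rfl | hi
    · simp [h, sub_eq_zero, ← hψ']
    · simp [h, hα i hi, show ¬ i = k by lia, show ¬ i + 1 = k by lia]

/-- **Maps from strictly perfect complexes to complexes acyclic there are locally null-homotopic.** -/
theorem exists_nullhomotopic (a : ℤ) : ∀ (n : ℕ) {X : Scheme.{u}} {E F : CochainComplex X.Modules ℤ} (α : E ⟶ F),
    (∀ i, FlatMod.IsFinLocFree (E.X i)) → (∀ i, i < a → IsZero (E.X i)) →
    (∀ i, a ≤ i → IsZero (F.homology i)) → (∀ i, a + n ≤ i → α.f i = 0) → ∀ x : X,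
    ∃ (U : Scheme.{u}) (j : U ⟶ X) (_ : IsOpenImmersion j) (u : U), j.base u = x ∧
      (HomotopyCategory.quotient U.Modules (ComplexShape.up ℤ)).map ((rC j).map α) = 0 := by
  intro n
  induction n with
  | zero =>
    intro X E F α _ hEa _ hα x
    have h0 : α = 0 := by
      ext i : 1
      rcases lt_or_ge i a with hi | hi
      · exact (hEa i hi).eq_of_src _ _
      · exact hα i (by simpa using hi)
    exact ⟨X, 𝟙 X, inferInstance, x, rfl, by rw [h0, Functor.map_zero, Functor.map_zero]⟩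
  | succ n ih =>
    intro X E F α hEf hEa hF hα x
    obtain ⟨U, j, hj, u, hu, α', ⟨H⟩, hα'⟩ := exists_kill_step (a + n) α (hEf _) (hF _ (by lia))
      (fun i hi => hα i (by push_cast; lia)) x
    haveI := hj
    obtain ⟨W, k, hk, w, hw, hnull⟩ := ih α' (fun i => isFinLocFree_restrict j (hEf i))
      (fun i hi => (Scheme.Modules.restrictFunctor j).map_isZero (hEa i hi))
      (fun i hi => ((Scheme.Modules.restrictFunctor j).map_isZero (hF i hi)).of_iso
        ((F.sc i).mapHomologyIso (Scheme.Modules.restrictFunctor j))) hα' u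
    haveI := hk
    refine ⟨W, k ≫ j, inferInstance, w, by rw [Scheme.Hom.comp_base]; exact (congrArg j.base hw).trans hu, ?_⟩
    have h1 : (HomotopyCategory.quotient W.Modules (ComplexShape.up ℤ)).map ((rC k).map ((rC j).map α)) = 0 := by
      rw [← hnull]
      exact HomotopyCategory.eq_of_homotopy _ _ ((Scheme.Modules.restrictFunctor k).mapHomotopy H)
    have h2 : (rC (k ≫ j)).map α =
        (rCComp k j).hom.app E ≫ (rC k).map ((rC j).map α) ≫ (rCComp k j).inv.app F :=
      (NatIso.naturality_1 (rCComp k j).symm α).symm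
    rw [h2]
    exact quotient_map_comp_eq_zero _ _ _ h1

/-- transfer to open subschemes -/
lemma null_opens {E F : CochainComplex X.Modules ℤ} (α : E ⟶ F) (j : U ⟶ X) [IsOpenImmersion j]
    (h : (HomotopyCategory.quotient U.Modules (ComplexShape.up ℤ)).map ((rC j).map α) = 0) :
    Nonempty (Homotopy ((DCoh.restrictCx j.opensRange).map α) 0) := by
  obtain ⟨k, hk, hkj⟩ := exists_opens j
  let e : rC (k ≫ j) ≅ rC j.opensRange.ι := NatIso.mapHomologicalComplex
    (Scheme.Modules.restrictFunctorCongr hkj) (ComplexShape.up ℤ)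
  refine ⟨HomotopyCategory.homotopyOfEq _ _ ?_⟩
  rw [Functor.map_zero]
  have h1 : (rC j.opensRange.ι).map α =
      (e.inv.app E ≫ (rCComp k j).hom.app E) ≫ (rC k).map ((rC j).map α) ≫
        ((rCComp k j).inv.app F ≫ e.hom.app F) := by
    rw [← NatIso.naturality_1 e α, ← NatIso.naturality_1 (rCComp k j).symm α]
    simp
  refine Eq.trans ?_ ((congrArg _ h1).trans (quotient_map_comp_eq_zero _ _ _ ?_))
  · rfl
  · rw [← Functor.map_zero ((Scheme.Modules.restrictFunctor k).mapHomologicalComplex (ComplexShape.up ℤ) ⋙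
      HomotopyCategory.quotient _ _)]
    exact HomotopyCategory.eq_of_homotopy _ _ ((Scheme.Modules.restrictFunctor k).mapHomotopy
      (HomotopyCategory.homotopyOfEq _ _ (h.trans (Functor.map_zero _ _ _).symm)))

theorem locally_nullhomotopic {E F : CochainComplex X.Modules ℤ} (α : E ⟶ F) (hE : DCoh.IsStrictlyPerfect E)
    (a : ℤ) (hEa : ∀ i : ℤ, i < a → IsZero (E.X i)) (hF : ∀ i : ℤ, a ≤ i → IsZero (F.homology i)) (x : X) :
    ∃ V : X.Opens, x ∈ V ∧ Nonempty (Homotopy ((DCoh.restrictCx V).map α) 0) := by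
  obtain ⟨⟨a', b, hab⟩, hl⟩ := hE
  obtain ⟨U, j, hj, u, hu, h⟩ := exists_nullhomotopic a (b + 1 - a).toNat α hl hEa hF
    (fun i hi => (hab i (Or.inr (by lia))).eq_of_src _ _) x
  haveI := hj
  exact ⟨j.opensRange, ⟨u, hu⟩, null_opens α j h⟩

open CochainComplex in
/-- **Lifting through maps bijective in high degrees, locally.** -/
theorem locally_lift {E F G : CochainComplex X.Modules ℤ} (α : E ⟶ F) (f : G ⟶ F) (hE : DCoh.IsStrictlyPerfect E)
    (a : ℤ) (hEa : ∀ j : ℤ, j < a → IsZero (E.X j))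
    (hf : ∀ j : ℤ, a < j → IsIso (HomologicalComplex.homologyMap f j))
    (hfa : Epi (HomologicalComplex.homologyMap f a)) (x : X) :
    ∃ (V : X.Opens) (β : (DCoh.restrictCx V).obj E ⟶ (DCoh.restrictCx V).obj G),
      x ∈ V ∧ Nonempty (Homotopy (β ≫ (DCoh.restrictCx V).map f) ((DCoh.restrictCx V).map α)) := by
  obtain ⟨V, hV, ⟨H⟩⟩ := locally_nullhomotopic (α ≫ mappingCone.inr f) hE a hEa
    ((DerPerf.cone_isZero_iff f a).2 ⟨hf, hfa⟩) x
  let R := DCoh.restrictCx V
  let f' := R.map f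
  let c := CochainComplex.mappingCone.mapHomologicalComplexIso f (Scheme.Modules.restrictFunctor V.ι)
  let q := HomotopyCategory.quotient (V : Scheme.{u}).Modules (ComplexShape.up ℤ)
  have hc : R.map (mappingCone.inr f) ≫ c.hom = mappingCone.inr f' := by
    exact CochainComplex.mappingCone.map_inr f (Scheme.Modules.restrictFunctor V.ι)
  have h0 : q.map (R.map α) ≫ (mappingCone.triangleh f').mor₂ = 0 := by
    change q.map (R.map α) ≫ q.map (mappingCone.inr f') = 0
    rw [← Functor.map_comp, ← hc, ← Category.assoc, Functor.map_comp, ← Functor.map_comp R,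
      HomotopyCategory.eq_of_homotopy _ _ H, Functor.map_zero, zero_comp]
  obtain ⟨β₀, hβ₀⟩ := Pretriangulated.Triangle.coyoneda_exact₂ _
    (HomotopyCategory.mappingCone_triangleh_distinguished f') (q.map (R.map α)) h0
  obtain ⟨β, rfl⟩ := q.map_surjective β₀
  exact ⟨V, β, hV, ⟨HomotopyCategory.homotopyOfEq _ _ ((Functor.map_comp _ _ _).trans hβ₀.symm)⟩⟩

end Homotopy

end Groth.Agent.DQCoh
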