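import Groth.Agent.DQCoh.DerCalc
import Groth.Agent.DQCoh.LocLift
import Groth.Agent.DerPerf.Tensor

/-!
# Calculus of pseudo-coherent and perfect objects of `D(O_X)`
-/

set_option backward.isDefEq.respectTransparency false
set_option backward.isDefEq.respectTransparency.types false
set_option linter.style.haveILetI false
set_option autoImplicit false

universe u

open CategoryTheory Limits AlgebraicGeometry HomologicalComplex Pretriangulated ZeroObject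

attribute [local instance] HasDerivedCategory.standard

namespace Groth.Agent.DQCoh

variable {X U W : Scheme.{u}}

/-- restriction along an open immersion, on derived categories -/
noncomputable abbrev RD (j : U ⟶ X) [IsOpenImmersion j] : DCoh.D X ⥤ DCoh.D U :=
  (Scheme.Modules.restrictFunctor j).mapDerivedCategory

/-- restriction at a complex -/
noncomputable def rdIso (j : U ⟶ X) [IsOpenImmersion j] (F : CochainComplex X.Modules ℤ) :
    (RD j).obj (DCoh.toD X F) ≅ DCoh.toD U ((rC j).obj F) :=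
  (Scheme.Modules.restrictFunctor j).mapDerivedCategoryFactors.app F

/-- restriction along a composite -/
noncomputable def rdComp (k : W ⟶ U) (j : U ⟶ X) [IsOpenImmersion k] [IsOpenImmersion j] :
    RD (k ≫ j) ≅ RD j ⋙ RD k :=
  Localization.liftNatIso DerivedCategory.Q (HomologicalComplex.quasiIso X.Modules (ComplexShape.up ℤ))
    (DerivedCategory.Q ⋙ RD (k ≫ j)) (DerivedCategory.Q ⋙ RD j ⋙ RD k) _ _
    ((Scheme.Modules.restrictFunctor (k ≫ j)).mapDerivedCategoryFactors ≪≫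
      Functor.isoWhiskerRight (rCComp k j) _ ≪≫ Functor.associator _ _ _ ≪≫
      Functor.isoWhiskerLeft _ (Scheme.Modules.restrictFunctor k).mapDerivedCategoryFactors.symm ≪≫
      (Functor.associator _ _ _).symm ≪≫
      Functor.isoWhiskerRight (Scheme.Modules.restrictFunctor j).mapDerivedCategoryFactors.symm _ ≪≫
      Functor.associator _ _ _)

/-- restriction along equal maps -/
noncomputable def rdCongr {j j' : U ⟶ X} (h : j = j') [IsOpenImmersion j] [IsOpenImmersion j'] :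
    RD j ≅ RD j' := by
  subst h; exact Iso.refl _

/-- pseudo-coherence data along `j` -/
def PCOn (j : U ⟶ X) [IsOpenImmersion j] (m : ℤ) (K : DCoh.D X) : Prop :=
  ∃ (E : CochainComplex U.Modules ℤ) (α : DerivedCategory.Q.obj E ⟶ (RD j).obj K),
    DCoh.IsStrictlyPerfect E ∧ MIsoD m α

/-- perfection data along `j` -/
def PerfOn (j : U ⟶ X) [IsOpenImmersion j] (K : DCoh.D X) : Prop :=
  ∃ E : CochainComplex U.Modules ℤ, DCoh.IsStrictlyPerfect E ∧
    Nonempty ((RD j).obj K ≅ DerivedCategory.Q.obj E)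

/-- a property of open immersions holds near `x` -/
def Near (P : ∀ {U : Scheme.{u}} (j : U ⟶ X) [IsOpenImmersion j], Prop) (x : X) : Prop :=
  ∃ (U : Scheme.{u}) (j : U ⟶ X) (_ : IsOpenImmersion j) (u : U), j.base u = x ∧ P j

lemma mIsoD_comp_right {m : ℤ} {A B C : DCoh.D X} {α : A ⟶ B} (e : B ≅ C) (h : MIsoD m α) :
    MIsoD m (α ≫ e.hom) :=
  mIsoD_comp h (mIsoD_of_isIso m e.hom)

lemma pcOn_iso {j : U ⟶ X} [IsOpenImmersion j] {m : ℤ} {K L : DCoh.D X} (e : K ≅ L) (h : PCOn j m K) :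
    PCOn j m L := by
  obtain ⟨E, α, hE, hα⟩ := h
  exact ⟨E, α ≫ ((RD j).mapIso e).hom, hE, mIsoD_comp_right _ hα⟩

lemma perfOn_iso {j : U ⟶ X} [IsOpenImmersion j] {K L : DCoh.D X} (e : K ≅ L) (h : PerfOn j K) :
    PerfOn j L := by
  obtain ⟨E, hE, ⟨i⟩⟩ := h
  exact ⟨E, hE, ⟨(RD j).mapIso e.symm ≪≫ i⟩⟩

lemma pcOn_mono {j : U ⟶ X} [IsOpenImmersion j] {m n : ℤ} (h : m ≤ n) {K : DCoh.D X} (hK : PCOn j m K) :
    PCOn j n K := by
  obtain ⟨E, α, hE, hα⟩ := hK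
  exact ⟨E, α, hE, mIsoD_mono h hα⟩

lemma pcOn_comp (k : W ⟶ U) (j : U ⟶ X) [IsOpenImmersion k] [IsOpenImmersion j] {m : ℤ} {K : DCoh.D X}
    (h : PCOn j m K) : PCOn (k ≫ j) m K := by
  obtain ⟨E, α, hE, hα⟩ := h
  exact ⟨(rC k).obj E, (rdIso k E).inv ≫ (RD k).map α ≫ ((rdComp k j).app K).inv,
    isStrictlyPerfect_restrict k hE,
    mIsoD_comp_iso (rdIso k E).symm ((rdComp k j).app K).symm (mIsoD_map _ hα)⟩

lemma perfOn_comp (k : W ⟶ U) (j : U ⟶ X) [IsOpenImmersion k] [IsOpenImmersion j] {K : DCoh.D X}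
    (h : PerfOn j K) : PerfOn (k ≫ j) K := by
  obtain ⟨E, hE, ⟨i⟩⟩ := h
  exact ⟨(rC k).obj E, isStrictlyPerfect_restrict k hE,
    ⟨(rdComp k j).app K ≪≫ (RD k).mapIso i ≪≫ rdIso k E⟩⟩

lemma pcOn_push (k : W ⟶ U) (j : U ⟶ X) [IsOpenImmersion k] [IsOpenImmersion j] {m : ℤ} {K : DCoh.D X}
    (h : PCOn k m ((RD j).obj K)) : PCOn (k ≫ j) m K := by
  obtain ⟨E, α, hE, hα⟩ := h
  exact ⟨E, α ≫ ((rdComp k j).app K).symm.hom, hE, mIsoD_comp_right _ hα⟩

lemma perfOn_push (k : W ⟶ U) (j : U ⟶ X) [IsOpenImmersion k] [IsOpenImmersion j] {K : DCoh.D X}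
    (h : PerfOn k ((RD j).obj K)) : PerfOn (k ≫ j) K := by
  obtain ⟨E, hE, ⟨i⟩⟩ := h
  exact ⟨E, hE, ⟨(rdComp k j).app K ≪≫ i⟩⟩

lemma pcOn_congr {j j' : U ⟶ X} (h : j = j') [IsOpenImmersion j] [IsOpenImmersion j'] {m : ℤ} {K : DCoh.D X}
    (hK : PCOn j m K) : PCOn j' m K := by
  subst h; exact hK

lemma perfOn_congr {j j' : U ⟶ X} (h : j = j') [IsOpenImmersion j] [IsOpenImmersion j'] {K : DCoh.D X}
    (hK : PerfOn j K) : PerfOn j' K := by
  subst h; exact hK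

/-! ### comparison with the definitions -/

lemma pc_iff_near (m : ℤ) (K : DCoh.D X) :
    DCoh.IsPseudoCoherentD m K ↔ ∀ x, Near (fun j => PCOn j m K) x := by
  let F := (DerivedCategory.Q : _ ⥤ DCoh.D X).objPreimage K
  let eF : DCoh.toD X F ≅ K := DerivedCategory.Q.objObjPreimageIso K
  rw [DerPerf.isPseudoCoherent_iff_rep eF]
  constructor
  · intro h x
    obtain ⟨V, hV, E, α, hE, hα⟩ := h x
    exact ⟨_, V.ι, inferInstance, ⟨x, hV⟩, rfl, pcOn_iso eF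
      ⟨E, α ≫ (rdIso V.ι F).symm.hom, hE, mIsoD_comp_right (rdIso V.ι F).symm hα⟩⟩
  · intro h x
    obtain ⟨U, j, hj, u, hu, hP⟩ := h x
    haveI := hj
    obtain ⟨k, hk, hkj⟩ := exists_opens j
    obtain ⟨E, α, hE, hα⟩ := pcOn_iso eF.symm (pcOn_congr hkj (pcOn_comp k j hP))
    exact ⟨j.opensRange, ⟨u, hu⟩, E, α ≫ (rdIso j.opensRange.ι F).hom, hE, mIsoD_comp_right _ hα⟩

lemma perfect_iff_near (K : DCoh.D X) :
    DCoh.IsPerfect K ↔ ∀ x, Near (fun j => PerfOn j K) x := by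
  let F := (DerivedCategory.Q : _ ⥤ DCoh.D X).objPreimage K
  let eF : DCoh.toD X F ≅ K := DerivedCategory.Q.objObjPreimageIso K
  rw [DerPerf.isPerfect_iff_rep eF]
  constructor
  · intro h x
    obtain ⟨V, hV, E, hE, ⟨i⟩⟩ := h x
    exact ⟨_, V.ι, inferInstance, ⟨x, hV⟩, rfl, perfOn_iso eF ⟨E, hE, ⟨rdIso V.ι F ≪≫ i⟩⟩⟩
  · intro h x
    obtain ⟨U, j, hj, u, hu, hP⟩ := h x
    haveI := hj
    obtain ⟨k, hk, hkj⟩ := exists_opens j
    obtain ⟨E, hE, ⟨i⟩⟩ := perfOn_iso eF.symm (perfOn_congr hkj (perfOn_comp k j hP))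
    exact ⟨j.opensRange, ⟨u, hu⟩, E, hE, ⟨(rdIso j.opensRange.ι F).symm ≪≫ i⟩⟩

/-- two neighbourhoods have a common refinement -/
lemma exists_common {U' : Scheme.{u}} (j : U ⟶ X) (j' : U' ⟶ X) [IsOpenImmersion j] [IsOpenImmersion j']
    (u : U) (u' : U') (h : j.base u = j'.base u') :
    ∃ (W : Scheme.{u}) (k : W ⟶ U) (k' : W ⟶ U') (_ : IsOpenImmersion k) (_ : IsOpenImmersion k') (w : W),
      k.base w = u ∧ k'.base w = u' ∧ k ≫ j = k' ≫ j' := by
  obtain ⟨w, hw, hw'⟩ := Scheme.Pullback.exists_preimage_pullback (f := j) (g := j') u u' h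
  exact ⟨_, pullback.fst j j', pullback.snd j j', inferInstance, inferInstance, w, hw, hw', pullback.condition⟩

/-! ### morphisms out of strictly perfect complexes -/

/-- morphisms from strictly perfect complexes to objects without cohomology there vanish locally -/
lemma exists_map_eq_zero {E : CochainComplex X.Modules ℤ} (hE : DCoh.IsStrictlyPerfect E) (c : ℤ)
    (hEc : ∀ i, i < c → IsZero (E.X i)) {Y : DCoh.D X} (hY : IsAboveD c Y)
    (φ : DerivedCategory.Q.obj E ⟶ Y) (x : X) : Near (fun j => (RD j).map φ = 0) x := by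
  let eY := (DerivedCategory.Q : _ ⥤ DCoh.D X).objObjPreimageIso Y
  obtain ⟨F', g, s, hs, hφ⟩ := DerivedCategory.left_fac (φ ≫ eY.inv)
  have hF : ∀ i, c ≤ i → IsZero (F'.homology i) := fun i hi =>
    ((hY i hi).of_iso ((DerivedCategory.homologyFunctor X.Modules i).mapIso
      ((@asIso _ _ _ _ (DerivedCategory.Q.map s) hs).symm ≪≫ eY))).of_iso
      ((DerivedCategory.homologyFunctorFactors X.Modules i).app F').symm
  obtain ⟨V, hV, ⟨H⟩⟩ := locally_nullhomotopic g hE c hEc hF x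
  refine ⟨_, V.ι, inferInstance, ⟨x, hV⟩, rfl, ?_⟩
  have h0 : (RD V.ι).map (DerivedCategory.Q.map g) = 0 := by
    rw [← cancel_mono (rdIso V.ι F').hom, zero_comp]
    refine (Functor.mapDerivedCategoryFactors_hom_naturality _ g).trans ?_
    rw [DerivedCategory.Q_map_eq_of_homotopy (C := (V : Scheme.{u}).Modules) H, Functor.map_zero, comp_zero]
  have h1 : φ = (DerivedCategory.Q.map g ≫ inv (DerivedCategory.Q.map s)) ≫ eY.hom := by
    rw [← hφ, Category.assoc, eY.inv_hom_id, Category.comp_id]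
  change (RD V.ι).map φ = 0
  rw [h1, Functor.map_comp, Functor.map_comp, h0, zero_comp, zero_comp]

/-- morphisms between strictly perfect complexes are locally chain maps -/
lemma exists_map_eq_Q {E F : CochainComplex X.Modules ℤ} (hE : DCoh.IsStrictlyPerfect E)
    (φ : DerivedCategory.Q.obj E ⟶ DerivedCategory.Q.obj F) (x : X) :
    Near (fun j => ∃ g : (rC j).obj E ⟶ (rC j).obj F,
      (RD j).map φ = (rdIso j E).hom ≫ DerivedCategory.Q.map g ≫ (rdIso j F).inv) x := by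
  obtain ⟨F', g, s, hs, rfl⟩ := DerivedCategory.left_fac φ
  obtain ⟨⟨a, b, hab⟩, hl⟩ := hE
  haveI hq : QuasiIso s := (DerivedCategory.isIso_Q_map_iff_quasiIso _ s).1 hs
  obtain ⟨V, β, hV, ⟨H⟩⟩ := locally_lift g s ⟨⟨a, b, hab⟩, hl⟩ a (fun i hi => hab i (Or.inl hi))
    (fun i _ => inferInstance) inferInstance x
  refine ⟨_, V.ι, inferInstance, ⟨x, hV⟩, rfl, β, ?_⟩
  rw [Functor.map_comp, Functor.map_inv, IsIso.comp_inv_eq, Category.assoc, Category.assoc,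
    ← cancel_mono (rdIso V.ι F').hom]
  refine (Functor.mapDerivedCategoryFactors_hom_naturality _ g).trans ?_
  simp only [Category.assoc]
  erw [Functor.mapDerivedCategoryFactors_hom_naturality]
  erw [Iso.inv_hom_id_app_assoc, ← Functor.map_comp, DerivedCategory.Q_map_eq_of_homotopy (C := (V : Scheme.{u}).Modules) H]
  rfl

/-! ### strictly perfect complexes -/

lemma isFinLocFree_biprod {M N : X.Modules} (hM : FlatMod.IsFinLocFree M) (hN : FlatMod.IsFinLocFree N) :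
    FlatMod.IsFinLocFree (M ⊞ N) := by
  let F : Fin 2 → X.Modules := ![M, N]
  have h := DerPerf.isFinLocFree_of_isColimit (Finset.univ : Finset (Fin 2)) (coproductIsCoproduct F)
    (fun i hi => absurd (Finset.mem_univ i) hi) (fun i _ => by fin_cases i <;> assumption)
  refine isFinLocFree_of_iso' (X := X) (M := ∐ F) (N := M ⊞ N) ?_ h
  exact
    { hom := Sigma.desc (fun i => match i with
        | 0 => biprod.inl
        | 1 => biprod.inr)
      inv := biprod.desc (Sigma.ι F 0) (Sigma.ι F 1)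
      hom_inv_id := Sigma.hom_ext _ _ fun i => by fin_cases i <;> simp <;> rfl
      inv_hom_id := by apply biprod.hom_ext' <;> simp <;> rfl }

lemma isStrictlyPerfect_mappingCone {E F : CochainComplex X.Modules ℤ} (φ : E ⟶ F)
    (hE : DCoh.IsStrictlyPerfect E) (hF : DCoh.IsStrictlyPerfect F) :
    DCoh.IsStrictlyPerfect (CochainComplex.mappingCone φ) := by
  obtain ⟨⟨a, b, hab⟩, hl⟩ := hE
  obtain ⟨⟨a', b', hab'⟩, hl'⟩ := hF
  refine ⟨⟨min (a - 1) a', max b b', fun i hi => ?_⟩, fun i =>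
    isFinLocFree_of_iso' (HomologicalComplex.homotopyCofiber.XIsoBiprod φ i (i + 1) rfl).symm
      (isFinLocFree_biprod (hl _) (hl' _))⟩
  exact IsZero.of_iso (biprod_isZero_iff _ _ |>.2 ⟨hab (i + 1) (by lia), hab' i (by lia)⟩)
    (HomologicalComplex.homotopyCofiber.XIsoBiprod φ i (i + 1) rfl)

lemma isFinLocFree_of_isZero {M : X.Modules} (h : IsZero M) : FlatMod.IsFinLocFree M :=
  LocFree.isFinLocFree_of_retract M 0 0 0 (h.eq_of_src _ _)

lemma isStrictlyPerfect_σGE {E : CochainComplex X.Modules ℤ} (hE : DCoh.IsStrictlyPerfect E) (n : ℤ) :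
    DCoh.IsStrictlyPerfect (σGE E n) := by
  obtain ⟨⟨a, b, hab⟩, hl⟩ := hE
  refine ⟨⟨a, b, fun i hi => IsZero.of_mono ((σι E n).f i) (hab i hi)⟩, fun i => ?_⟩
  by_cases h : n ≤ i
  · haveI := isIso_σι_f E n i h
    exact isFinLocFree_of_iso' (asIso ((σι E n).f i)).symm (hl i)
  · exact isFinLocFree_of_isZero (isZero_σGE_X E n i (not_le.1 h))

/-! ### triangles -/

theorem pc_obj₃ (T : Triangle (DCoh.D X)) (hT : T ∈ distTriang (DCoh.D X)) (m : ℤ)
    (h₁ : DCoh.IsPseudoCoherentD (m + 1) T.obj₁) (h₂ : DCoh.IsPseudoCoherentD m T.obj₂) :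
    DCoh.IsPseudoCoherentD m T.obj₃ := by
  rw [pc_iff_near] at h₁ h₂ ⊢
  intro x
  obtain ⟨U, j, hj, u, hu, hP₁⟩ := h₁ x
  obtain ⟨U', j', hj', u', hu', hP₂⟩ := h₂ x
  obtain ⟨W, k, k', hk, hk', w, hw, hw', hkk⟩ := exists_common j j' u u' (hu.trans hu'.symm)
  obtain ⟨E₀, α₀, hE₀, hα₀⟩ := pcOn_comp k j hP₁
  obtain ⟨F, β, hF, hβ⟩ := pcOn_congr hkk.symm (pcOn_comp k' j' hP₂)
  have hwx : (k ≫ j).base w = x := (congrArg j.base hw).trans hu
  let jW := k ≫ j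
  let T' := (RD jW).mapTriangle.obj T
  have hT' : T' ∈ distTriang (DCoh.D W) := (RD jW).map_distinguished T hT
  let E := σGE E₀ (m + 1)
  have hE : DCoh.IsStrictlyPerfect E := isStrictlyPerfect_σGE hE₀ _
  let α : DerivedCategory.Q.obj E ⟶ T'.obj₁ := DerivedCategory.Q.map (σι E₀ (m + 1)) ≫ α₀
  have hα : MIsoD (m + 1) α := mIsoD_comp (mIsoD_σι E₀ (m + 1)) hα₀
  obtain ⟨Cβ, v, v', hTβ⟩ := Pretriangulated.distinguished_cocone_triangle (show _ ⟶ T'.obj₂ from β)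
  obtain ⟨U₁, j₁, hj₁, u₁, hu₁, hz⟩ := exists_map_eq_zero hE (m + 1) (fun i hi => isZero_σGE_X E₀ _ i hi)
    (isAboveD_mono (by lia) ((mIsoD_iff m _ hTβ).1 hβ)) (α ≫ T'.mor₁ ≫ v) w
  have hTβ₁ := (RD j₁).map_distinguished _ hTβ
  obtain ⟨e, he⟩ := Triangle.coyoneda_exact₂ _ hTβ₁ ((RD j₁).map (α ≫ T'.mor₁))
    (((RD j₁).map_comp _ _).symm.trans ((congrArg _ (Category.assoc _ _ _)).trans hz))
  let E₁ := (rC j₁).obj E
  let F₁ := (rC j₁).obj F
  obtain ⟨U₂, j₂, hj₂, u₂, hu₂, g, hg⟩ := exists_map_eq_Q (isStrictlyPerfect_restrict j₁ hE)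
    ((rdIso j₁ E).inv ≫ e ≫ (rdIso j₁ F).hom) u₁
  let T₂ := (RD j₂).mapTriangle.obj ((RD j₁).mapTriangle.obj T')
  have hT₂ : T₂ ∈ distTriang (DCoh.D U₂) :=
    (RD j₂).map_distinguished _ ((RD j₁).map_distinguished T' hT')
  let α₂ : DerivedCategory.Q.obj ((rC j₂).obj E₁) ⟶ T₂.obj₁ :=
    (rdIso j₂ E₁).inv ≫ (RD j₂).map ((rdIso j₁ E).inv ≫ (RD j₁).map α)
  let β₂ : DerivedCategory.Q.obj ((rC j₂).obj F₁) ⟶ T₂.obj₂ :=
    (rdIso j₂ F₁).inv ≫ (RD j₂).map ((rdIso j₁ F).inv ≫ (RD j₁).map β)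
  have hα₂ : MIsoD (m + 1) α₂ := mIsoD_comp (mIsoD_of_isIso _ _)
    (mIsoD_map _ (mIsoD_comp (mIsoD_of_isIso _ _) (mIsoD_map _ hα)))
  have hβ₂ : MIsoD m β₂ := mIsoD_comp (mIsoD_of_isIso _ _)
    (mIsoD_map _ (mIsoD_comp (mIsoD_of_isIso _ _) (mIsoD_map _ hβ)))
  have hcomm : DerivedCategory.Q.map g ≫ β₂ = α₂ ≫ T₂.mor₁ := by
    have hg' : DerivedCategory.Q.map g =
        (rdIso j₂ E₁).inv ≫ (RD j₂).map ((rdIso j₁ E).inv ≫ e ≫ (rdIso j₁ F).hom) ≫ (rdIso j₂ F₁).hom := by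
      rw [hg]; simp [E₁, F₁]
    have he' : (RD j₁).map α ≫ (RD j₁).map T'.mor₁ = e ≫ (RD j₁).map β :=
      ((RD j₁).map_comp _ _).symm.trans he
    change DerivedCategory.Q.map g ≫ β₂ = α₂ ≫ (RD j₂).map ((RD j₁).map T'.mor₁)
    rw [hg']
    simp only [α₂, β₂, Category.assoc, Iso.hom_inv_id_assoc]
    rw [← Functor.map_comp, ← Functor.map_comp]
    congr 2
    simp only [Category.assoc, Iso.hom_inv_id_assoc]
    exact congrArg ((rdIso j₁ E).inv ≫ ·) he'.symm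
  obtain ⟨Cα, a₁, a₂, hTα⟩ := Pretriangulated.distinguished_cocone_triangle α₂
  obtain ⟨Cβ₂, b₁, b₂, hTβ₂⟩ := Pretriangulated.distinguished_cocone_triangle β₂
  have hCα : IsAboveD (m + 1) Cα := (mIsoD_iff (m + 1) _ hTα).1 hα₂
  have hCβ : IsAboveD m Cβ₂ := (mIsoD_iff m _ hTβ₂).1 hβ₂
  have hTg := DerivedCategory.mappingCone_triangle_distinguished g
  obtain ⟨Z, p, r, hTZ⟩ := Pretriangulated.distinguished_cocone_triangle (α₂ ≫ T₂.mor₁)
  have o₁ := Triangulated.someOctahedron hcomm hTg hTβ₂ hTZ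
  have o₂ := Triangulated.someOctahedron rfl hTα hT₂ hTZ
  have hG : MIsoD m o₁.m₁ := (mIsoD_iff m _ o₁.mem).2 hCβ
  have hX : MIsoD m o₂.m₃ := (mIsoD_iff m _ (rot_of_distTriang _ o₂.mem)).2
    (by simpa using isAboveD_shift hCα 1)
  haveI := hj₂
  haveI := hj₁
  refine ⟨U₂, (j₂ ≫ j₁) ≫ jW, inferInstance, u₂,
    (congrArg (fun t => jW.base (j₁.base t)) hu₂).trans ((congrArg jW.base hu₁).trans hwx), ?_⟩
  exact pcOn_push (j₂ ≫ j₁) jW (pcOn_push j₂ j₁ ⟨CochainComplex.mappingCone g, o₁.m₁ ≫ o₂.m₃,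
    isStrictlyPerfect_mappingCone g (isStrictlyPerfect_restrict j₂ (isStrictlyPerfect_restrict j₁ hE))
      (isStrictlyPerfect_restrict j₂ (isStrictlyPerfect_restrict j₁ hF)), mIsoD_comp hG hX⟩)

lemma pc_mono {m n : ℤ} (h : m ≤ n) {K : DCoh.D X} (hK : DCoh.IsPseudoCoherentD m K) :
    DCoh.IsPseudoCoherentD n K := by
  rw [pc_iff_near] at hK ⊢
  intro x
  obtain ⟨U, j, hj, u, hu, hP⟩ := hK x
  exact ⟨U, j, hj, u, hu, pcOn_mono h hP⟩

lemma pc_of_iso {m : ℤ} {K L : DCoh.D X} (e : K ≅ L) (hK : DCoh.IsPseudoCoherentD m K) :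
    DCoh.IsPseudoCoherentD m L := by
  rw [pc_iff_near] at hK ⊢
  intro x
  obtain ⟨U, j, hj, u, hu, hP⟩ := hK x
  exact ⟨U, j, hj, u, hu, pcOn_iso e hP⟩

lemma isStrictlyPerfect_zero : DCoh.IsStrictlyPerfect (0 : CochainComplex X.Modules ℤ) :=
  ⟨⟨0, 0, fun i _ => (HomologicalComplex.eval _ _ i).map_isZero (isZero_zero _)⟩,
    fun i => isFinLocFree_of_isZero ((HomologicalComplex.eval _ _ i).map_isZero (isZero_zero _))⟩

lemma pc_of_isAbove {m : ℤ} {K : DCoh.D X} (h : IsAboveD m K) : DCoh.IsPseudoCoherentD m K := by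
  rw [pc_iff_near]
  intro x
  refine ⟨X, 𝟙 X, inferInstance, x, rfl, 0, 0, isStrictlyPerfect_zero, ?_⟩
  have hz : IsZero ((DerivedCategory.Q : _ ⥤ DCoh.D X).obj 0) :=
    DerivedCategory.Q.map_isZero (isZero_zero _)
  have hR := isAboveD_map (Scheme.Modules.restrictFunctor (𝟙 X)) h
  exact ⟨fun i hi => ⟨0, ((DerivedCategory.homologyFunctor X.Modules i).map_isZero hz).eq_of_src _ _,
    (hR i hi.le).eq_of_src _ _⟩, ⟨fun _ _ _ => (hR m le_rfl).eq_of_src _ _⟩⟩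

lemma pc_shift {m : ℤ} {K : DCoh.D X} (h : DCoh.IsPseudoCoherentD m K) (n : ℤ) :
    DCoh.IsPseudoCoherentD (m - n) (K⟦n⟧) := by
  rw [pc_iff_near] at h ⊢
  intro x
  obtain ⟨U, j, hj, u, hu, hP⟩ := h x
  haveI := hj
  obtain ⟨E, α, hE, hα⟩ := hP
  refine ⟨U, j, hj, u, hu, E⟦n⟧, ((DerivedCategory.Q.commShiftIso n).app E).hom ≫ α⟦n⟧' ≫
    (((RD j).commShiftIso n).app K).inv, ?_, ?_⟩
  · obtain ⟨⟨a, b, hab⟩, hl⟩ := hE
    exact ⟨⟨a - n, b - n, fun i hi => hab (i + n) (by lia)⟩, fun i => hl (i + n)⟩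
  · refine mIsoD_comp_iso ((DerivedCategory.Q.commShiftIso n).app E) (((RD j).commShiftIso n).app K).symm ?_
    let e := fun i => (DerivedCategory.homologyFunctor U.Modules 0).shiftIso n i (n + i) rfl
    refine ⟨fun i hi => ?_, ?_⟩
    · exact (NatIso.isIso_map_iff (e i) α).2 (hα.1 (n + i) (by lia))
    · have h2 := hα.2
      rw [show m = n + (m - n) by lia] at h2
      exact ((MorphismProperty.epimorphisms U.Modules).arrow_mk_iso_iff
        (Arrow.isoMk ((e (m - n)).app _) ((e (m - n)).app _) ((e (m - n)).hom.naturality α).symm)).2 h2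

lemma pc_shift_iff {m : ℤ} {K : DCoh.D X} (n : ℤ) :
    DCoh.IsPseudoCoherentD (m - n) (K⟦n⟧) ↔ DCoh.IsPseudoCoherentD m K := by
  refine ⟨fun h => ?_, fun h => pc_shift h n⟩
  have h' := pc_of_iso ((shiftEquiv (DCoh.D X) n).unitIso.app K).symm (pc_shift h (-n))
  rwa [show m - n - -n = m by lia] at h'

theorem pc_obj₂ (T : Triangle (DCoh.D X)) (hT : T ∈ distTriang (DCoh.D X)) (m : ℤ)
    (h₁ : DCoh.IsPseudoCoherentD m T.obj₁) (h₃ : DCoh.IsPseudoCoherentD m T.obj₃) :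
    DCoh.IsPseudoCoherentD m T.obj₂ := by
  have h := pc_shift h₃ (-1)
  rw [sub_neg_eq_add] at h
  exact pc_obj₃ T.invRotate (inv_rot_of_distTriang _ hT) m h h₁

theorem pc_obj₁ (T : Triangle (DCoh.D X)) (hT : T ∈ distTriang (DCoh.D X)) (m : ℤ)
    (h₂ : DCoh.IsPseudoCoherentD (m + 1) T.obj₂) (h₃ : DCoh.IsPseudoCoherentD m T.obj₃) :
    DCoh.IsPseudoCoherentD (m + 1) T.obj₁ := by
  have h := pc_obj₃ T.rotate (rot_of_distTriang _ hT) m h₂ h₃
  rw [← pc_shift_iff (m := m + 1) 1, add_sub_cancel_right]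
  exact h

/-- pseudo-coherence is local -/
lemma pc_restrict (j : U ⟶ X) [IsOpenImmersion j] {m : ℤ} {K : DCoh.D X} (h : DCoh.IsPseudoCoherentD m K) :
    DCoh.IsPseudoCoherentD m ((RD j).obj K) := by
  rw [pc_iff_near] at h ⊢
  intro u
  obtain ⟨U', j', hj', u', hu', hP⟩ := h (j.base u)
  haveI := hj'
  obtain ⟨W, k, k', hk, hk', w, hw, hw', hkk⟩ := exists_common j j' u u' hu'.symm
  obtain ⟨E, α, hE, hα⟩ := pcOn_congr hkk.symm (pcOn_comp k' j' hP)
  exact ⟨W, k, hk, w, hw, E, α ≫ ((rdComp k j).app K).hom, hE, mIsoD_comp_right _ hα⟩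

theorem pc_of_retract {m : ℤ} {K L : DCoh.D X} [HasBinaryBiproduct K L]
    (h : DCoh.IsPseudoCoherentD m (K ⊞ L)) :
    DCoh.IsPseudoCoherentD m K ∧ DCoh.IsPseudoCoherentD m L := by
  have key : ∀ x, Near (fun j => PCOn j m K ∧ PCOn j m L) x := by
    intro x
    obtain ⟨U, j, hj, u, hu, hP⟩ := (pc_iff_near m _).1 h x
    haveI := hj
    have hU := pc_restrict j h
    obtain ⟨E, α, hE, hα⟩ := hP
    obtain ⟨⟨a, b, hab⟩, -⟩ := hE
    let n := max m b + 1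
    have hn : IsAboveD n ((RD j).obj (K ⊞ L)) := fun i hi => by
      haveI := hα.1 i (by lia)
      exact ((ShortComplex.isZero_homology_of_isZero_X₂ _ (hab i (Or.inr (by lia)))).of_iso
        ((DerivedCategory.homologyFunctorFactors _ i).app E)).of_iso
          (asIso ((DerivedCategory.homologyFunctor U.Modules i).map α)).symm
    haveI := preservesBinaryBiproducts_of_preservesBiproducts (RD j)
    let e := (RD j).mapBiprod K L
    suffices H : ∀ d : ℕ, ∀ m', n ≤ m' + d → DCoh.IsPseudoCoherentD m' ((RD j).obj K ⊞ (RD j).obj L) →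
        DCoh.IsPseudoCoherentD m' ((RD j).obj K) ∧ DCoh.IsPseudoCoherentD m' ((RD j).obj L) by
      obtain ⟨hK, hL⟩ := H (n - m).toNat m (by lia) (pc_of_iso e hU)
      obtain ⟨U₁, j₁, hj₁, u₁, hu₁, h₁⟩ := (pc_iff_near m _).1 hK u
      obtain ⟨U₂, j₂, hj₂, u₂, hu₂, h₂⟩ := (pc_iff_near m _).1 hL u
      obtain ⟨W, k, k', hk, hk', w, hw, hw', hkk⟩ := exists_common j₁ j₂ u₁ u₂ (hu₁.trans hu₂.symm)
      refine ⟨W, (k ≫ j₁) ≫ j, inferInstance, w, ?_, ?_, ?_⟩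
      · exact (congrArg (fun t => j.base (j₁.base t)) hw).trans ((congrArg j.base hu₁).trans hu)
      · exact pcOn_push _ _ (pcOn_comp k j₁ h₁)
      · exact pcOn_push _ _ (pcOn_congr hkk.symm (pcOn_comp k' j₂ h₂))
    intro d
    induction d with
    | zero =>
      intro m' hm' _
      have hr : ∀ {Z : DCoh.D U} (i : Z ⟶ (RD j).obj K ⊞ (RD j).obj L) (r : (RD j).obj K ⊞ (RD j).obj L ⟶ Z),
          i ≫ r = 𝟙 Z → IsAboveD m' Z := fun i r hir q hq => by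
        have hz := (isAboveD_of_iso e (isAboveD_mono (by lia : n ≤ m') hn)) q hq
        rw [IsZero.iff_id_eq_zero, ← CategoryTheory.Functor.map_id, ← hir, Functor.map_comp,
          hz.eq_of_tgt ((DerivedCategory.homologyFunctor U.Modules q).map i) 0, zero_comp]
      exact ⟨pc_of_isAbove (hr biprod.inl biprod.fst (by simp)),
        pc_of_isAbove (hr biprod.inr biprod.snd (by simp))⟩
    | succ d ih =>
      intro m' hm' h'
      obtain ⟨hK, hL⟩ := ih (m' + 1) (by lia) (pc_mono (by lia) h')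
      exact ⟨pc_obj₃ (binaryBiproductTriangle ((RD j).obj L) ((RD j).obj K))
          (binaryBiproductTriangle_distinguished _ _) m' hL (pc_of_iso (biprod.braiding _ _) h'),
        pc_obj₃ (binaryBiproductTriangle ((RD j).obj K) ((RD j).obj L))
          (binaryBiproductTriangle_distinguished _ _) m' hK h'⟩
  constructor <;> rw [pc_iff_near] <;> intro x <;> obtain ⟨U, j, hj, u, hu, h1, h2⟩ := key x
  · exact ⟨U, j, hj, u, hu, h1⟩
  · exact ⟨U, j, hj, u, hu, h2⟩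

/-! ### perfect objects -/

theorem perfect_obj₃ (T : Triangle (DCoh.D X)) (hT : T ∈ distTriang (DCoh.D X))
    (h₁ : DCoh.IsPerfect T.obj₁) (h₂ : DCoh.IsPerfect T.obj₂) : DCoh.IsPerfect T.obj₃ := by
  rw [perfect_iff_near] at h₁ h₂ ⊢
  intro x
  obtain ⟨U, j, hj, u, hu, hP₁⟩ := h₁ x
  obtain ⟨U', j', hj', u', hu', hP₂⟩ := h₂ x
  obtain ⟨W, k, k', hk, hk', w, hw, hw', hkk⟩ := exists_common j j' u u' (hu.trans hu'.symm)
  obtain ⟨E, hE, ⟨a⟩⟩ := perfOn_comp k j hP₁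
  obtain ⟨F, hF, ⟨b⟩⟩ := perfOn_congr hkk.symm (perfOn_comp k' j' hP₂)
  let jW := k ≫ j
  obtain ⟨U₁, j₁, hj₁, u₁, hu₁, g, hg⟩ := exists_map_eq_Q hE (a.inv ≫ (RD jW).map T.mor₁ ≫ b.hom) w
  haveI := hj₁
  let T₁ := (RD j₁).mapTriangle.obj ((RD jW).mapTriangle.obj T)
  have hT₁ : T₁ ∈ distTriang (DCoh.D U₁) := (RD j₁).map_distinguished _ ((RD jW).map_distinguished T hT)
  have hTg := DerivedCategory.mappingCone_triangle_distinguished g
  let i := Pretriangulated.isoTriangleOfIso₁₂ T₁ _ hT₁ hTg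
    ((RD j₁).mapIso a ≪≫ rdIso j₁ E) ((RD j₁).mapIso b ≪≫ rdIso j₁ F) (by
      change (RD j₁).map ((RD jW).map T.mor₁) ≫ (RD j₁).map b.hom ≫ (rdIso j₁ F).hom =
        ((RD j₁).map a.hom ≫ (rdIso j₁ E).hom) ≫ DerivedCategory.Q.map g
      have h := congrArg (fun t => (RD j₁).map a.hom ≫ t ≫ (rdIso j₁ F).hom) hg
      simp only [Functor.map_comp, Category.assoc, Iso.inv_hom_id, Category.comp_id] at h ⊢
      rw [← h, ← Functor.map_comp_assoc _ a.hom a.inv, a.hom_inv_id, CategoryTheory.Functor.map_id, Category.id_comp])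
  refine ⟨U₁, j₁ ≫ jW, inferInstance, u₁,
    (congrArg jW.base hu₁).trans ((congrArg j.base hw).trans hu), ?_⟩
  exact perfOn_push j₁ jW ⟨CochainComplex.mappingCone g,
    isStrictlyPerfect_mappingCone g (isStrictlyPerfect_restrict j₁ hE) (isStrictlyPerfect_restrict j₁ hF),
    ⟨Triangle.π₃.mapIso i⟩⟩

lemma perfect_shift {K : DCoh.D X} (h : DCoh.IsPerfect K) (n : ℤ) : DCoh.IsPerfect (K⟦n⟧) := by
  rw [perfect_iff_near] at h ⊢
  intro x
  obtain ⟨U, j, hj, u, hu, hP⟩ := h x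
  haveI := hj
  obtain ⟨E, hE, ⟨i⟩⟩ := hP
  refine ⟨U, j, hj, u, hu, E⟦n⟧, ?_, ⟨((RD j).commShiftIso n).app K ≪≫
    (shiftFunctor (DCoh.D U) n).mapIso i ≪≫ ((DerivedCategory.Q.commShiftIso n).app E).symm⟩⟩
  obtain ⟨⟨a, b, hab⟩, hl⟩ := hE
  exact ⟨⟨a - n, b - n, fun i hi => hab (i + n) (by lia)⟩, fun i => hl (i + n)⟩

lemma perfect_of_iso {K L : DCoh.D X} (e : K ≅ L) (h : DCoh.IsPerfect K) : DCoh.IsPerfect L := by
  rw [perfect_iff_near] at h ⊢
  intro x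
  obtain ⟨U, j, hj, u, hu, hP⟩ := h x
  exact ⟨U, j, hj, u, hu, perfOn_iso e hP⟩

theorem perfect_obj₂ (T : Triangle (DCoh.D X)) (hT : T ∈ distTriang (DCoh.D X))
    (h₁ : DCoh.IsPerfect T.obj₁) (h₃ : DCoh.IsPerfect T.obj₃) : DCoh.IsPerfect T.obj₂ :=
  perfect_obj₃ T.invRotate (inv_rot_of_distTriang _ hT) (perfect_shift h₃ (-1)) h₁

theorem perfect_obj₁ (T : Triangle (DCoh.D X)) (hT : T ∈ distTriang (DCoh.D X))
    (h₂ : DCoh.IsPerfect T.obj₂) (h₃ : DCoh.IsPerfect T.obj₃) : DCoh.IsPerfect T.obj₁ :=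
  perfect_of_iso ((shiftEquiv (DCoh.D X) (1 : ℤ)).unitIso.app T.obj₁).symm
    (perfect_shift (perfect_obj₃ T.rotate (rot_of_distTriang _ hT) h₂ h₃) (-1))

end Groth.Agent.DQCoh
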