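import Groth.Agent.DQCoh.Colim
import Groth.Agent.KFlat.TorFlat
import Groth.Agent.KFlat.FreeSystemSite

/-!
# Dévissage for functors on complexes preserving quasi-coherent cohomology
-/

set_option backward.isDefEq.respectTransparency false
set_option backward.isDefEq.respectTransparency.types false
set_option linter.style.haveILetI false
set_option autoImplicit false

universe u

open CategoryTheory Limits ZeroObject AlgebraicGeometry HomologicalComplex

attribute [local instance] HasDerivedCategory.standard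

namespace Groth.Agent.DQCoh

open Groth.Agent.KFlat (resF resψ)

variable {X Y : Scheme.{u}}

/-- A functor on complexes that can be derived with K-flat complexes. -/
structure Datum (Y X : Scheme.{u}) where
  Φ : CochainComplex Y.Modules ℤ ⥤ CochainComplex X.Modules ℤ
  [pzm : Φ.PreservesZeroMorphisms]
  quasiIso_map : ∀ {P P' : CochainComplex Y.Modules ℤ} (a : P ⟶ P'), QuasiIso a → DCoh.IsKFlat P →
    DCoh.IsKFlat P' → QuasiIso (Φ.map a)
  shortExact : ∀ (S : ShortComplex (CochainComplex Y.Modules ℤ)),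
    (∀ n, (S.map (eval Y.Modules (ComplexShape.up ℤ) n)).Splitting) →
      (S.map Φ).ShortExact
  shift : ∀ (K : CochainComplex Y.Modules ℤ) (n : ℤ), Nonempty (Φ.obj (K⟦n⟧) ≅ (Φ.obj K)⟦n⟧)
  colim : PreservesColimitsOfShape ℕ Φ

attribute [instance] Datum.pzm

lemma isKFlat_shift {P : CochainComplex Y.Modules ℤ} (h : DCoh.IsKFlat P) (n : ℤ) : DCoh.IsKFlat (P⟦n⟧) :=
  (KFlat.rflat_iff_sch _).2 (KFlat.rflat_shift ((KFlat.rflat_iff_sch P).1 h) n)

lemma isKFlat_of_isZero {P : CochainComplex Y.Modules ℤ} (h : IsZero P) : DCoh.IsKFlat P :=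
  (KFlat.rflat_iff_sch _).2 (KFlat.rflat_of_isZero h)

/-- Cohomology of a shift. -/
noncomputable def shiftHIso (K : CochainComplex X.Modules ℤ) (n i j : ℤ) (h : n + i = j) :
    (K⟦n⟧).homology i ≅ K.homology j :=
  ((HomologicalComplex.homologyFunctor X.Modules (ComplexShape.up ℤ) 0).shiftIso n i j h).app K

/-- Isomorphism of cones from a morphism of maps with quasi-isomorphic ends. -/
lemma quasiIso_coneMap {K₁ L₁ K₂ L₂ : CochainComplex Y.Modules ℤ} (φ₁ : K₁ ⟶ L₁) (φ₂ : K₂ ⟶ L₂)
    (a : K₁ ⟶ K₂) (b : L₁ ⟶ L₂) (comm : φ₁ ≫ b = a ≫ φ₂) [QuasiIso a] [QuasiIso b] :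
    QuasiIso (CochainComplex.mappingCone.map φ₁ φ₂ a b comm) := by
  rw [← DerivedCategory.isIso_Q_map_iff_quasiIso]
  let τ := DerivedCategory.Q.mapTriangle.map (CochainComplex.mappingCone.triangleMap φ₁ φ₂ a b comm)
  have h₁ : IsIso τ.hom₁ := inferInstanceAs (IsIso (DerivedCategory.Q.map a))
  have h₂ : IsIso τ.hom₂ := inferInstanceAs (IsIso (DerivedCategory.Q.map b))
  exact Pretriangulated.isIso₃_of_isIso₁₂ τ (DerivedCategory.mappingCone_triangle_distinguished φ₁)
    (DerivedCategory.mappingCone_triangle_distinguished φ₂) h₁ h₂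

variable (D : Datum Y X)

/-- The derived value has quasi-coherent cohomology in degree `i`. -/
def GoodAt (C : CochainComplex Y.Modules ℤ) (i : ℤ) : Prop :=
  Coh.IsQCoh ((D.Φ.obj ((resF Y).obj C)).homology i)

/-- The derived value has quasi-coherent cohomology. -/
def Good (C : CochainComplex Y.Modules ℤ) : Prop := ∀ i, GoodAt D C i

variable {D}

lemma goodAt_iff {C P : CochainComplex Y.Modules ℤ} (hP : DCoh.IsKFlat P) (q : P ⟶ C) [QuasiIso q] (i : ℤ) :
    GoodAt D C i ↔ Coh.IsQCoh ((D.Φ.obj P).homology i) := by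
  let a : (resF Y).obj P ⟶ P := (resψ Y).app P
  let b : (resF Y).obj P ⟶ (resF Y).obj C := (resF Y).map q
  have hb : QuasiIso b := by
    have : QuasiIso (b ≫ (resψ Y).app C) := by
      rw [show b ≫ (resψ Y).app C = a ≫ q from (resψ Y).naturality q]
      exact quasiIso_comp a q
    exact quasiIso_of_comp_right b ((resψ Y).app C)
  have := D.quasiIso_map a inferInstance (KFlat.isKFlat_resF P) hP
  have := D.quasiIso_map b hb (KFlat.isKFlat_resF P) (KFlat.isKFlat_resF C)
  let e : (D.Φ.obj ((resF Y).obj C)).homology i ≅ (D.Φ.obj P).homology i :=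
    (isoOfQuasiIsoAt (D.Φ.map b) i).symm ≪≫ isoOfQuasiIsoAt (D.Φ.map a) i
  exact ⟨fun h => QC.isQCoh_of_iso e h, fun h => QC.isQCoh_of_iso e.symm h⟩

lemma goodAt_iff_of_quasiIso {C C' : CochainComplex Y.Modules ℤ} (f : C ⟶ C') [QuasiIso f] (i : ℤ) :
    GoodAt D C i ↔ GoodAt D C' i :=
  (goodAt_iff (KFlat.isKFlat_resF C) ((resψ Y).app C ≫ f) i).symm

lemma goodAt_of_Q_iso {C C' : CochainComplex Y.Modules ℤ}
    (e : DerivedCategory.Q.obj C ≅ DerivedCategory.Q.obj C') (i : ℤ) (h : GoodAt D C i) : GoodAt D C' i := by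
  obtain ⟨E, s, hs, g, hg⟩ := DerivedCategory.right_fac e.hom
  have hs' : QuasiIso s := (DerivedCategory.isIso_Q_map_iff_quasiIso _ s).1 hs
  have hg' : IsIso (DerivedCategory.Q.map g) := by
    have : DerivedCategory.Q.map g = DerivedCategory.Q.map s ≫ e.hom := by
      rw [hg, IsIso.hom_inv_id_assoc]
    rw [this]; infer_instance
  have : QuasiIso g := (DerivedCategory.isIso_Q_map_iff_quasiIso _ g).1 hg'
  exact (goodAt_iff_of_quasiIso g i).1 ((goodAt_iff_of_quasiIso s i).2 h)

lemma good_of_acyclic {C : CochainComplex Y.Modules ℤ} (h : C.Acyclic) : Good D C := fun i => by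
  have hz : IsZero (0 : CochainComplex Y.Modules ℤ) := Limits.isZero_zero _
  have : QuasiIso (0 : (0 : CochainComplex Y.Modules ℤ) ⟶ C) := ⟨fun j => by
    rw [quasiIsoAt_iff_isIso_homologyMap]
    exact ⟨0, ((homologyFunctor _ _ j).map_isZero hz).eq_of_src _ _,
      ((exactAt_iff_isZero_homology _ _).1 (h j)).eq_of_src _ _⟩⟩
  refine (goodAt_iff (isKFlat_of_isZero hz) (0 : (0 : CochainComplex Y.Modules ℤ) ⟶ C) i).2 ?_
  exact isQCoh_of_isZero ((homologyFunctor _ _ i).map_isZero (D.Φ.map_isZero hz))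

lemma goodAt_shift {C : CochainComplex Y.Modules ℤ} (n i : ℤ) (h : GoodAt D C (n + i)) :
    GoodAt D (C⟦n⟧) i := by
  have : QuasiIso (((resψ Y).app C)⟦n⟧') := by
    rw [CochainComplex.quasiIso_shift_iff]
    infer_instance
  refine (goodAt_iff (isKFlat_shift (KFlat.isKFlat_resF C) n) (((resψ Y).app C)⟦n⟧') i).2 ?_
  exact QC.isQCoh_of_iso ((shiftHIso _ n i _ rfl).symm ≪≫
    (homologyFunctor _ _ i).mapIso (D.shift _ n).some.symm) h

/-- The middle term of a short exact sequence. -/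
lemma goodAt_middle {S : ShortComplex (CochainComplex Y.Modules ℤ)} (hS : S.ShortExact) (i : ℤ)
    (h₁ : GoodAt D S.X₁ i) (h₁' : GoodAt D S.X₁ (i + 1)) (h₃ : GoodAt D S.X₃ i)
    (h₃' : GoodAt D S.X₃ (i - 1)) : GoodAt D S.X₂ i := by
  let u := (resF Y).map S.f
  let m := CochainComplex.mappingCone.map u S.f ((resψ Y).app S.X₁) ((resψ Y).app S.X₂)
    ((resψ Y).naturality S.f)
  have hm : QuasiIso m := quasiIso_coneMap _ _ _ _ _
  have hd := CochainComplex.mappingCone.quasiIso_descShortComplex hS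
  let q := m ≫ CochainComplex.mappingCone.descShortComplex S
  have hK : DCoh.IsKFlat (CochainComplex.mappingCone u) :=
    KFlat.rflat_mappingCone_sch _ (KFlat.isKFlat_resF _) (KFlat.isKFlat_resF _)
  have hT := D.shortExact (KFlat.coneSC u) fun n => KFlat.coneSplitting u n
  have hA : ∀ j, GoodAt D S.X₁ (j + 1) →
      Coh.IsQCoh ((D.Φ.obj (((resF Y).obj S.X₁)⟦(1 : ℤ)⟧)).homology j) := fun j hj =>
    QC.isQCoh_of_iso ((shiftHIso _ 1 j (j + 1) (by omega)).symm ≪≫
      (homologyFunctor _ _ j).mapIso (D.shift _ 1).some.symm) hj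
  exact isQCoh_of_exact₅ _ _ _ _ (hT.comp_δ (i - 1) i (by simp)) (hT.δ_comp (i - 1) i (by simp))
    (by rw [← homologyMap_comp, ((KFlat.coneSC u).map D.Φ).zero, homologyMap_zero])
    (hT.homology_exact₃ (i - 1) i (by simp)) (hT.homology_exact₁ (i - 1) i (by simp))
    (hT.homology_exact₂ i) ((goodAt_iff hK q (i - 1)).1 h₃') (hA (i - 1) (by rwa [sub_add_cancel]))
    ((goodAt_iff hK q i).1 h₃) (hA i h₁')

lemma good_middle {S : ShortComplex (CochainComplex Y.Modules ℤ)} (hS : S.ShortExact)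
    (h₁ : Good D S.X₁) (h₃ : Good D S.X₃) : Good D S.X₂ := fun i =>
  goodAt_middle hS i (h₁ _) (h₁ _) (h₃ _) (h₃ _)

/-- Modules in degree zero. -/
def Base (D : Datum Y X) : Prop :=
  ∀ F : Y.Modules, Coh.IsQCoh F → Good D ((HomologicalComplex.single Y.Modules (ComplexShape.up ℤ) 0).obj F)

lemma good_of_concentrated (h0 : Base D) {C : CochainComplex Y.Modules ℤ} (b : ℤ)
    (hC : ∀ j, j ≠ b → IsZero (C.homology j)) (hb : Coh.IsQCoh (C.homology b)) : Good D C := fun i => by
  have : C.IsGE b := (CochainComplex.isGE_iff C b).2 fun j hj =>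
    (exactAt_iff_isZero_homology _ _).2 (hC j hj.ne)
  have : C.IsLE b := (CochainComplex.isLE_iff C b).2 fun j hj =>
    (exactAt_iff_isZero_homology _ _).2 (hC j hj.ne')
  obtain ⟨V, ⟨eV⟩⟩ := DerivedCategory.exists_iso_singleFunctor_obj_of_isGE_of_isLE (DCoh.toD Y C) b
  have hV : Coh.IsQCoh V := QC.isQCoh_of_iso ((KFlat.hdIso C b).symm ≪≫
    (DerivedCategory.homologyFunctor _ b).mapIso eV ≪≫
    (DerivedCategory.singleFunctorCompHomologyFunctorIso Y.Modules b).app V) hb
  refine goodAt_of_Q_iso (C := ((HomologicalComplex.single Y.Modules (ComplexShape.up ℤ) 0).obj V)⟦-b⟧)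
    ?_ i (goodAt_shift (-b) i (h0 V hV _))
  exact DerivedCategory.Q.mapIso (((CochainComplex.singleFunctors Y.Modules).shiftIso (-b) b 0 (by omega)).app V) ≪≫
    ((DerivedCategory.singleFunctorIsoCompQ Y.Modules b).app V).symm ≪≫ eV.symm

/-- The truncation sequence: first term. -/
lemma isQCoh_homology_X₁ {C : CochainComplex Y.Modules ℤ} (n j : ℤ) (hC : Coh.IsQCoh (C.homology j)) :
    Coh.IsQCoh ((C.truncLE n).homology j) := by
  by_cases hj : j ≤ n
  · have := C.quasiIsoAt_ιTruncLE n j hj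
    exact QC.isQCoh_of_iso (isoOfQuasiIsoAt (C.ιTruncLE n) j).symm hC
  · exact isQCoh_of_isZero ((C.truncLE n).isZero_of_isLE n j (by omega))

lemma isZero_homology_X₁ {C : CochainComplex Y.Modules ℤ} (n j : ℤ) (hC : IsZero (C.homology j)) :
    IsZero ((C.truncLE n).homology j) := by
  by_cases hj : j ≤ n
  · have := C.quasiIsoAt_ιTruncLE n j hj
    exact hC.of_iso (isoOfQuasiIsoAt (C.ιTruncLE n) j)
  · exact (C.truncLE n).isZero_of_isLE n j (by omega)

/-- The truncation sequence: last term. -/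
lemma homology_X₃ (C : CochainComplex Y.Modules ℤ) (n j : ℤ) :
    (j ≤ n → IsZero ((C.shortComplexTruncLE n).X₃.homology j)) ∧
      (n < j → Nonempty ((C.shortComplexTruncLE n).X₃.homology j ≅ C.homology j)) := by
  constructor
  · intro hj
    obtain ⟨k, hk⟩ := Int.le.dest hj
    have h := (HomologicalComplex.shortComplexTruncLE_X₃_isSupportedOutside C
      (ComplexShape.embeddingUpIntLE n)).exactAt k
    rw [exactAt_iff_isZero_homology] at h
    have e : (ComplexShape.embeddingUpIntLE n).f k = j := by simp; omega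
    rwa [e] at h
  · intro hj
    have := HomologicalComplex.quasiIsoAt_shortComplexTruncLE_g C (ComplexShape.embeddingUpIntLE n) j
      (fun k => by simp; omega)
    exact ⟨(isoOfQuasiIsoAt (C.shortComplexTruncLE n).g j).symm⟩

lemma isQCoh_homology_X₃ {C : CochainComplex Y.Modules ℤ} (n j : ℤ) (hC : Coh.IsQCoh (C.homology j)) :
    Coh.IsQCoh ((C.shortComplexTruncLE n).X₃.homology j) := by
  by_cases hj : j ≤ n
  · exact isQCoh_of_isZero ((homology_X₃ C n j).1 hj)
  · exact QC.isQCoh_of_iso ((homology_X₃ C n j).2 (by omega)).some.symm hC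

/-- Bounded complexes. -/
lemma good_of_bounded (h0 : Base D) (k : ℕ) : ∀ (C : CochainComplex Y.Modules ℤ) (b : ℤ),
    (∀ j, Coh.IsQCoh (C.homology j)) → (∀ j, b < j ∨ j ≤ b - k → IsZero (C.homology j)) → Good D C := by
  induction k with
  | zero =>
    intro C b _ hz
    exact good_of_acyclic fun j => (exactAt_iff_isZero_homology _ _).2 (hz j (by omega))
  | succ k ih =>
    intro C b hC hz
    refine good_middle (C.shortComplexTruncLE_shortExact (b - 1)) ?_ ?_
    · refine ih (C.truncLE (b - 1)) (b - 1) (fun j => isQCoh_homology_X₁ _ j (hC j)) fun j hj => ?_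
      by_cases hjb : b - 1 < j
      · exact (C.truncLE (b - 1)).isZero_of_isLE (b - 1) j hjb
      · exact isZero_homology_X₁ _ j (hz j (by omega))
    · refine good_of_concentrated h0 b (fun j hj => ?_) (isQCoh_homology_X₃ _ b (hC b))
      by_cases hjb : j ≤ b - 1
      · exact (homology_X₃ C (b - 1) j).1 hjb
      · exact (hz j (by omega)).of_iso ((homology_X₃ C (b - 1) j).2 (by omega)).some

/-- The functor is right bounded. -/
def RightBounded (D : Datum Y X) : Prop :=
  ∃ c : ℤ, ∀ P : CochainComplex Y.Modules ℤ, DCoh.IsKFlat P → ∀ n : ℤ, P.IsLE n → ∀ i : ℤ, n + c < i →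
    IsZero ((D.Φ.obj P).homology i)

/-- Complexes bounded above. -/
lemma good_of_isLE (h0 : Base D) (hb : RightBounded D) {C : CochainComplex Y.Modules ℤ} (n : ℤ) [C.IsLE n]
    (hC : ∀ j, Coh.IsQCoh (C.homology j)) : Good D C := fun i => by
  obtain ⟨c, hc⟩ := hb
  let a := i - c - 1
  have h₁ : ∀ j, a + c < j → GoodAt D (C.truncLE a) j := fun j hj => by
    have : ((resF Y).obj (C.truncLE a)).IsLE a := (CochainComplex.isLE_iff _ a).2 fun l hl => by
      rw [exactAt_iff_isZero_homology]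
      exact ((C.truncLE a).isZero_of_isLE a l hl).of_iso
        (isoOfQuasiIsoAt ((resψ Y).app (C.truncLE a)) l)
    exact isQCoh_of_isZero (hc _ (KFlat.isKFlat_resF _) a this j hj)
  have h₃ : Good D (C.shortComplexTruncLE a).X₃ :=
    good_of_bounded h0 (n - a).toNat _ n (fun j => isQCoh_homology_X₃ _ j (hC j)) fun j hj => by
      by_cases hja : j ≤ a
      · exact (homology_X₃ C a j).1 hja
      · exact (C.isZero_of_isLE n j (by omega)).of_iso ((homology_X₃ C a j).2 (by omega)).some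
  exact goodAt_middle (C.shortComplexTruncLE_shortExact a) i (h₁ i (by omega)) (h₁ _ (by omega)) (h₃ _) (h₃ _)

/-- Complexes with flat terms bounded above, exhausting a given complex. -/
lemma exists_flat_system (G : CochainComplex Y.Modules ℤ) :
    ∃ (Kc : ℕ ⥤ CochainComplex Y.Modules ℤ) (c : colimit Kc ⟶ G),
      QuasiIso c ∧ DCoh.IsKFlat (colimit Kc) ∧ (∀ m, DCoh.IsKFlat (Kc.obj m)) ∧
      ∀ m : ℕ, ∃ π : Kc.obj m ⟶ G.truncLE ((m : ℤ) + 1), QuasiIso π := by
  let B := KFlat.schB Y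
  haveI : HasExactColimitsOfShape ℕ Y.Modules := KFlat.hasExactColimits_nat Y.sheaf
  obtain ⟨Kc, π, -, hq, hb, hs, -, c, -, hcq⟩ := KFlat.exists_trunc_system
    (T := fun U : Y.Opens => ModSite.freeOn Y.sheaf U) G (KFlat.exists_freeOn_cover Y.sheaf)
  have hK : ∀ m, KFlat.RFlat (KFlat.schB Y) (Kc.obj m) := fun m => by
    obtain ⟨b, hb⟩ := hb m
    refine KFlat.rflat_of_bounded_above_site Y.sheaf _ b hb fun j => ?_
    obtain ⟨I, U, ⟨e⟩⟩ := hs m j
    haveI := KFlat.isGrothendieck Y.sheaf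
    exact KFlat.flatObj_of_iso e.symm (KFlat.flatObj_of_isColimit
      (fun M => by
        have := KFlat.preservesColimits_left Y.sheaf M
        exact inferInstanceAs (PreservesColimitsOfShape (Discrete I) ((ModSite.tensorBi Y.sheaf).obj M)))
      (colimit.isColimit _) fun l => KFlat.flatObj_of_iso (ModSiteFree.freeOnIso Y.sheaf _).symm
        (KFlat.flatObj_sheafify_free Y.sheaf _))
  refine ⟨Kc, c, hcq, (KFlat.rflat_iff_sch _).2 (KFlat.rflat_of_isColimit (fun M => by
      have := KFlat.preservesColimits_left Y.sheaf M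
      have : PreservesColimitsOfSize.{0, 0} ((ModSite.tensorBi Y.sheaf).obj M) :=
        preservesSmallestColimits_of_preservesColimits _
      exact inferInstanceAs (PreservesColimitsOfShape ℕ ((ModSite.tensorBi Y.sheaf).obj M)))
    (colimit.isColimit _) hK), fun m => (KFlat.rflat_iff_sch _).2 (hK m), fun m => ⟨π m, (hq m).1⟩⟩

/-- Passing to unbounded complexes. -/
theorem good_of_truncations {C : CochainComplex Y.Modules ℤ}
    (h : ∀ n : ℤ, Good D (C.truncLE n)) : Good D C := fun i => by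
  obtain ⟨Kc, c, hc, hK, hKm, hπ⟩ := exists_flat_system C
  refine (goodAt_iff hK c i).2 ?_
  haveI := D.colim
  refine isQCoh_homology_colimit_nat (Kc ⋙ D.Φ) (isColimitOfPreserves D.Φ (colimit.isColimit Kc)) i fun m => ?_
  obtain ⟨π, hπ⟩ := hπ m
  exact (goodAt_iff (hKm m) π i).1 (h _ i)

/-- **Dévissage.** -/
theorem good_of_qcoh (h0 : Base D) (hb : RightBounded D) {C : CochainComplex Y.Modules ℤ}
    (hC : ∀ j, Coh.IsQCoh (C.homology j)) : Good D C :=
  good_of_truncations fun n => good_of_isLE h0 hb n fun j => isQCoh_homology_X₁ n j (hC j)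

end Groth.Agent.DQCoh
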