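import Groth.Agent.DQCoh.PCNoeth
import Groth.Agent.DQCoh.Tensor
import Groth.Agent.DQCoh.Pseudo
import Groth.Agent.DerPerf.Tensor
import Groth.Agent.TorBC.Core

/-!
Tensor products of bounded above pseudo-coherent complexes; bounded above complexes with coherent
cohomology on locally Noetherian schemes.
-/

set_option autoImplicit false
set_option backward.isDefEq.respectTransparency false
set_option backward.isDefEq.respectTransparency.types false
set_option linter.style.haveILetI false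
set_option linter.unusedSectionVars false

universe v u v' u'

open CategoryTheory Limits HomologicalComplex

namespace Groth.Agent.DQCoh

section Cone

open CochainComplex

variable {A : Type u} [Category.{v} A] [Abelian A] {B : Type u'} [Category.{v'} B] [Abelian B]
  (T : CochainComplex A ℤ ⥤ CochainComplex B ℤ) [T.PreservesZeroMorphisms]

/-- a functor exact on degreewise split sequences and invariant under homotopy sees the cone -/
lemma mIso_map_of_cone
    (hs : ∀ (S : ShortComplex (CochainComplex A ℤ)),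
      (∀ n, (S.map (eval A _ n)).Splitting) → (S.map T).ShortExact)
    (hh : ∀ {P Q : CochainComplex A ℤ} {a b : P ⟶ Q}, Homotopy a b →
      ∀ i, homologyMap (T.map a) i = homologyMap (T.map b) i)
    {K L : CochainComplex A ℤ} (f : K ⟶ L) (m : ℤ)
    (h : ∀ i, m ≤ i → IsZero ((T.obj (mappingCone f)).homology i)) :
    (∀ i, m < i → IsIso (homologyMap (T.map f) i)) ∧ Epi (homologyMap (T.map f) m) := by
  have hS := hs _ (KFlat.cylSplitting f)
  let a : K ⟶ L ⊞ mappingCone (𝟙 K) := biprod.lift f (mappingCone.inr (𝟙 K))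
  let p : L ⊞ mappingCone (𝟙 K) ⟶ L := biprod.fst
  have hp : ∀ i, IsIso (homologyMap (T.map p) i) := fun i => ⟨homologyMap (T.map biprod.inl) i,
    by rw [← homologyMap_comp, ← T.map_comp, hh (KFlat.cylHomotopy (K := K) (L := L)) i, T.map_id, homologyMap_id],
    by rw [← homologyMap_comp, ← T.map_comp, biprod.inl_fst, T.map_id, homologyMap_id]⟩
  have hf : ∀ i, homologyMap (T.map f) i = homologyMap (T.map a) i ≫ homologyMap (T.map p) i := fun i => by
    rw [← homologyMap_comp, ← T.map_comp, biprod.lift_fst]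
  have he : ∀ i, m ≤ i → Epi (homologyMap (T.map a) i) := fun i hi =>
    (hS.homology_exact₂ i).epi_f ((h i hi).eq_of_tgt _ _)
  have he' : ∀ i, m ≤ i → Epi (homologyMap (T.map f) i) := fun i hi => by
    rw [hf]
    exact @epi_comp _ _ _ _ _ (homologyMap (T.map a) i) (he i hi) (homologyMap (T.map p) i) inferInstance
  refine ⟨fun i hi => ?_, he' m le_rfl⟩
  have h2 : Mono (homologyMap (T.map a) i) :=
    (hS.homology_exact₁ (i - 1) i (by simp)).mono_g ((h (i - 1) (by lia)).eq_of_src _ _)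
  haveI : Mono (homologyMap (T.map f) i) := by
    rw [hf]
    exact @mono_comp _ _ _ _ _ (homologyMap (T.map a) i) h2 (homologyMap (T.map p) i) inferInstance
  have := he' i hi.le
  exact isIso_of_mono_of_epi _

end Cone

open AlgebraicGeometry Groth.Agent.KFlat Groth.Agent.ProjForm

attribute [local instance] HasDerivedCategory.standard

variable {X : Scheme.{u}}

/-- tensor products of complexes without high cohomology -/
lemma isZero_homology_tens {P Q : CochainComplex X.Modules ℤ} (hP : DCoh.IsKFlat P)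
    (a b : ℤ) (hPa : ∀ i, a ≤ i → IsZero (P.homology i)) (hQb : ∀ i, b ≤ i → IsZero (Q.homology i))
    (i : ℤ) (hi : a + b - 1 ≤ i) : IsZero (((DCoh.tensorCx.obj P).obj Q).homology i) := by
  haveI : P.IsLE (a - 1) := (CochainComplex.isLE_iff P _).2 fun j hj =>
    (exactAt_iff_isZero_homology _ _).2 (hPa j (by lia))
  haveI : Q.IsLE (b - 1) := (CochainComplex.isLE_iff Q _).2 fun j hj =>
    (exactAt_iff_isZero_homology _ _).2 (hQb j (by lia))
  haveI : QuasiIso (P.ιTruncLE (a - 1)) := (CochainComplex.quasiIso_ιTruncLE_iff P _).2 inferInstance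
  haveI : QuasiIso (Q.ιTruncLE (b - 1)) := (CochainComplex.quasiIso_ιTruncLE_iff Q _).2 inferInstance
  obtain ⟨P', q, hP', -, hq, hPb⟩ := exists_resolution_le_sch (P.truncLE (a - 1)) (a - 1)
  obtain ⟨Q', r, hQ', -, hr, hQb'⟩ := exists_resolution_le_sch (Q.truncLE (b - 1)) (b - 1)
  haveI := quasiIso_map_app_sch Q' hQ' (q ≫ P.ιTruncLE (a - 1))
  haveI := TorBC.quasiIso_tens_of_kFlat hP (r ≫ Q.ιTruncLE (b - 1))
  have hz : IsZero ((((tens (schB X)).obj P').obj Q').X i) := by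
    rw [IsZero.iff_id_eq_zero]
    refine HomologicalComplex.mapBifunctor.hom_ext fun p q hpq => ?_
    have hpq' : p + q = i := hpq
    have hz' : IsZero (((schB X).obj (P'.X p)).obj (Q'.X q)) := by
      by_cases hp : a - 1 < p
      · exact ((schB X).flip.obj (Q'.X q)).map_isZero (P'.isZero_of_isStrictlyLE (a - 1) p hp)
      · exact ((schB X).obj (P'.X p)).map_isZero (Q'.isZero_of_isStrictlyLE (b - 1) q (by omega))
    exact hz'.eq_of_src _ _
  exact (ShortComplex.isZero_homology_of_isZero_X₂ _ hz).of_iso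
    (isoOfQuasiIsoAt ((DCoh.tensorCx.map (q ≫ P.ιTruncLE (a - 1))).app Q' ≫
      (DCoh.tensorCx.obj P).map (r ≫ Q.ιTruncLE (b - 1))) i).symm

/-- an approximation, on the left factor -/
lemma mIso_tens_left {K L F : CochainComplex X.Modules ℤ} (g : K ⟶ L) (hK : DCoh.IsKFlat K)
    (hL : DCoh.IsKFlat L) (m b : ℤ)
    (hg : ∀ i, m ≤ i → IsZero ((CochainComplex.mappingCone g).homology i))
    (hFb : ∀ i, b ≤ i → IsZero (F.homology i)) :
    DerPerf.MIso (m + b - 1) (DerivedCategory.Q.map ((DCoh.tensorCx.map g).app F)) := by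
  have hC : DCoh.IsKFlat (CochainComplex.mappingCone g) := KFlat.rflat_mappingCone_sch g hK hL
  have h := mIso_map_of_cone ((tens (schB X)).flip.obj F)
    (fun S σ => shortExact_of_splitting (splittingFlip (schB X) F S σ))
    (fun h i => (homotopyFlip (schB X) F h).homologyMap_eq i) g (m + b - 1)
    (fun i hi => isZero_homology_tens hC m b hg hFb i hi)
  exact (DerPerf.mIso_Q_map_iff _ _).2 ((DerPerf.cone_isZero_iff _ _).2 h)

/-- an approximation, on the right factor -/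
lemma mIso_tens_right {K L F : CochainComplex X.Modules ℤ} (g : K ⟶ L) (hK : DCoh.IsKFlat K)
    (hL : DCoh.IsKFlat L) (hF : DCoh.IsKFlat F) (m a : ℤ)
    (hg : ∀ i, m ≤ i → IsZero ((CochainComplex.mappingCone g).homology i))
    (hFa : ∀ i, a ≤ i → IsZero (F.homology i)) :
    DerPerf.MIso (a + m - 1) (DerivedCategory.Q.map ((DCoh.tensorCx.obj F).map g)) := by
  have hC : DCoh.IsKFlat (CochainComplex.mappingCone g) := KFlat.rflat_mappingCone_sch g hK hL
  have h := mIso_map_of_cone ((tens (schB X)).obj F)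
    (fun S σ => shortExact_of_splitting (splittingObj (schB X) F S σ))
    (fun h i => (homotopyObj (schB X) F h).homologyMap_eq i) g (a + m - 1)
    (fun i hi => isZero_homology_tens hF a m hFa hg i hi)
  exact (DerPerf.mIso_Q_map_iff _ _).2 ((DerPerf.cone_isZero_iff _ _).2 h)

/-- restriction of a complex, as a pullback -/
noncomputable def rCIsoQC {U : Scheme.{u}} (j : U ⟶ X) [IsOpenImmersion j] (P : CochainComplex X.Modules ℤ) :
    (rC j).obj P ≅ (qC j).obj P :=
  (NatIso.mapHomologicalComplex (Scheme.Modules.restrictFunctorIsoPullback j) (ComplexShape.up ℤ)).app P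

/-- K-flat local approximations of a pseudo-coherent complex -/
lemma exists_approx {U : Scheme.{u}} (j : U ⟶ X) [IsOpenImmersion j] {P : CochainComplex X.Modules ℤ}
    (hP : DCoh.IsKFlat P) (m a : ℤ) (hma : m < a) (hPa : ∀ i, a ≤ i → IsZero (P.homology i))
    (h : PCOn j m (DerivedCategory.Q.obj P)) :
    ∃ (S : CochainComplex U.Modules ℤ) (E : CochainComplex U.Modules ℤ) (g : E ⟶ (qC j).obj P),
      DCoh.IsStrictlyPerfect S ∧ DCoh.IsKFlat E ∧
      Nonempty (DerivedCategory.Q.obj S ≅ DerivedCategory.Q.obj E) ∧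
      (∀ i, m ≤ i → IsZero ((CochainComplex.mappingCone g).homology i)) ∧
      (∀ i, a ≤ i → IsZero (E.homology i)) := by
  obtain ⟨S, α, hS, hα⟩ := h
  let e₀ : (RD j).obj (DerivedCategory.Q.obj P) ≅ DerivedCategory.Q.obj ((qC j).obj P) :=
    rdIso j P ≪≫ DerivedCategory.Q.mapIso (rCIsoQC j P)
  obtain ⟨E₁, s, hs, g₁, hg₁⟩ := DerivedCategory.right_fac (α ≫ e₀.hom)
  let t : (resF U).obj E₁ ⟶ E₁ := (resψ U).app E₁
  haveI := hs
  haveI hts : IsIso (DerivedCategory.Q.map (t ≫ s)) := by rw [Functor.map_comp]; infer_instance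
  have hg' : DerivedCategory.Q.map (t ≫ g₁) = DerivedCategory.Q.map (t ≫ s) ≫ α ≫ e₀.hom := by
    rw [hg₁, Functor.map_comp, Functor.map_comp, Category.assoc, IsIso.hom_inv_id_assoc]
  have h₁ : MIsoD m (DerivedCategory.Q.map (t ≫ g₁)) := by
    rw [hg']
    exact mIsoD_comp (mIsoD_of_isIso _ _) (mIsoD_comp hα (mIsoD_of_isIso _ _))
  have hc := (DerPerf.mIso_Q_map_iff m (t ≫ g₁)).1 h₁
  refine ⟨S, (resF U).obj E₁, t ≫ g₁, hS, isKFlat_resF _, ⟨(asIso (DerivedCategory.Q.map (t ≫ s))).symm⟩, hc,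
    fun i hi => ?_⟩
  haveI := ((DerPerf.cone_isZero_iff (t ≫ g₁) m).1 hc).1 i (by lia)
  exact (DerPerf.isZero_homology_pullback j hP a hPa i hi).of_iso (asIso (homologyMap (t ≫ g₁) i))

/-- **tensor products of bounded above pseudo-coherent complexes are pseudo-coherent** -/
theorem pc_tens {P Q : CochainComplex X.Modules ℤ} (hP : DCoh.IsKFlat P) (hQ : DCoh.IsKFlat Q) (a b : ℤ)
    (hPa : ∀ i, a ≤ i → IsZero (P.homology i)) (hQb : ∀ i, b ≤ i → IsZero (Q.homology i))
    (hPc : ∀ m, DCoh.IsPseudoCoherentD m (DerivedCategory.Q.obj P))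
    (hQc : ∀ m, DCoh.IsPseudoCoherentD m (DerivedCategory.Q.obj Q)) (m : ℤ) :
    DCoh.IsPseudoCoherentD m (DerivedCategory.Q.obj ((DCoh.tensorCx.obj P).obj Q)) := by
  rw [pc_iff_near]
  intro x
  let m₁ := min (a - 1) (m - b + 1)
  let m₂ := min (b - 1) (m - a + 1)
  obtain ⟨U₁, j₁, hj₁, u₁, hu₁, hp₁⟩ := (pc_iff_near m₁ _).1 (hPc m₁) x
  obtain ⟨U₂, j₂, hj₂, u₂, hu₂, hp₂⟩ := (pc_iff_near m₂ _).1 (hQc m₂) x
  haveI := hj₁
  haveI := hj₂
  obtain ⟨W, k, k', hk, hk', w, hw, -, hkk⟩ := exists_common j₁ j₂ u₁ u₂ (hu₁.trans hu₂.symm)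
  haveI := hk
  haveI := hk'
  let j := k ≫ j₁
  obtain ⟨S₁, E₁, g₁, hS₁, hE₁, ⟨e₁⟩, hc₁, hE₁a⟩ :=
    exists_approx j hP m₁ a ((min_le_left _ _).trans_lt (by lia)) hPa (pcOn_comp k j₁ hp₁)
  obtain ⟨S₂, E₂, g₂, hS₂, hE₂, ⟨e₂⟩, hc₂, hE₂b⟩ :=
    exists_approx j hQ m₂ b ((min_le_left _ _).trans_lt (by lia)) hQb (pcOn_congr hkk.symm (pcOn_comp k' j₂ hp₂))
  have hP' : DCoh.IsKFlat ((qC j).obj P) := isKFlat_pullback j hP
  have hQ' : DCoh.IsKFlat ((qC j).obj Q) := isKFlat_pullback j hQ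
  have hS₁' := DerPerf.isKFlat_of_isStrictlyPerfect hS₁
  have hS₂' := DerPerf.isKFlat_of_isStrictlyPerfect hS₂
  haveI := KFlat.hasLTensorCx E₂
  haveI := KFlat.hasLTensorCx S₁
  let eS : DerivedCategory.Q.obj ((DCoh.tensorCx.obj S₁).obj S₂) ≅
      DerivedCategory.Q.obj ((DCoh.tensorCx.obj E₁).obj E₂) :=
    DerivedCategory.Q.mapIso (swapIso (braid W.sheaf) S₁ S₂) ≪≫ (ltIso S₁ hS₂').symm ≪≫
      (DCoh.LTensorCx S₁).mapIso e₂ ≪≫ ltIso S₁ hE₂ ≪≫ DerivedCategory.Q.mapIso (swapIso (braid W.sheaf) E₂ S₁) ≪≫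
      (ltIso E₂ hS₁').symm ≪≫ (DCoh.LTensorCx E₂).mapIso e₁ ≪≫ ltIso E₂ hE₁
  let T := (DCoh.tensorCx.obj P).obj Q
  let eT : DerivedCategory.Q.obj ((DCoh.tensorCx.obj ((qC j).obj P)).obj ((qC j).obj Q)) ≅
      (RD j).obj (DerivedCategory.Q.obj T) :=
    DerivedCategory.Q.mapIso (pullTotIso j P Q ≪≫ (rCIsoQC j T).symm) ≪≫ (rdIso j T).symm
  refine ⟨W, j, inferInstance, w, ?_, (DCoh.tensorCx.obj S₁).obj S₂,
    eS.hom ≫ (DerivedCategory.Q.map ((DCoh.tensorCx.map g₁).app E₂) ≫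
      DerivedCategory.Q.map ((DCoh.tensorCx.obj ((qC j).obj P)).map g₂)) ≫ eT.hom,
    DerPerf.isStrictlyPerfect_tensor hS₁ hS₂, ?_⟩
  · show j₁.base (k.base w) = x
    rw [hw, hu₁]
  · refine mIsoD_comp (mIsoD_of_isIso _ _) (mIsoD_comp (mIsoD_comp ?_ ?_) (mIsoD_of_isIso _ _))
    · refine mIsoD_mono ?_ (mIso_tens_left g₁ hE₁ hP' m₁ b hc₁ hE₂b)
      have := min_le_right (a - 1) (m - b + 1)
      lia
    · refine mIsoD_mono ?_ (mIso_tens_right g₂ hE₂ hQ' hP' m₂ a hc₂ (fun i hi =>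
        DerPerf.isZero_homology_pullback j hP a hPa i hi))
      have := min_le_right (b - 1) (m - a + 1)
      lia

variable [IsLocallyNoetherian X]

/-- bounded above complexes with coherent cohomology are pseudo-coherent -/
theorem pc_of_isCohD (K : DCoh.D X) (hK : DCoh.IsCohD K) (b : ℤ) (hb : ∀ i, b < i → IsZero (DCoh.HD K i))
    (m : ℤ) : DCoh.IsPseudoCoherentD m K := by
  rw [pc_iff_near]
  intro x
  obtain ⟨V, hV, hx⟩ := QC.exists_affine_mem x
  haveI : IsAffine (V : Scheme.{u}) := hV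
  haveI := hV.isCompact
  haveI : IsNoetherian (V : Scheme.{u}) := ⟨⟩
  have hc : ∀ i, Coh.IsCoh (DCoh.HD ((RD V.ι).obj K) i) := fun i =>
    have e := (homologyDerIso (Scheme.Modules.restrictFunctor V.ι) i).app K
    ⟨QC.isQCoh_of_iso e.symm (QC.isQCoh_restrict V.ι (hK i).1),
      QC.isFT_of_epi e.inv (QC.isFT_restrict V.ι (hK i).2)⟩
  have hpc : DCoh.IsPseudoCoherentD m ((RD V.ι).obj K) :=
    (pc_iff_isCoh _ (fun i => (hc i).1) m).2 ⟨fun i _ => hc i, b, (DerivedCategory.isLE_iff _ b).2 fun i hi =>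
      ((Scheme.Modules.restrictFunctor V.ι).map_isZero (hb i hi)).of_iso
        ((homologyDerIso (Scheme.Modules.restrictFunctor V.ι) i).app K)⟩
  obtain ⟨U', k, hk, u', hu', hp⟩ := (pc_iff_near m _).1 hpc ⟨x, hx⟩
  haveI := hk
  refine ⟨U', k ≫ V.ι, inferInstance, u', ?_, pcOn_push k V.ι hp⟩
  show V.ι.base (k.base u') = x
  rw [hu']
  rfl

/-- pseudo-coherent objects have coherent cohomology -/
theorem isCohD_of_pc (K : DCoh.D X) (hK : ∀ m, DCoh.IsPseudoCoherentD m K) : DCoh.IsCohD K := fun i => by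
  have hq : ∀ i, Coh.IsQCoh (DCoh.HD K i) := fun i =>
    (isQCoh_cohomology_of_pseudoCoherent (i - 1) K (hK (i - 1))).1 i (by lia)
  refine ⟨hq i, QC.isFT_of_local fun x => ?_⟩
  obtain ⟨V, hV, hx⟩ := QC.exists_affine_mem x
  haveI : IsAffine (V : Scheme.{u}) := hV
  haveI := hV.isCompact
  haveI : IsNoetherian (V : Scheme.{u}) := ⟨⟩
  let e := fun j => (homologyDerIso (Scheme.Modules.restrictFunctor V.ι) j).app K
  have h := ((pc_iff_isCoh ((RD V.ι).obj K) (fun j => QC.isQCoh_of_iso (e j).symm (QC.isQCoh_restrict V.ι (hq j))) i).1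
    (pc_restrict V.ι (hK i))).1 i le_rfl
  exact ⟨_, V.ι, inferInstance, by simpa using hx, QC.isFT_of_epi (e i).hom h.2⟩

/-- **`⊗^L` preserves bounded above complexes with coherent cohomology** -/
theorem isCohD_lTensor (E : CochainComplex X.Modules ℤ) [DCoh.HasLTensorCx E] (L : DCoh.D X)
    (hL : DCoh.IsCohD L) (a : ℤ) (hLb : ∀ i, a < i → IsZero (DCoh.HD L i))
    (hE : DCoh.IsCohD (DCoh.toD X E)) (b : ℤ) (hEb : ∀ i, b < i → IsZero (DCoh.HD (DCoh.toD X E) i)) :
    DCoh.IsCohD ((DCoh.LTensorCx E).obj L) ∧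
      ∀ i, a + b < i → IsZero (DCoh.HD ((DCoh.LTensorCx E).obj L) i) := by
  obtain ⟨P, hP, -, ⟨e⟩⟩ := KFlat.exists_isKFlat_rep L
  let Q := (resF X).obj E
  have hQ : DCoh.IsKFlat Q := isKFlat_resF E
  let q : DerivedCategory.Q.obj Q ≅ DerivedCategory.Q.obj E := asIso (DerivedCategory.Q.map ((resψ X).app E))
  have hPc : ∀ m, DCoh.IsPseudoCoherentD m (DerivedCategory.Q.obj P) := fun m =>
    pc_of_iso e.symm (pc_of_isCohD L hL a hLb m)
  have hQc : ∀ m, DCoh.IsPseudoCoherentD m (DerivedCategory.Q.obj Q) := fun m =>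
    pc_of_iso q.symm (pc_of_isCohD _ hE b hEb m)
  have hPa : ∀ i, a + 1 ≤ i → IsZero (P.homology i) := fun i hi => (hLb i (by lia)).of_iso
    ((KFlat.hdIso P i).symm ≪≫ (DerivedCategory.homologyFunctor _ i).mapIso e)
  have hQb : ∀ i, b + 1 ≤ i → IsZero (Q.homology i) := fun i hi => (hEb i (by lia)).of_iso
    ((KFlat.hdIso Q i).symm ≪≫ (DerivedCategory.homologyFunctor _ i).mapIso q)
  obtain ⟨eT⟩ := nonempty_ltIso E hQ ⟨q.symm⟩ P
  let e' : DerivedCategory.Q.obj ((DCoh.tensorCx.obj P).obj Q) ≅ (DCoh.LTensorCx E).obj L :=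
    eT.symm ≪≫ (DCoh.LTensorCx E).mapIso e
  exact ⟨isCohD_of_pc _ fun m => pc_of_iso e' (pc_tens hP hQ _ _ hPa hQb hPc hQc m), fun i hi =>
    (isZero_homology_tens hP _ _ hPa hQb i (by lia)).of_iso
      ((DerivedCategory.homologyFunctor _ i).mapIso e'.symm ≪≫ KFlat.hdIso _ i)⟩

end Groth.Agent.DQCoh
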