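import Groth.Agent.DQCoh.Affine
import Groth.Agent.KFlat.TorFlat
import Groth.Agent.DRingKP.TorAmp
import Groth.Agent.DRingKP.Amp
import Mathlib.Algebra.Category.ModuleCat.Monoidal.Adjunction

/-!
# Tor amplitude of `M~`
-/

set_option backward.isDefEq.respectTransparency false
set_option backward.isDefEq.respectTransparency.types false
set_option linter.style.haveILetI false
set_option autoImplicit false

universe u

open CategoryTheory Limits AlgebraicGeometry HomologicalComplex MonoidalCategory

attribute [local instance] HasDerivedCategory.standard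

namespace Groth.Agent.DQCoh

variable {R : CommRingCat.{u}}

lemma isFlat_tilde (N : ModuleCat.{u} R) (hN : Module.Flat R N) : FlatMod.IsFlat (tilde N) := fun x => by
  let φ := TildeKFlat.toStalkRing (R := R) x
  have h : Module.Flat ((Spec R).presheaf.stalk x) ((ModuleCat.extendScalars.{u, u, u} φ).obj N) := by
    let := φ.toAlgebra
    exact Module.Flat.baseChange R ((Spec R).presheaf.stalk x) N
  exact @Module.Flat.of_linearEquiv _ _ _ _ _ _ _ _ h ((asIso (TildeKFlat.cmp x)).app N).toLinearEquiv.symm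

variable [PreservesFiniteLimits (tilde.functor R)]

local notation "XR" => Spec (CommRingCat.of R)

/-- the complex of tildes -/
noncomputable abbrev tCx : DRing.Cx R ⥤ CochainComplex (XR).Modules ℤ :=
  (tilde.functor R).mapHomologicalComplex (ComplexShape.up ℤ)

/-- `tildeD` on complexes -/
noncomputable def tildeToDIso (P : DRing.Cx R) :
    (DCoh.tildeD R).obj (DRing.toD P) ≅ DCoh.toD (XR) (tCx.obj P) :=
  (tilde.functor R).mapDerivedCategoryFactors.app P

/-- cohomology of `M~` -/
noncomputable def hdTildeIso (M : Dual.D R) (i : ℤ) :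
    DCoh.HD ((DCoh.tildeD R).obj M) i ≅ (tilde.functor R).obj ((DerivedCategory.homologyFunctor (ModuleCat.{u} R) i).obj M) :=
  let P := (DerivedCategory.Q : _ ⥤ DerivedCategory (ModuleCat.{u} R)).objPreimage M
  (DerivedCategory.homologyFunctor (XR).Modules i).mapIso
      ((DCoh.tildeD R).mapIso (DerivedCategory.Q.objObjPreimageIso M).symm ≪≫
        (tilde.functor R).mapDerivedCategoryFactors.app P) ≪≫
    (DerivedCategory.homologyFunctorFactors (XR).Modules i).app _ ≪≫
    (P.sc i).mapHomologyIso (tilde.functor R) ≪≫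
    (tilde.functor R).mapIso (((DerivedCategory.homologyFunctorFactors (ModuleCat.{u} R) i).app P).symm ≪≫
      (DerivedCategory.homologyFunctor (ModuleCat.{u} R) i).mapIso (DerivedCategory.Q.objObjPreimageIso M))

omit [PreservesFiniteLimits (tilde.functor R)] in
lemma isZero_of_tilde {N : ModuleCat.{u} R} (h : IsZero ((tilde.functor R).obj N)) : IsZero N := by
  haveI := (tilde.fullyFaithfulFunctor (R := R)).faithful
  rw [IsZero.iff_id_eq_zero]
  exact (tilde.functor R).map_injective (h.eq_of_src _ _)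

lemma flatAmplitude_tilde {M : Dual.D R} {a b : ℤ} (h : DRing.HasTorAmplitudeIn R a b M) :
    DCoh.HasFlatAmplitudeIn a b ((DCoh.tildeD R).obj M) := by
  obtain ⟨E, hE, hEf, ⟨e⟩⟩ := h
  exact ⟨tCx.obj E, fun i hi => (tilde.functor R).map_isZero (hE i hi), fun i => isFlat_tilde _ (hEf i),
    ⟨(tildeToDIso E).symm ≪≫ (DCoh.tildeD R).mapIso e⟩⟩

lemma torAmplitude_of_flatAmplitude_tilde {M : Dual.D R} {a b : ℤ}
    (h : DCoh.HasFlatAmplitudeIn a b ((DCoh.tildeD R).obj M)) : DRing.HasTorAmplitudeIn R a b M := by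
  have habove : DRingKP.IsAbove (b + 1) M := fun i hi => by
    obtain ⟨E, hE, -, ⟨e⟩⟩ := h
    exact isZero_of_tilde (((ShortComplex.isZero_homology_of_isZero_X₂ _ (hE i (Or.inr (by lia)))).of_iso
      ((KFlat.hdIso E i))).of_iso ((hdTildeIso M i).symm ≪≫
        (DerivedCategory.homologyFunctor (XR).Modules i).mapIso e.symm))
  obtain ⟨P, c, hc, hP, ⟨eP⟩⟩ := DRingKP.exists_proj_rep_le M ⟨_, habove⟩
  have hPf := DRingKP.flat_of_projective hP
  refine DRingKP.amp_iff_torVan.2 ⟨P, c, hc, hPf, ⟨eP⟩, fun N i hi => ?_⟩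
  have hK := TildeKFlat.tilde_isKFlat P (DRingKP.isKFlat_of_bounded hc hPf)
  have hv := KFlat.isZero_of_hasTorAmplitudeIn
    (KFlat.hasTorAmplitudeIn_of_torRep (KFlat.torRep_of_flatAmplitude h)) hK
    ((tildeToDIso P).symm ≪≫ (DCoh.tildeD R).mapIso eP)
  refine isZero_of_tilde (IsZero.of_iso ?_ ((((DRingKP.tR N).obj P).sc i).mapHomologyIso (tilde.functor R)).symm)
  refine KFlat.isZero_of_stalks _ fun x => ?_
  let F := ModuleCat.extendScalars.{u, u, u} (TildeKFlat.toStalkRing (R := R) x)
  have h1 := KFlat.exactAt_stalk_tensor (K := tCx.obj P) x (F.obj N) i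
    ((exactAt_iff_isZero_homology _ _).2 (hv _ i hi))
  let c' := asIso (TildeKFlat.cmp (R := R) x)
  let S := DerSch.stalkFunctor (XR) x
  let e1 : ((tensorRight (F.obj N)).mapHomologicalComplex (ComplexShape.up ℤ)).obj
        ((KFlat.stCx x).obj (tCx.obj P)) ≅
      (KFlat.stCx x).obj (tCx.obj ((DRingKP.tR N).obj P)) :=
    HomologicalComplex.Hom.isoOfComponents
      (fun n => (tensorRight (F.obj N)).mapIso (c'.app (P.X n)).symm ≪≫
        Functor.Monoidal.μIso F (P.X n) N ≪≫ c'.app (P.X n ⊗ N))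
      fun p q _ => by
        change ((c'.inv.app (P.X p) ▷ F.obj N) ≫ Functor.LaxMonoidal.μ F _ _ ≫ c'.hom.app _) ≫
            S.map ((tilde.functor R).map (P.d p q ▷ N)) =
          (S.map ((tilde.functor R).map (P.d p q)) ▷ F.obj N) ≫
            (c'.inv.app (P.X q) ▷ F.obj N) ≫ Functor.LaxMonoidal.μ F _ _ ≫ c'.hom.app _
        have hn : S.map ((tilde.functor R).map (P.d p q)) ≫ c'.inv.app (P.X q) =
            c'.inv.app (P.X p) ≫ F.map (P.d p q) := c'.inv.naturality (P.d p q)
        rw [← MonoidalCategory.comp_whiskerRight_assoc, hn, MonoidalCategory.comp_whiskerRight_assoc,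
          Functor.LaxMonoidal.μ_natural_left_assoc]
        simp only [Category.assoc]
        congr 2
        exact (c'.hom.naturality (P.d p q ▷ N)).symm
  exact ((exactAt_iff_isZero_homology _ _).1 (h1.of_iso e1)).of_iso
    (((tCx.obj ((DRingKP.tR N).obj P)).sc i).mapHomologyIso S).symm

theorem flatAmplitude_tilde_iff (M : Dual.D R) (a b : ℤ) :
    DCoh.HasFlatAmplitudeIn a b ((DCoh.tildeD R).obj M) ↔ DRing.HasTorAmplitudeIn R a b M :=
  ⟨torAmplitude_of_flatAmplitude_tilde, flatAmplitude_tilde⟩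

end Groth.Agent.DQCoh
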