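import Groth.Agent.DQCoh.BCAlg
import Groth.Agent.DRingKP.FlatBC
import Groth.Agent.DRingKP.Amp
import Groth.Agent.KFlat.StalkTot
import Groth.Agent.DQCoh.AffinePerf

/-!
# Tor amplitude over a base after base change
-/

set_option backward.isDefEq.respectTransparency false
set_option backward.isDefEq.respectTransparency.types false
set_option linter.style.haveILetI false
set_option autoImplicit false

universe u

open CategoryTheory Limits HomologicalComplex TensorProduct

attribute [local instance] HasDerivedCategory.standard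

namespace Groth.Agent.DQCoh.BCAlg

/-- base change of quasi-isomorphisms of K-flat complexes -/
lemma quasiIso_bc_kFlat {R T : Type u} [CommRing R] [CommRing T] (φ : R →+* T) {P Q : DRing.Cx R} (g : P ⟶ Q)
    [QuasiIso g] (hP : DRing.IsKFlat R P) (hQ : DRing.IsKFlat R Q) : QuasiIso ((DRingKP.bc φ).map g) := by
  have hac : ∀ (N : ModuleCat.{u} R), ((DRingKP.tR N).obj (CochainComplex.mappingCone g)).Acyclic := by
    intro N
    let F := (HomologicalComplex.single _ (ComplexShape.up ℤ) 0).obj N
    have h : (((KFlat.tens (DRingKP.tB R)).obj F).obj (CochainComplex.mappingCone g)).Acyclic := by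
      refine KFlat.acyclic_tens_of_acyclic_rflat (DRingKP.tBraid R) (fun G => ?_)
        (KFlat.rflat_mappingCone g ((DRingKP.rflat_iff P).2 hP) ((DRingKP.rflat_iff Q).2 hQ))
        (KFlat.mappingCone_acyclic g) F
      obtain ⟨K, q, h1, -, h3, -⟩ := DRingKP.exists_kFlat_resolution G
      exact ⟨K, q, (DRingKP.rflat_iff K).2 h1, h3⟩
    exact KFlat.acyclic_of_iso (DRingKP.tensSingleIso _ N)
      (KFlat.acyclic_of_iso (KFlat.swapIso (DRingKP.tBraid R) F _) h)
  refine KFlat.quasiIso_of_acyclic_mappingCone _ (KFlat.acyclic_of_iso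
    (CochainComplex.mappingCone.mapHomologicalComplexIso g (ModuleCat.extendScalars.{u, u, u} φ)) fun i => ?_)
  have h := KFlat.acyclic_of_iso (DRingKP.bcRestrictIso φ (CochainComplex.mappingCone g)).symm (hac _) i
  rw [HomologicalComplex.exactAt_iff] at h ⊢
  exact (ShortComplex.exact_map_iff_of_faithful _ (ModuleCat.restrictScalars.{u} φ)).1 h

variable {A S A' C : Type u} [CommRing A] [CommRing S] [CommRing A'] [CommRing C]
  [Algebra A S] [Algebra A A'] [Algebra A C] [Algebra S C] [Algebra A' C]
  [IsScalarTower A S C] [IsScalarTower A A' C]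

/-- forgetting down to the base -/
noncomputable abbrev resB : ModuleCat.{u} S ⥤ ModuleCat.{u} A := ModuleCat.restrictScalars.{u} (algebraMap A S)

/-- base change, then forgetting down to the new base -/
noncomputable abbrev bcRes : ModuleCat.{u} S ⥤ ModuleCat.{u} A' :=
  ModuleCat.extendScalars.{u, u, u} (algebraMap S C) ⋙ ModuleCat.restrictScalars.{u} (algebraMap A' C)

/-- `C ⊗ M` over the new base -/
noncomputable def bcResEquiv (M : ModuleCat.{u} S) :
    (bcRes (A' := A') (C := C)).obj M ≃ₗ[A'] C ⊗[S] M :=
  let e := (DRingKP.extendTensorIso (B := C) (A := S) M).toLinearEquiv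
  { e.toAddEquiv with
    map_smul' := fun r x => by
      rw [RingHom.id_apply]
      exact (e.map_smul (algebraMap A' C r) x).trans (algebraMap_smul C r _) }

lemma bcResEquiv_natural {M N : ModuleCat.{u} S} (g : M ⟶ N) (z : (bcRes (A' := A') (C := C)).obj M) :
    bcResEquiv (A' := A') (C := C) N (((bcRes (A' := A') (C := C)).map g).hom z) =
      ((AlgebraTensorModule.lTensor C C g.hom).restrictScalars A') (bcResEquiv M z) := by
  induction z using TensorProduct.induction_on with
  | zero => exact ((congrArg _ (map_zero _)).trans (map_zero _)).trans ((congrArg _ (map_zero _)).trans (map_zero _)).symm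
  | add a b ha hb =>
    exact ((congrArg _ (map_add _ a b)).trans (map_add _ _ _)).trans
      ((congrArg₂ (· + ·) ha hb).trans ((congrArg _ (map_add _ a b)).trans (map_add _ _ _)).symm)
  | tmul c m => rfl

variable (hφ : (cmpHom A S A' C).Flat)

include hφ in
/-- terms stay flat -/
theorem flat_bcRes (M : ModuleCat.{u} S) (hM : Module.Flat A ((resB (A := A)).obj M)) :
    Module.Flat A' ((bcRes (A' := A') (C := C)).obj M) := by
  letI : Module A M := Module.compHom M (algebraMap A S)
  haveI : IsScalarTower A S M := IsScalarTower.of_algebraMap_smul fun _ _ => rfl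
  haveI : Module.Flat A M := hM
  haveI := flat_baseChange hφ M
  exact Module.Flat.of_linearEquiv (bcResEquiv M)

include hφ in
/-- exactness of `(C ⊗ P) ⊗ Q` from that of `P ⊗ Q` over the base -/
theorem exactAt_bcRes {P : CochainComplex (ModuleCat.{u} S) ℤ} (Q : ModuleCat.{u} A') (i : ℤ)
    (h : ((DRingKP.tR ((ModuleCat.restrictScalars.{u} (algebraMap A A')).obj Q)).obj
      (((resB (A := A)).mapHomologicalComplex (ComplexShape.up ℤ)).obj P)).ExactAt i) :
    ((DRingKP.tR Q).obj (((bcRes (A' := A') (C := C)).mapHomologicalComplex (ComplexShape.up ℤ)).obj P)).ExactAt i := by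
  letI : Module A Q := Module.compHom Q (algebraMap A A')
  haveI : IsScalarTower A A' Q := IsScalarTower.of_algebraMap_smul fun _ _ => rfl
  letI : ∀ n, Module A (P.X n) := fun n => Module.compHom (P.X n) (algebraMap A S)
  haveI : ∀ n, IsScalarTower A S (P.X n) := fun n => IsScalarTower.of_algebraMap_smul fun _ _ => rfl
  rw [exactAt_iff' _ (i - 1) i (i + 1) (by simp) (by simp), ShortComplex.moduleCat_exact_iff_range_eq_ker] at h ⊢
  have h1 : Function.Exact (((P.d (i - 1) i).hom.restrictScalars A).rTensor Q)
      (((P.d i (i + 1)).hom.restrictScalars A).rTensor Q) := LinearMap.exact_iff.2 h.symm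
  rw [LinearMap.rTensor_exact_iff_lTensor_exact] at h1
  have h2 := exact_baseChange hφ _ _ Q h1
  refine (LinearMap.exact_iff.1 ?_).symm
  let e := fun n => LinearEquiv.rTensor Q (bcResEquiv (A' := A') (C := C) (P.X n))
  have nat : ∀ n m (z : (bcRes (A' := A') (C := C)).obj (P.X n) ⊗[A'] Q),
      e m ((((bcRes (A' := A') (C := C)).map (P.d n m)).hom).rTensor Q z) =
        ((AlgebraTensorModule.lTensor C C (P.d n m).hom).restrictScalars A').rTensor Q (e n z) := by
    intro n m z
    induction z using TensorProduct.induction_on with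
    | zero => simp only [map_zero]
    | add a b ha hb => simp only [map_add, ha, hb]
    | tmul a q => exact congrArg (· ⊗ₜ[A'] q) (bcResEquiv_natural (P.d n m) a)
  exact (Function.Exact.iff_of_ladder_linearEquiv (e₁ := e (i - 1)) (e₂ := e i) (e₃ := e (i + 1))
    (LinearMap.ext fun z => (nat _ _ z).symm) (LinearMap.ext fun z => (nat _ _ z).symm)).1 h2

include hφ in
/-- **Tor amplitude relative to the base survives base change** -/
theorem amp_bcRes [Module.Flat A S] {F : DRing.Cx S} (hF : DRing.IsKFlat S F) {a b : ℤ}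
    (h : DRing.HasTorAmplitudeIn A a b ((resB (A := A) (S := S)).mapDerivedCategory.obj (DRing.toD F))) :
    DRing.HasTorAmplitudeIn A' a b
      (DRing.toD (((bcRes (A' := A') (C := C)).mapHomologicalComplex (ComplexShape.up ℤ)).obj F)) := by
  have hab := DRingKP.torVan_isAbove h
  haveI : F.IsLE b := (CochainComplex.isLE_iff F b).2 fun i hi => by
    rw [exactAt_iff_isZero_homology]
    have h1 := (hab i (by lia)).of_iso (((homologyDerIso (resB (A := A) (S := S)) i).app (DRing.toD F)).symm)
    have : Subsingleton ((resB (A := A) (S := S)).obj ((DerivedCategory.homologyFunctor _ i).obj (DRing.toD F))) :=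
      ModuleCat.subsingleton_of_isZero h1
    exact (@ModuleCat.isZero_of_subsingleton S _ ((DerivedCategory.homologyFunctor _ i).obj (DRing.toD F)) this).of_iso
      ((DerivedCategory.homologyFunctorFactors _ i).app F).symm
  obtain ⟨P, c, hPb, hP, ⟨eP⟩⟩ := DRingKP.exists_proj_rep_le (DRing.toD F)
    ⟨b + 1, fun i hi => DerivedCategory.isZero_of_isLE _ b i (by lia)⟩
  haveI := DRingKP.isKProjective_of_vanishesAbove hPb hP
  obtain ⟨g, hg⟩ := PerfLocal.exists_lift eP.hom
  haveI : IsIso (DerivedCategory.Q.map g) := by rw [hg]; infer_instance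
  haveI : QuasiIso g := (DerivedCategory.isIso_Q_map_iff_quasiIso _ g).1 inferInstance
  have hPf := DRingKP.flat_of_projective hP
  have hPA : ∀ n, Module.Flat A ((resB (A := A) (S := S)).obj (P.X n)) := fun n => by
    letI : Module A (P.X n) := Module.compHom (P.X n) (algebraMap A S)
    haveI : IsScalarTower A S (P.X n) := IsScalarTower.of_algebraMap_smul fun _ _ => rfl
    haveI : Module.Flat S (P.X n) := hPf n
    exact Module.Flat.trans A S (P.X n)
  let RA := ((resB (A := A) (S := S)).mapHomologicalComplex (ComplexShape.up ℤ)).obj P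
  have hRAb : DRing.VanishesAbove RA c := fun i hi => (resB (A := A) (S := S)).map_isZero (hPb i hi)
  have hv : DRingKP.Van a b RA := DRingKP.torVan_rep (DRingKP.torVan_of_amp h) hRAb hPA
    (((resB (A := A) (S := S)).mapDerivedCategoryFactors.app P).symm ≪≫
      (resB (A := A) (S := S)).mapDerivedCategory.mapIso eP)
  let RP := ((bcRes (A' := A') (C := C)).mapHomologicalComplex (ComplexShape.up ℤ)).obj P
  have hQ : QuasiIso ((DRingKP.bc (algebraMap S C)).map g) := quasiIso_bc_kFlat _ g
    (DRingKP.isKFlat_of_bounded hPb hPf) hF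
  haveI : QuasiIso (((bcRes (A' := A') (C := C)).mapHomologicalComplex (ComplexShape.up ℤ)).map g) :=
    inferInstanceAs (QuasiIso (((ModuleCat.restrictScalars.{u} (algebraMap A' C)).mapHomologicalComplex
      (ComplexShape.up ℤ)).map ((DRingKP.bc (algebraMap S C)).map g)))
  refine DRingKP.amp_iff_torVan.2 ⟨RP, c, fun i hi => (bcRes (A' := A') (C := C)).map_isZero (hPb i hi),
    fun i => flat_bcRes hφ _ (hPA i), ⟨asIso (DerivedCategory.Q.map
      (((bcRes (A' := A') (C := C)).mapHomologicalComplex (ComplexShape.up ℤ)).map g))⟩, fun Q i hi => ?_⟩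
  rw [← exactAt_iff_isZero_homology]
  exact exactAt_bcRes hφ Q i ((exactAt_iff_isZero_homology _ _).2 (hv _ i hi))

end Groth.Agent.DQCoh.BCAlg
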