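import Mathlib.RingTheory.Flat.Basic
import Mathlib.RingTheory.Flat.Stability
import Mathlib.RingTheory.IsTensorProduct
import Mathlib.RingTheory.RingHom.Flat

/-!
# Base change of relative flatness through an algebra flat over a tensor product

`S` is an `R`-algebra, `R'` another one, and `C` receives both compatibly, with `C` flat over `S ⊗ R'`.
-/

set_option autoImplicit false
set_option linter.style.haveILetI false

universe u

open TensorProduct

namespace Groth.Agent.DQCoh.BCAlg

section Loc

variable {T B C : Type u} [CommRing T] [CommRing B] [CommRing C] [Algebra T B] [Algebra B C] [Algebra T C]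
  [IsScalarTower T B C]

/-- a flat algebra preserves flatness over a ring mapping to the base -/
lemma flat_tensor_of_flat [Module.Flat B C] (M : Type u) [AddCommGroup M] [Module B M] [Module T M]
    [IsScalarTower T B M] [Module.Flat T M] : Module.Flat T (C ⊗[B] M) := by
  rw [Module.Flat.iff_lTensor_preserves_injective_linearMap]
  intro N N' _ _ _ _ f hf
  let g : M ⊗[T] N →ₗ[B] M ⊗[T] N' := AlgebraTensorModule.lTensor B M f
  have hg : Function.Injective g := Module.Flat.lTensor_preserves_injective_linearMap (M := M) f hf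
  have h : Function.Injective (g.lTensor C) := Module.Flat.lTensor_preserves_injective_linearMap (M := C) g hg
  let e := AlgebraTensorModule.assoc T B B C M N
  let e' := AlgebraTensorModule.assoc T B B C M N'
  have key : ∀ z, f.lTensor (C ⊗[B] M) z = e'.symm (g.lTensor C (e z)) := by
    intro z
    induction z using TensorProduct.induction_on with
    | zero => simp only [map_zero]
    | add a b ha hb => simp only [map_add, ha, hb]
    | tmul cm n =>
      induction cm using TensorProduct.induction_on with
      | zero => simp only [TensorProduct.zero_tmul, map_zero]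
      | add a b ha hb => simp only [TensorProduct.add_tmul, map_add, ha, hb]
      | tmul c m => rfl
  intro a b hab
  rw [key, key] at hab
  exact e.injective (h (e'.symm.injective hab))

end Loc

variable {R S R' C : Type u} [CommRing R] [CommRing S] [CommRing R'] [CommRing C]
  [Algebra R S] [Algebra R R'] [Algebra R C] [Algebra S C] [Algebra R' C]
  [IsScalarTower R S C] [IsScalarTower R R' C]

attribute [local instance] Algebra.TensorProduct.rightAlgebra

variable (R S R' C) in
/-- the comparison `S ⊗ R' → C` -/
noncomputable def cmpHom : S ⊗[R] R' →+* C :=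
  (Algebra.TensorProduct.lift (Algebra.ofId S C) ((Algebra.ofId R' C).restrictScalars R)
    fun _ _ => Commute.all _ _).toRingHom

lemma cmpHom_tmul (s : S) (r : R') : cmpHom R S R' C (s ⊗ₜ r) = algebraMap S C s * algebraMap R' C r := rfl

variable (h : (cmpHom R S R' C).Flat)

include h in
/-- **base change of modules flat over the base** -/
theorem flat_baseChange (M : Type u) [AddCommGroup M] [Module S M] [Module R M] [IsScalarTower R S M]
    [Module.Flat R M] : Module.Flat R' (C ⊗[S] M) := by
  letI : Algebra (S ⊗[R] R') C := (cmpHom R S R' C).toAlgebra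
  haveI : IsScalarTower S (S ⊗[R] R') C := IsScalarTower.of_algebraMap_eq fun s => by
    change _ = cmpHom R S R' C (s ⊗ₜ 1)
    rw [cmpHom_tmul, map_one, mul_one]
  haveI : IsScalarTower R' (S ⊗[R] R') C := IsScalarTower.of_algebraMap_eq fun r => by
    change _ = cmpHom R S R' C (1 ⊗ₜ r)
    rw [cmpHom_tmul, map_one, one_mul]
  haveI : Module.Flat (S ⊗[R] R') C := h
  haveI : Module.Flat R' ((S ⊗[R] R') ⊗[S] M) :=
    Module.Flat.of_linearEquiv (Algebra.IsPushout.cancelBaseChange R R' S (S ⊗[R] R') M)
  haveI := flat_tensor_of_flat (T := R') (B := S ⊗[R] R') (C := C) ((S ⊗[R] R') ⊗[S] M)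
  exact Module.Flat.of_linearEquiv
    ((AlgebraTensorModule.cancelBaseChange S (S ⊗[R] R') C C M).symm.restrictScalars R')

include h in
/-- **exactness after base change and tensoring is tested over the base** -/
theorem exact_baseChange {M N P : Type u} [AddCommGroup M] [AddCommGroup N] [AddCommGroup P]
    [Module S M] [Module S N] [Module S P] [Module R M] [Module R N] [Module R P]
    [IsScalarTower R S M] [IsScalarTower R S N] [IsScalarTower R S P] (f : M →ₗ[S] N) (g : N →ₗ[S] P)
    (Q : Type u) [AddCommGroup Q] [Module R Q] [Module R' Q] [IsScalarTower R R' Q]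
    (hex : Function.Exact ((f.restrictScalars R).lTensor Q) ((g.restrictScalars R).lTensor Q)) :
    Function.Exact (((AlgebraTensorModule.lTensor C C f).restrictScalars R').rTensor Q)
      (((AlgebraTensorModule.lTensor C C g).restrictScalars R').rTensor Q) := by
  letI : Algebra (S ⊗[R] R') C := (cmpHom R S R' C).toAlgebra
  haveI : IsScalarTower S (S ⊗[R] R') C := IsScalarTower.of_algebraMap_eq fun s => by
    change _ = cmpHom R S R' C (s ⊗ₜ 1)
    rw [cmpHom_tmul, map_one, mul_one]
  haveI : IsScalarTower R' (S ⊗[R] R') C := IsScalarTower.of_algebraMap_eq fun r => by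
    change _ = cmpHom R S R' C (1 ⊗ₜ r)
    rw [cmpHom_tmul, map_one, one_mul]
  haveI : Module.Flat (S ⊗[R] R') C := h
  let E (V : Type u) [AddCommGroup V] [Module S V] [Module R V] [IsScalarTower R S V] :
      ((S ⊗[R] R') ⊗[S] V) ⊗[R'] Q ≃ₗ[R'] Q ⊗[R] V :=
    (TensorProduct.comm R' _ Q).trans
      ((LinearEquiv.lTensor Q (Algebra.IsPushout.cancelBaseChange R R' S (S ⊗[R] R') V)).trans
        (AlgebraTensorModule.cancelBaseChange R R' R' Q V))
  have nat : ∀ {V W : Type u} [AddCommGroup V] [AddCommGroup W] [Module S V] [Module S W] [Module R V]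
      [Module R W] [IsScalarTower R S V] [IsScalarTower R S W] (k : V →ₗ[S] W) (z : Q ⊗[R] V),
      (AlgebraTensorModule.map (A := S ⊗[R] R') (AlgebraTensorModule.lTensor (S ⊗[R] R') (S ⊗[R] R') k)
        (LinearMap.id : Q →ₗ[R'] Q)) ((E V).symm z) = (E W).symm ((k.restrictScalars R).lTensor Q z) := by
    intro V W _ _ _ _ _ _ _ _ k z
    induction z using TensorProduct.induction_on with
    | zero => simp only [map_zero]
    | add a b ha hb => simp only [map_add, ha, hb]
    | tmul q v =>
      simp only [E, LinearMap.lTensor_tmul, LinearEquiv.trans_symm, LinearEquiv.trans_apply,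
        AlgebraTensorModule.cancelBaseChange_symm_tmul, TensorProduct.comm_symm_tmul]
      rfl
  let f₁ := AlgebraTensorModule.map (A := S ⊗[R] R') (AlgebraTensorModule.lTensor (S ⊗[R] R') (S ⊗[R] R') f)
    (LinearMap.id : Q →ₗ[R'] Q)
  let g₁ := AlgebraTensorModule.map (A := S ⊗[R] R') (AlgebraTensorModule.lTensor (S ⊗[R] R') (S ⊗[R] R') g)
    (LinearMap.id : Q →ₗ[R'] Q)
  have h1 : Function.Exact f₁ g₁ := by
    intro y
    obtain ⟨z, rfl⟩ := (E N).symm.surjective y
    rw [show g₁ ((E N).symm z) = (E P).symm ((g.restrictScalars R).lTensor Q z) from nat g z,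
      LinearEquiv.map_eq_zero_iff, hex z]
    constructor
    · rintro ⟨w, rfl⟩
      exact ⟨(E M).symm w, nat f w⟩
    · rintro ⟨w, hw⟩
      obtain ⟨w, rfl⟩ := (E M).symm.surjective w
      exact ⟨w, (E N).symm.injective ((nat f w).symm.trans hw)⟩
  have h2 : Function.Exact (f₁.lTensor C) (g₁.lTensor C) :=
    Module.Flat.lTensor_exact (R := S ⊗[R] R') C (N := ((S ⊗[R] R') ⊗[S] M) ⊗[R'] Q)
      (N' := ((S ⊗[R] R') ⊗[S] N) ⊗[R'] Q) (N'' := ((S ⊗[R] R') ⊗[S] P) ⊗[R'] Q) h1
  let e (V : Type u) [AddCommGroup V] [Module S V] :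
      C ⊗[S ⊗[R] R'] (((S ⊗[R] R') ⊗[S] V) ⊗[R'] Q) ≃ₗ[R'] (C ⊗[S] V) ⊗[R'] Q :=
    ((AlgebraTensorModule.assoc R' (S ⊗[R] R') C C ((S ⊗[R] R') ⊗[S] V) Q).symm.restrictScalars R').trans
      (LinearEquiv.rTensor Q ((AlgebraTensorModule.cancelBaseChange S (S ⊗[R] R') C C V).restrictScalars R'))
  have nat' : ∀ {V W : Type u} [AddCommGroup V] [AddCommGroup W] [Module S V] [Module S W] (k : V →ₗ[S] W)
      (z : C ⊗[S ⊗[R] R'] (((S ⊗[R] R') ⊗[S] V) ⊗[R'] Q)),
      e W ((AlgebraTensorModule.map (A := S ⊗[R] R') (AlgebraTensorModule.lTensor (S ⊗[R] R') (S ⊗[R] R') k)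
        (LinearMap.id : Q →ₗ[R'] Q)).lTensor C z) = ((AlgebraTensorModule.lTensor C C k).restrictScalars R').rTensor Q (e V z) := by
    intro V W _ _ _ _ k z
    induction z using TensorProduct.induction_on with
    | zero => simp only [map_zero]
    | add a b ha hb => simp only [map_add, ha, hb]
    | tmul c y =>
      induction y using TensorProduct.induction_on with
      | zero => simp only [map_zero, TensorProduct.tmul_zero]
      | add a b ha hb => simp only [map_add, TensorProduct.tmul_add, ha, hb]
      | tmul bv q =>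
        induction bv using TensorProduct.induction_on with
        | zero => simp only [map_zero, TensorProduct.zero_tmul, TensorProduct.tmul_zero]
        | add a b ha hb => simp only [map_add, TensorProduct.tmul_add, TensorProduct.add_tmul, ha, hb]
        | tmul b v => rfl
  intro y
  obtain ⟨z, rfl⟩ := (e N).surjective y
  rw [← nat' g z, LinearEquiv.map_eq_zero_iff, h2 z]
  constructor
  · rintro ⟨w, rfl⟩
    exact ⟨e M w, (nat' f w).symm⟩
  · rintro ⟨w, hw⟩
    obtain ⟨w, rfl⟩ := (e M).surjective w
    exact ⟨w, (e N).injective ((nat' f w).trans hw)⟩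

end Groth.Agent.DQCoh.BCAlg
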