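import Groth.Agent.DQCoh.BCAlg
import Mathlib.AlgebraicGeometry.Morphisms.Flat
import Mathlib.AlgebraicGeometry.Pullbacks
import Mathlib.AlgebraicGeometry.Stalk

/-!
# Local rings of a fibre product
-/

set_option backward.isDefEq.respectTransparency false
set_option backward.isDefEq.respectTransparency.types false
set_option linter.style.haveILetI false
set_option autoImplicit false

universe u

open CategoryTheory Limits AlgebraicGeometry TensorProduct

namespace Groth.Agent.DQCoh.BCStalk

theorem flat_fromSpecStalk {X : Scheme.{u}} (x : X) : Flat (X.fromSpecStalk x) := by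
  obtain ⟨U, hU, hxU, -⟩ := exists_isAffineOpen_mem_and_subset (X := X) (x := x) (U := ⊤) trivial
  rw [← IsAffineOpen.fromSpecStalk_eq_fromSpecStalk hU hxU, IsAffineOpen.fromSpecStalk]
  have : Flat (Spec.map (X.presheaf.germ U x hxU)) := by
    rw [Flat.SpecMap_iff, RingHom.Flat]
    let := TopCat.Presheaf.algebra_section_stalk X.presheaf (⟨x, hxU⟩ : U)
    have := hU.isLocalization_stalk ⟨x, hxU⟩
    exact IsLocalization.flat (X.presheaf.stalk x) (hU.primeIdealOf ⟨x, hxU⟩).asIdeal.primeCompl
  infer_instance

/-- a factorisation through a monomorphism inherits flatness -/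
lemma flat_of_comp_mono {A B Z : Scheme.{u}} (k : A ⟶ B) (h : B ⟶ Z) [Mono h] [Flat (k ≫ h)] : Flat k := by
  let s : A ⟶ pullback (k ≫ h) h := pullback.lift (𝟙 A) k (Category.id_comp _)
  haveI : IsIso s := ⟨pullback.fst _ _, by simp [s], by
    rw [← cancel_mono (pullback.fst (k ≫ h) h)]
    simp [s]⟩
  have : k = s ≫ pullback.snd (k ≫ h) h := by simp [s]
  rw [this]
  infer_instance

variable {X S S' : Scheme.{u}} (f : X ⟶ S) (g : S' ⟶ S) (z : ↑(pullback f g))

/-- the point of `S'` maps to the image of the point of `X` -/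
lemma base_eq : g.base ((pullback.snd f g).base z) = f.base ((pullback.fst f g).base z) := by
  rw [← Scheme.Hom.comp_apply, ← Scheme.Hom.comp_apply, pullback.condition]

/-- `O_{S,s} → O_{S',s'}` -/
noncomputable def baseMap :
    S.presheaf.stalk (f.base ((pullback.fst f g).base z)) ⟶
      S'.presheaf.stalk ((pullback.snd f g).base z) :=
  S.presheaf.stalkSpecializes (specializes_of_eq (base_eq f g z)) ≫ g.stalkMap _

lemma specMap_baseMap :
    Spec.map (baseMap f g z) ≫ S.fromSpecStalk (f.base ((pullback.fst f g).base z)) =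
      S'.fromSpecStalk ((pullback.snd f g).base z) ≫ g := by
  rw [baseMap, Spec.map_comp, Category.assoc, Scheme.SpecMap_stalkSpecializes_fromSpecStalk,
    Scheme.SpecMap_stalkMap_fromSpecStalk]

lemma comm :
    f.stalkMap ((pullback.fst f g).base z) ≫ (pullback.fst f g).stalkMap z =
      baseMap f g z ≫ (pullback.snd f g).stalkMap z := by
  apply Spec.map_injective
  rw [← cancel_mono (S.fromSpecStalk _), Spec.map_comp, Spec.map_comp, Category.assoc, Category.assoc,
    Scheme.SpecMap_stalkMap_fromSpecStalk, specMap_baseMap, Scheme.SpecMap_stalkMap_fromSpecStalk_assoc,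
    Scheme.SpecMap_stalkMap_fromSpecStalk_assoc, pullback.condition]

/-- the abstract form: a ring under both, whose spectrum maps flatly to the fibre product -/
lemma flat_cmpHom_of_mono {A Rx R' C : Type u} [CommRing A] [CommRing Rx] [CommRing R'] [CommRing C]
    [Algebra A Rx] [Algebra A R'] [Algebra A C] [Algebra Rx C] [Algebra R' C] [IsScalarTower A Rx C]
    [IsScalarTower A R' C] (iX : Spec (CommRingCat.of Rx) ⟶ X) (iS' : Spec (CommRingCat.of R') ⟶ S')
    [Mono iX] [Mono iS'] (iC : Spec (CommRingCat.of C) ⟶ pullback f g) [Flat iC]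
    (w : pullback.fst (Spec.map (CommRingCat.ofHom (algebraMap A Rx))) (Spec.map (CommRingCat.ofHom (algebraMap A R'))) ≫
      iX ≫ f = pullback.snd _ _ ≫ iS' ≫ g)
    (h₁ : Spec.map (CommRingCat.ofHom (algebraMap Rx C)) ≫ iX = iC ≫ pullback.fst f g)
    (h₂ : Spec.map (CommRingCat.ofHom (algebraMap R' C)) ≫ iS' = iC ≫ pullback.snd f g) :
    (BCAlg.cmpHom A Rx R' C).Flat := by
  let φ : CommRingCat.of (Rx ⊗[A] R') ⟶ CommRingCat.of C := CommRingCat.ofHom (BCAlg.cmpHom A Rx R' C)
  suffices Flat (Spec.map φ) from (Flat.SpecMap_iff).1 this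
  let e := pullbackSpecIso A Rx R'
  let k : Spec (CommRingCat.of C) ⟶ _ := Spec.map φ ≫ e.inv
  suffices Flat k by
    have h2 : Spec.map φ = k ≫ e.hom := by simp [k]
    rw [h2]; infer_instance
  let hh := pullback.lift (f := f) (g := g)
    (pullback.fst (Spec.map (CommRingCat.ofHom (algebraMap A Rx))) (Spec.map (CommRingCat.ofHom (algebraMap A R'))) ≫ iX)
    (pullback.snd _ _ ≫ iS') (by rw [Category.assoc, Category.assoc]; exact w)
  haveI : Mono hh := ⟨fun a b hab => by
    apply pullback.hom_ext
    · have h1 := congrArg (· ≫ pullback.fst f g) hab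
      simp only [hh, Category.assoc, pullback.lift_fst] at h1
      rwa [← Category.assoc, ← Category.assoc, cancel_mono] at h1
    · have h1 := congrArg (· ≫ pullback.snd f g) hab
      simp only [hh, Category.assoc, pullback.lift_snd] at h1
      rwa [← Category.assoc, ← Category.assoc, cancel_mono] at h1⟩
  have hk : k ≫ hh = iC := by
    apply pullback.hom_ext
    · simp only [k, e, hh, Category.assoc, pullback.lift_fst]
      rw [pullbackSpecIso_inv_fst_assoc, ← Spec.map_comp_assoc, ← h₁]
      congr 2
      ext r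
      exact (BCAlg.cmpHom_tmul (R := A) (S := Rx) (R' := R') (C := C) r 1).trans (by rw [map_one, mul_one]; rfl)
    · simp only [k, e, hh, Category.assoc, pullback.lift_snd]
      rw [pullbackSpecIso_inv_snd_assoc, ← Spec.map_comp_assoc, ← h₂]
      congr 2
      ext r
      exact (BCAlg.cmpHom_tmul (R := A) (S := Rx) (R' := R') (C := C) 1 r).trans (by rw [map_one, one_mul]; rfl)
  haveI : Flat (k ≫ hh) := by rw [hk]; infer_instance
  exact flat_of_comp_mono k hh

/-- **the local ring of a point of `X ×_S S'` is flat over `O_x ⊗_{O_s} O_{s'}`** -/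
theorem flat_cmpHom :
    letI := (f.stalkMap ((pullback.fst f g).base z)).hom.toAlgebra
    letI := (baseMap f g z).hom.toAlgebra
    letI := ((pullback.fst f g).stalkMap z).hom.toAlgebra
    letI := ((pullback.snd f g).stalkMap z).hom.toAlgebra
    letI := (f.stalkMap ((pullback.fst f g).base z) ≫ (pullback.fst f g).stalkMap z).hom.toAlgebra
    haveI : IsScalarTower (S.presheaf.stalk (f.base ((pullback.fst f g).base z)))
      (X.presheaf.stalk ((pullback.fst f g).base z)) ((pullback f g).presheaf.stalk z) :=
      IsScalarTower.of_algebraMap_eq fun _ => rfl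
    haveI : IsScalarTower (S.presheaf.stalk (f.base ((pullback.fst f g).base z)))
      (S'.presheaf.stalk ((pullback.snd f g).base z)) ((pullback f g).presheaf.stalk z) :=
      IsScalarTower.of_algebraMap_eq fun a => congr(($(comm f g z)).hom a)
    (BCAlg.cmpHom (S.presheaf.stalk (f.base ((pullback.fst f g).base z)))
      (X.presheaf.stalk ((pullback.fst f g).base z)) (S'.presheaf.stalk ((pullback.snd f g).base z))
      ((pullback f g).presheaf.stalk z)).Flat := by
  let x := (pullback.fst f g).base z
  let s' := (pullback.snd f g).base z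
  let A := S.presheaf.stalk (f.base x)
  let Rx := X.presheaf.stalk x
  let R' := S'.presheaf.stalk s'
  let C := (pullback f g).presheaf.stalk z
  letI : Algebra A Rx := (f.stalkMap x).hom.toAlgebra
  letI : Algebra A R' := (baseMap f g z).hom.toAlgebra
  letI : Algebra Rx C := ((pullback.fst f g).stalkMap z).hom.toAlgebra
  letI : Algebra R' C := ((pullback.snd f g).stalkMap z).hom.toAlgebra
  letI : Algebra A C := (f.stalkMap x ≫ (pullback.fst f g).stalkMap z).hom.toAlgebra
  haveI : IsScalarTower A Rx C := IsScalarTower.of_algebraMap_eq fun _ => rfl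
  haveI : IsScalarTower A R' C := IsScalarTower.of_algebraMap_eq fun a => congr(($(comm f g z)).hom a)
  haveI := flat_fromSpecStalk z
  refine flat_cmpHom_of_mono (X := X) (S' := S') f g (A := A) (Rx := Rx) (R' := R') (C := C)
    (X.fromSpecStalk x) (S'.fromSpecStalk s') ((pullback f g).fromSpecStalk z) ?_
    (Scheme.SpecMap_stalkMap_fromSpecStalk _) (Scheme.SpecMap_stalkMap_fromSpecStalk _)
  rw [← Scheme.SpecMap_stalkMap_fromSpecStalk, ← specMap_baseMap]
  rw [← Category.assoc, ← Category.assoc]
  exact congrArg (fun t => t ≫ S.fromSpecStalk (f.base x)) pullback.condition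

end Groth.Agent.DQCoh.BCStalk
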