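import Groth.Agent.DQCoh.RelPerf
import Groth.Agent.DQCoh.Tensor
import Groth.Agent.DQCoh.TensorUnit
import Groth.Prelude.Def_DCoh4

/-!
# Tensor products of perfect and `S`-perfect objects
-/

set_option backward.isDefEq.respectTransparency false
set_option backward.isDefEq.respectTransparency.types false
set_option linter.style.haveILetI false
set_option autoImplicit false

universe u

open CategoryTheory Limits AlgebraicGeometry HomologicalComplex Pretriangulated ZeroObject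
open Groth.Agent.KFlat (tens schB)

attribute [local instance] HasDerivedCategory.standard

namespace Groth.Agent.DQCoh

variable {X S : Scheme.{u}} (f : X ⟶ S) [Flat f] (M : CochainComplex X.Modules ℤ)

/-- `M ⊗ E` is `S`-perfect -/
def TP (E : CochainComplex X.Modules ℤ) : Prop :=
  SPerf f (DerivedCategory.Q.obj ((cxDatum M).Φ.obj E))

/-- `M ⊗ F[-a]` is `S`-perfect for all `a` -/
def TPMod (F : X.Modules) : Prop :=
  ∀ a : ℤ, TP f M ((HomologicalComplex.single X.Modules (ComplexShape.up ℤ) a).obj F)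

variable {f} {M}

lemma tp_of_iso {E E' : CochainComplex X.Modules ℤ} (e : E ≅ E') (h : TP f M E) : TP f M E' :=
  sPerf_of_iso (DerivedCategory.Q.mapIso ((cxDatum M).Φ.mapIso e)) h

lemma tp_of_isZero {E : CochainComplex X.Modules ℤ} (h : IsZero E) : TP f M E :=
  sPerf_of_iso ((isZero_zero _).iso ((DerivedCategory.Q).map_isZero ((cxDatum M).Φ.map_isZero h)))
    (sPerf_of_perfect f perfect_zero)

lemma tp_shift {E : CochainComplex X.Modules ℤ} (h : TP f M E) (n : ℤ) : TP f M (E⟦n⟧) := by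
  obtain ⟨e⟩ := (cxDatum M).shift E n
  exact sPerf_of_iso (((DerivedCategory.Q.commShiftIso n).app _).symm ≪≫ (DerivedCategory.Q.mapIso e).symm)
    (sPerf_shift h n)

lemma tp_of_split (Sq : ShortComplex (CochainComplex X.Modules ℤ))
    (σ : ∀ n, (Sq.map (eval X.Modules (ComplexShape.up ℤ) n)).Splitting) (h₁ : TP f M Sq.X₁)
    (h₃ : TP f M Sq.X₃) : TP f M Sq.X₂ :=
  sPerf_obj₂ _ (DerivedCategory.triangleOfSES_distinguished ((cxDatum M).shortExact Sq σ)) h₁ h₃

lemma tpMod_of_iso {F F' : X.Modules} (e : F ≅ F') (h : TPMod f M F) : TPMod f M F' := fun a =>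
  tp_of_iso ((HomologicalComplex.single X.Modules (ComplexShape.up ℤ) a).mapIso e) (h a)

lemma tpMod_of_isZero {F : X.Modules} (h : IsZero F) : TPMod f M F := fun a =>
  tp_of_isZero ((HomologicalComplex.single X.Modules (ComplexShape.up ℤ) a).map_isZero h)

lemma tpMod_biprod {F F' : X.Modules} (h : TPMod f M F) (h' : TPMod f M F') : TPMod f M (F ⊞ F') := fun a =>
  tp_of_split ((ShortComplex.mk (biprod.inl : F ⟶ F ⊞ F') biprod.snd biprod.inl_snd).map
      (HomologicalComplex.single X.Modules (ComplexShape.up ℤ) a))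
    (fun n => (ShortComplex.Splitting.ofHasBinaryBiproduct F F').map
      (HomologicalComplex.single X.Modules (ComplexShape.up ℤ) a ⋙ eval X.Modules (ComplexShape.up ℤ) n))
    (h a) (h' a)

lemma tpMod_unit (hM : SPerf f (DCoh.toD X M)) : TPMod f M (Coh.structureModule X) := fun a => by
  have h0 : TP f M ((HomologicalComplex.single X.Modules (ComplexShape.up ℤ) 0).obj (Coh.structureModule X)) :=
    sPerf_of_iso (DerivedCategory.Q.mapIso
      (((Functor.mapHomologicalComplexIdIso X.Modules (ComplexShape.up ℤ)).app M).symm ≪≫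
        ((NatIso.mapHomologicalComplex (tensUnitNat X) (ComplexShape.up ℤ)).app M).symm ≪≫
        KFlat.tensSingleIso (schB X) M (Coh.structureModule X))) hM
  exact tp_of_iso (((CochainComplex.singleFunctors X.Modules).shiftIso (-a) a 0 (by lia)).app
    (Coh.structureModule X)) (tp_shift h0 (-a))

/-- peeling off the first summand -/
noncomputable def sigmaSuccIso {n : ℕ} (g : Fin (n + 1) → X.Modules) :
    (∐ g) ≅ g 0 ⊞ ∐ (fun i : Fin n => g i.succ) where
  hom := Sigma.desc (Fin.cases biprod.inl fun i => Sigma.ι (fun i : Fin n => g i.succ) i ≫ biprod.inr)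
  inv := biprod.desc (Sigma.ι g 0) (Sigma.desc fun i => Sigma.ι g i.succ)
  hom_inv_id := by
    refine Sigma.hom_ext _ _ fun i => ?_
    induction i using Fin.cases with
    | zero => simp
    | succ i => simp
  inv_hom_id := by
    refine biprod.hom_ext' _ _ ?_ ?_
    · simp
    · rw [biprod.inr_desc_assoc, Category.comp_id]
      refine Sigma.hom_ext _ _ fun i => ?_
      simp

lemma tpMod_free (hM : SPerf f (DCoh.toD X M)) : ∀ n : ℕ, TPMod f M (FlatMod.freeMod X n) := by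
  intro n
  induction n with
  | zero =>
    refine tpMod_of_isZero ?_
    rw [IsZero.iff_id_eq_zero]
    exact Sigma.hom_ext _ _ fun i => i.elim0
  | succ n ih =>
    exact tpMod_of_iso (sigmaSuccIso fun _ : Fin (n + 1) => Coh.structureModule X).symm
      (tpMod_biprod (tpMod_unit hM) ih)

lemma tp_of_bounded : ∀ (k : ℕ) (a : ℤ) (E : CochainComplex X.Modules ℤ),
    DCoh.VanishesOutside E a (a + k - 1) → (∀ i, TPMod f M (E.X i)) → TP f M E := by
  intro k
  induction k with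
  | zero =>
    intro a E hE _
    exact tp_of_isZero ((IsZero.iff_id_eq_zero _).2 (HomologicalComplex.Hom.ext
      (funext fun i => (hE i (by lia)).eq_of_src _ _)))
  | succ k ih =>
    intro a E hE ht
    have h1 : TP f M (σGE E (a + 1)) := by
      refine ih (a + 1) _ (fun i hi => ?_) fun i => ?_
      · by_cases h : a + 1 ≤ i
        · exact IsZero.of_mono ((σι E (a + 1)).f i) (hE i (by lia))
        · exact isZero_σGE_X E (a + 1) i (not_le.1 h)
      · by_cases h : a + 1 ≤ i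
        · haveI := isIso_σι_f E (a + 1) i h
          exact tpMod_of_iso (asIso ((σι E (a + 1)).f i)).symm (ht i)
        · exact tpMod_of_isZero (isZero_σGE_X E (a + 1) i (not_le.1 h))
    let Sq := σSeq E (a + 1)
    have hS := σSeq_shortExact E (a + 1)
    have σ : ∀ n, (Sq.map (eval X.Modules (ComplexShape.up ℤ) n)).Splitting := fun n =>
      if h : a + 1 ≤ n then
        ShortComplex.Splitting.ofIsIsoOfIsZero _ (isIso_σι_f E (a + 1) n h) (isZero_σQuot E (a + 1) n h)
      else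
        ShortComplex.Splitting.ofIsZeroOfIsIso _ (isZero_σGE_X E (a + 1) n (not_le.1 h))
          (((hS.map_of_exact (eval X.Modules (ComplexShape.up ℤ) n))).isIso_g_iff.2
            (isZero_σGE_X E (a + 1) n (not_le.1 h)))
    have hQz : ∀ i, i ≠ a → IsZero (Sq.X₃.X i) := fun i hi => by
      by_cases h : a + 1 ≤ i
      · exact isZero_σQuot E (a + 1) i h
      · haveI : IsIso ((Sq.map (eval X.Modules (ComplexShape.up ℤ) i)).g) :=
          ((hS.map_of_exact (eval X.Modules (ComplexShape.up ℤ) i))).isIso_g_iff.2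
            (isZero_σGE_X E (a + 1) i (not_le.1 h))
        exact (hE i (by lia)).of_iso (asIso (Sq.map (eval X.Modules (ComplexShape.up ℤ) i)).g).symm
    haveI : Sq.X₃.IsStrictlyGE a := (CochainComplex.isStrictlyGE_iff _ a).2 fun i hi => hQz i (by lia)
    haveI : Sq.X₃.IsStrictlyLE a := (CochainComplex.isStrictlyLE_iff _ a).2 fun i hi => hQz i (by lia)
    obtain ⟨N, ⟨eN⟩⟩ := CochainComplex.exists_iso_single Sq.X₃ a
    haveI : IsIso ((Sq.map (eval X.Modules (ComplexShape.up ℤ) a)).g) :=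
      ((hS.map_of_exact (eval X.Modules (ComplexShape.up ℤ) a))).isIso_g_iff.2
        (isZero_σGE_X E (a + 1) a (by lia))
    have h3 : TP f M Sq.X₃ := tp_of_iso eN.symm (tpMod_of_iso
      (asIso (Sq.map (eval X.Modules (ComplexShape.up ℤ) a)).g ≪≫
        (eval X.Modules (ComplexShape.up ℤ) a).mapIso eN ≪≫ singleObjXSelf (ComplexShape.up ℤ) a N) (ht a) a)
    exact tp_of_split Sq σ h1 h3

theorem tp_of_free (hM : SPerf f (DCoh.toD X M)) {E : CochainComplex X.Modules ℤ} {a b : ℤ}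
    (hE : DCoh.VanishesOutside E a b)
    (hfree : ∀ i, a ≤ i → i ≤ b → ∃ n, Nonempty (E.X i ≅ FlatMod.freeMod X n)) : TP f M E := by
  refine tp_of_bounded (b + 1 - a).toNat a E (fun i hi => hE i (by lia)) fun i => ?_
  by_cases h : a ≤ i ∧ i ≤ b
  · obtain ⟨n, ⟨e⟩⟩ := hfree i h.1 h.2
    exact tpMod_of_iso e.symm (tpMod_free hM n)
  · exact tpMod_of_isZero (hE i (by lia))

lemma sPerf_local (F : CochainComplex X.Modules ℤ)
    (h : ∀ x : X, ∃ W : X.Opens, x ∈ W ∧
      SPerf (W.ι ≫ f) (DerivedCategory.Q.obj ((DCoh.restrictCx W).obj F))) : SPerf f (DCoh.toD X F) := by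
  refine ⟨fun m => ?_, ?_⟩
  · rw [pc_iff_near]
    intro x
    obtain ⟨W, hx, hW, -⟩ := h x
    obtain ⟨U, j, hj, u, hu, hP⟩ := (pc_iff_near _ _).1 (pc_of_iso (rdIso W.ι F).symm (hW m)) ⟨x, hx⟩
    haveI := hj
    exact ⟨U, j ≫ W.ι, inferInstance, u, congrArg (fun t => W.ι.base t) hu, pcOn_push j W.ι hP⟩
  · rw [locHas_iff]
    intro x
    obtain ⟨W, hx, -, hW⟩ := h x
    obtain ⟨V, a, b, hv, hV⟩ := locHas_iff.1 hW ⟨x, hx⟩
    refine ⟨W.ι ''ᵁ V, a, b, ⟨⟨x, hx⟩, hv, rfl⟩, ?_⟩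
    rintro y ⟨v, hv, rfl⟩
    exact (relAmpAt_restrict_iff W F a b v).1 (hV v hv)

lemma sPerf_restrict (W : X.Opens) (F : CochainComplex X.Modules ℤ) (h : SPerf f (DCoh.toD X F)) :
    SPerf (W.ι ≫ f) (DerivedCategory.Q.obj ((DCoh.restrictCx W).obj F)) := by
  refine ⟨fun m => pc_of_iso (rdIso W.ι F) (pc_restrict W.ι (h.1 m)), ?_⟩
  rw [locHas_iff]
  intro w
  obtain ⟨V, a, b, hx, hV⟩ := locHas_iff.1 h.2 (W.ι.base w)
  exact ⟨W.ι ⁻¹ᵁ V, a, b, hx, fun v hv => (relAmpAt_restrict_iff W F a b v).2 (hV _ hv)⟩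

theorem sPerf_LTensor (K : DCoh.D X) (hK : DCoh.IsPerfect K) (hM : SPerf f (DCoh.toD X M))
    [DCoh.HasLTensorCx M] : SPerf f ((DCoh.LTensorCx M).obj K) := by
  obtain ⟨P, hP, -, ⟨e⟩⟩ := KFlat.exists_isKFlat_rep K
  let T := (DCoh.tensorCx.obj P).obj M
  refine sPerf_of_iso ((KFlat.ltIso M hP).symm ≪≫ (DCoh.LTensorCx M).mapIso e) (sPerf_local T fun x => ?_)
  obtain ⟨V, hV, E, hE, ⟨a⟩⟩ := (DerPerf.isPerfect_iff_rep e).1 hK x
  obtain ⟨⟨c, d, hcd⟩, hl⟩ := id hE
  obtain ⟨W', hW', hfree⟩ := DerPerf.exists_common_free (Finset.Icc c d) E.X (fun i _ => hl i)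
    (⟨x, hV⟩ : ↑(V : Scheme.{u}))
  let W : X.Opens := V.ι ''ᵁ W'
  have hle : W ≤ V := by
    rintro _ ⟨w, -, rfl⟩
    exact w.2
  have hpre : (X.homOfLE hle).opensRange ≤ W' := by
    rintro _ ⟨w, rfl⟩
    obtain ⟨v, hv, hvw⟩ := w.2
    have : V.ι.base ((X.homOfLE hle).base w) = V.ι.base v := by
      rw [← Scheme.Hom.comp_apply, Scheme.homOfLE_ι]
      exact hvw.symm
    rwa [V.ι.isOpenEmbedding.injective this]
  let R := (Scheme.Modules.pullback W.ι).mapHomologicalComplex (ComplexShape.up ℤ)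
  let j := X.homOfLE hle
  let Rle := (Scheme.Modules.pullback j).mapHomologicalComplex (ComplexShape.up ℤ)
  have := KFlat.hasLpull j
  let i₁ := Functor.isoWhiskerRight (Scheme.Modules.restrictFunctorIsoPullback V.ι)
      (Scheme.Modules.pullback j) ≪≫ DerPerf.pullLeIso hle
  have hEK := DerPerf.isKFlat_of_isStrictlyPerfect hE
  let a' : DerivedCategory.Q.obj (R.obj P) ≅ DerivedCategory.Q.obj (Rle.obj E) :=
    DerivedCategory.Q.mapIso (HomologicalComplex.Hom.isoOfComponents (fun n => i₁.app (P.X n))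
        (fun p q _ => (i₁.hom.naturality (P.d p q)).symm) : Rle.obj ((DCoh.restrictCx V).obj P) ≅ R.obj P).symm ≪≫
      (KFlat.lpullIso j (DerPerf.isKFlat_restrictCx V hP)).symm ≪≫ (DCoh.Lpull j).mapIso a ≪≫
      KFlat.lpullIso j hEK
  have hE₁ : DCoh.IsStrictlyPerfect (Rle.obj E) := DerPerf.isStrictlyPerfect_pullback _ hE
  have hP' : DCoh.IsKFlat (R.obj P) := KFlat.isKFlat_pullback W.ι hP
  have := KFlat.hasLTensorCx (R.obj M)
  let i₀ : ∀ F : CochainComplex X.Modules ℤ, (DCoh.restrictCx W).obj F ≅ R.obj F := fun F =>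
    HomologicalComplex.Hom.isoOfComponents (fun n => (Scheme.Modules.restrictFunctorIsoPullback W.ι).app (F.X n))
      (fun p q _ => ((Scheme.Modules.restrictFunctorIsoPullback W.ι).hom.naturality (F.d p q)).symm)
  have hfree' : ∀ i, c ≤ i → i ≤ d → ∃ n, Nonempty ((Rle.obj E).X i ≅ FlatMod.freeMod (W : Scheme.{u}) n) := by
    intro i h1 h2
    obtain ⟨n, ⟨g⟩⟩ := hfree i (Finset.mem_Icc.2 ⟨h1, h2⟩)
    let k := IsOpenImmersion.lift W'.ι j (by rw [Scheme.Opens.range_ι]; exact fun _ h => hpre h)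
    exact ⟨n, ⟨(Scheme.Modules.pullbackCongr (IsOpenImmersion.lift_fac W'.ι j _)).symm.app (E.X i) ≪≫
      (Scheme.Modules.pullbackComp k W'.ι).symm.app (E.X i) ≪≫ (Scheme.Modules.pullback k).mapIso g ≪≫
      DerPerf.pullFreeIso k n⟩⟩
  have h1 : TP (W.ι ≫ f) (R.obj M) (Rle.obj E) :=
    tp_of_free (sPerf_of_iso (DerivedCategory.Q.mapIso (i₀ M)) (sPerf_restrict W M hM))
      (fun i hi => (Scheme.Modules.pullback j).map_isZero (hcd i hi)) hfree'
  refine ⟨W, ⟨⟨x, hV⟩, hW', rfl⟩, sPerf_of_iso ?_ h1⟩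
  exact DerivedCategory.Q.mapIso (KFlat.swapIso (KFlat.braid _) (R.obj M) (Rle.obj E)) ≪≫
    (KFlat.ltIso (R.obj M) (DerPerf.isKFlat_of_isStrictlyPerfect hE₁)).symm ≪≫
    (DCoh.LTensorCx (R.obj M)).mapIso a'.symm ≪≫ KFlat.ltIso (R.obj M) hP' ≪≫
    DerivedCategory.Q.mapIso (KFlat.pullTotIso W.ι P M ≪≫ (i₀ T).symm)

end Groth.Agent.DQCoh
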