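import Groth.Agent.DQCoh.RelTor
import Groth.Agent.DQCoh.PerfCrit

/-!
# `S`-perfect objects
-/

set_option backward.isDefEq.respectTransparency false
set_option backward.isDefEq.respectTransparency.types false
set_option linter.style.haveILetI false
set_option autoImplicit false

universe u

open CategoryTheory Limits AlgebraicGeometry Pretriangulated ZeroObject

attribute [local instance] HasDerivedCategory.standard

namespace Groth.Agent.DQCoh

variable {X S : Scheme.{u}} (f : X ⟶ S)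

/-- pseudo-coherent and locally of finite relative tor dimension -/
abbrev SPerf : ObjectProperty (DCoh.D X) :=
  fun E => (∀ m : ℤ, DCoh.IsPseudoCoherentD m E) ∧ DCoh.LocHasFiniteRelTorDim f E

theorem sPerf_of_perfect [Flat f] {E : DCoh.D X} (hE : DCoh.IsPerfect E) : SPerf f E := by
  obtain ⟨h1, h2⟩ := (isPerfect_iff_pc_locTor E).1 hE
  refine ⟨h1, fun x => ?_⟩
  obtain ⟨V, a, b, hx, h⟩ := h2 x
  refine ⟨V, a, b, hx, fun F hF => ?_⟩
  obtain ⟨G, g1, g2, g3⟩ := h F hF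
  exact ⟨G, g1, fun i => flatOver_of_flat (V.ι ≫ f) (g2 i), g3⟩

lemma perfect_zero : DCoh.IsPerfect (0 : DCoh.D X) := by
  rw [perfect_iff_near]
  intro x
  have hz : ∀ i, IsZero ((0 : CochainComplex X.Modules ℤ).X i) := fun i =>
    (HomologicalComplex.eval _ _ i).map_isZero (isZero_zero _)
  exact ⟨X, 𝟙 X, inferInstance, x, rfl, 0, ⟨⟨0, 0, fun i _ => hz i⟩, fun i => isFinLocFree_of_isZero (hz i)⟩,
    ⟨((RD (𝟙 X)).map_isZero (isZero_zero _)).iso ((DerivedCategory.Q).map_isZero (isZero_zero _))⟩⟩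

variable {f}

lemma relAmpAt_widen {a b a' b' : ℤ} (ha : a' ≤ a) (hb : b ≤ b') {K : DCoh.D X} {x : X}
    (h : RelAmpAt f a b K x) : RelAmpAt f a' b' K x := by
  obtain ⟨E, h1, h2, h3⟩ := h
  exact ⟨E, fun i hi => h1 i (by lia), h2, h3⟩

lemma relAmpAt_retract {a b : ℤ} {K L : DCoh.D X} {x : X} (h : RelAmpAt f a b L x) (s : K ⟶ L) (r : L ⟶ K)
    (hsr : s ≫ r = 𝟙 K) : RelAmpAt f a b K x :=
  DRingKP.amp_iff_torVan.2 (DRingKP.torVan_retract (DRingKP.torVan_of_amp h)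
    ((stA f x).mapDerivedCategory.map s) ((stA f x).mapDerivedCategory.map r)
    (by rw [← Functor.map_comp, hsr, CategoryTheory.Functor.map_id]))

lemma relAmpAt_shift {a b : ℤ} {K : DCoh.D X} {x : X} (h : RelAmpAt f a b K x) (n : ℤ) :
    RelAmpAt f (a - n) (b - n) (K⟦n⟧) x :=
  DRingKP.amp_of_iso (((stA f x).mapDerivedCategory.commShiftIso n).app K).symm (DRingKP.amp_shift h n)

lemma relAmpAt_obj₂ {a b : ℤ} (T : Triangle (DCoh.D X)) (hT : T ∈ distTriang (DCoh.D X)) {x : X}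
    (h₁ : RelAmpAt f a b T.obj₁ x) (h₃ : RelAmpAt f a b T.obj₃ x) : RelAmpAt f a b T.obj₂ x :=
  DRingKP.amp_obj₂ _ ((stA f x).mapDerivedCategory.map_distinguished T hT) h₁ h₃

lemma locHas_of_iso [Flat f] {K L : DCoh.D X} (e : K ≅ L) (h : DCoh.LocHasFiniteRelTorDim f K) :
    DCoh.LocHasFiniteRelTorDim f L := by
  rw [locHas_iff] at h ⊢
  intro x
  obtain ⟨V, a, b, hx, hV⟩ := h x
  exact ⟨V, a, b, hx, fun y hy => relAmpAt_of_iso e (hV y hy)⟩

lemma sPerf_of_iso [Flat f] {K L : DCoh.D X} (e : K ≅ L) (h : SPerf f K) : SPerf f L :=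
  ⟨fun m => pc_of_iso e (h.1 m), locHas_of_iso e h.2⟩

theorem sPerf_obj₂ [Flat f] (T : Triangle (DCoh.D X)) (hT : T ∈ distTriang (DCoh.D X))
    (h₁ : SPerf f T.obj₁) (h₃ : SPerf f T.obj₃) : SPerf f T.obj₂ := by
  refine ⟨fun m => pc_obj₂ T hT m (h₁.1 m) (h₃.1 m), ?_⟩
  rw [locHas_iff]
  intro x
  obtain ⟨V, a, b, hx, hV⟩ := locHas_iff.1 h₁.2 x
  obtain ⟨W, c, d, hx', hW⟩ := locHas_iff.1 h₃.2 x
  exact ⟨V ⊓ W, min a c, max b d, ⟨hx, hx'⟩, fun y hy => relAmpAt_obj₂ T hT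
    (relAmpAt_widen (min_le_left _ _) (le_max_left _ _) (hV y hy.1))
    (relAmpAt_widen (min_le_right _ _) (le_max_right _ _) (hW y hy.2))⟩

theorem sPerf_shift [Flat f] {K : DCoh.D X} (h : SPerf f K) (n : ℤ) : SPerf f (K⟦n⟧) := by
  refine ⟨fun m => ?_, ?_⟩
  · have h1 := pc_shift (h.1 (m + n)) n
    rwa [add_sub_cancel_right] at h1
  · rw [locHas_iff]
    intro x
    obtain ⟨V, a, b, hx, hV⟩ := locHas_iff.1 h.2 x
    exact ⟨V, a - n, b - n, hx, fun y hy => relAmpAt_shift (hV y hy) n⟩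

theorem sPerf_retract [Flat f] {K L : DCoh.D X} (h : SPerf f L) (s : K ⟶ L) (r : L ⟶ K)
    (hsr : s ≫ r = 𝟙 K) : SPerf f K := by
  refine ⟨fun m => ?_, ?_⟩
  · obtain ⟨Z, g, δ, hT⟩ := distinguished_cocone_triangle s
    haveI : Mono ((Triangle.mk s g δ).mor₁) := (SplitMono.mk r hsr : SplitMono s).mono
    obtain ⟨e, -, -⟩ := exists_iso_binaryBiproduct_of_distTriang _ hT
      ((Triangle.mor₃_eq_zero_iff_mono₁ _ hT).2 inferInstance)
    exact (pc_of_retract (pc_of_iso e (h.1 m))).1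
  · rw [locHas_iff]
    intro x
    obtain ⟨V, a, b, hx, hV⟩ := locHas_iff.1 h.2 x
    exact ⟨V, a, b, hx, fun y hy => relAmpAt_retract (hV y hy) s r hsr⟩

theorem sPerf_isTriangulated [Flat f] :
    (SPerf f).IsTriangulated ∧ (SPerf f).IsStableUnderRetracts := by
  refine ⟨?_, ⟨fun r hY => sPerf_retract hY r.i r.r r.retract⟩⟩
  exact
    { exists_zero := ⟨0, isZero_zero _, sPerf_of_perfect f perfect_zero⟩
      isStableUnderShiftBy := fun n => ⟨fun K hK => sPerf_shift hK n⟩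
      ext₂' := fun T hT h1 h3 => ObjectProperty.le_isoClosure _ _ (sPerf_obj₂ T hT h1 h3) }

end Groth.Agent.DQCoh
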