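import Groth.Agent.RelPCS.Descend
import Groth.Agent.QC.Closure
import Groth.Agent.QC.Localisation
import Groth.Agent.QC.Pullback

/-!
# Descent of quasi-coherence along faithfully flat maps, for arbitrary modules
-/

set_option autoImplicit false
set_option backward.isDefEq.respectTransparency false
set_option backward.isDefEq.respectTransparency.types false
set_option linter.style.haveILetI false

universe u

open CategoryTheory Limits AlgebraicGeometry Opposite TopologicalSpace

namespace Groth.Agent.DQCoh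

variable {X Y : Scheme.{u}}

lemma isZero_of_pullback (g : X ⟶ Y) [Flat g] [Surjective g] {M : Y.Modules}
    (h : IsZero ((Scheme.Modules.pullback g).obj M)) : IsZero M := by
  refine KFlat.isZero_of_stalks _ fun y => ?_
  obtain ⟨x, rfl⟩ := g.surjective y
  have h1 : IsZero ((ModuleCat.extendScalars.{u, u, u} (g.stalkMap x).hom).obj
      ((DerSch.stalkFunctor Y (g.base x)).obj M)) :=
    ((DerSch.stalkFunctor X x).map_isZero h).of_iso ((KFlat.pullStalkIso g x).app M).symm
  let := (g.stalkMap x).hom.toAlgebra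
  haveI : Module.Flat (Y.presheaf.stalk (g.base x)) (X.presheaf.stalk x) := Flat.stalkMap g x
  haveI : IsLocalHom (algebraMap (Y.presheaf.stalk (g.base x)) (X.presheaf.stalk x)) := g.toLRSHom.prop x
  haveI : Module.FaithfullyFlat (Y.presheaf.stalk (g.base x)) (X.presheaf.stalk x) :=
    Module.FaithfullyFlat.of_flat_of_isLocalHom
  refine @ModuleCat.isZero_of_subsingleton _ _ _ ?_
  exact @Module.FaithfullyFlat.lTensor_reflects_triviality _ (X.presheaf.stalk x) _ _ _ _
    ((DerSch.stalkFunctor Y (g.base x)).obj M) _ _ (ModuleCat.subsingleton_of_isZero h1)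

/-- The monad of a map. -/
noncomputable abbrev monad (g : X ⟶ Y) : Y.Modules ⥤ Y.Modules :=
  Scheme.Modules.pullback g ⋙ Scheme.Modules.pushforward g

/-- The unit of the monad. -/
noncomputable abbrev munit (g : X ⟶ Y) (M : Y.Modules) : M ⟶ (monad g).obj M :=
  (Scheme.Modules.pullbackPushforwardAdjunction g).unit.app M

/-- The difference of the two maps out of the image. -/
noncomputable abbrev mdiff (g : X ⟶ Y) (M : Y.Modules) : (monad g).obj M ⟶ (monad g).obj ((monad g).obj M) :=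
  munit g ((monad g).obj M) - (monad g).map (munit g M)

lemma munit_mdiff (g : X ⟶ Y) (M : Y.Modules) : munit g M ≫ mdiff g M = 0 := by
  rw [Preadditive.comp_sub, sub_eq_zero]
  exact (Scheme.Modules.pullbackPushforwardAdjunction g).unit.naturality (munit g M)

/-- Descent of quasi-coherence along a faithfully flat quasi-compact quasi-separated map. -/
theorem isQCoh_of_pullback (g : X ⟶ Y) [Flat g] [Surjective g] [QuasiCompact g] [QuasiSeparated g] (M : Y.Modules)
    (h : Coh.IsQCoh ((Scheme.Modules.pullback g).obj M)) : Coh.IsQCoh M := by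
  let a := Scheme.Modules.pullbackPushforwardAdjunction g
  let F := Scheme.Modules.pullback g
  let G := Scheme.Modules.pushforward g
  let S : ShortComplex Y.Modules := ShortComplex.mk (munit g M) (mdiff g M) (munit_mdiff g M)
  haveI := RelPCS.preservesFiniteLimits_pullback g
  haveI := a.leftAdjoint_preservesColimits.{0, 0}
  haveI : PreservesFiniteColimits F := inferInstance
  haveI : F.Additive := Functor.additive_of_preserves_binary_products _
  haveI : F.PreservesHomology := inferInstance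
  let r : F.obj ((monad g).obj M) ⟶ F.obj M := a.counit.app (F.obj M)
  let s : F.obj ((monad g).obj ((monad g).obj M)) ⟶ F.obj ((monad g).obj M) :=
    a.counit.app (F.obj ((monad g).obj M))
  have hr : F.map (munit g M) ≫ r = 𝟙 _ := a.left_triangle_components M
  have hs : F.map (munit g ((monad g).obj M)) ≫ s = 𝟙 _ := a.left_triangle_components _
  haveI : Mono (F.map (munit g M)) := (SplitMono.mk r hr).mono
  haveI : Mono (S.map F).f := ‹Mono (F.map (munit g M))›
  have hex : (S.map F).Exact := by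
    refine ShortComplex.exact_of_f_is_kernel _ (KernelFork.IsLimit.ofι' _ _ fun {W} k hk => ?_)
    let k' : W ⟶ F.obj ((monad g).obj M) := k
    refine ⟨k' ≫ r, ?_⟩
    show (k' ≫ r) ≫ F.map (munit g M) = k'
    have hk' : k' ≫ F.map (munit g ((monad g).obj M)) = k' ≫ F.map ((monad g).map (munit g M)) := by
      rw [← sub_eq_zero, ← Preadditive.comp_sub, ← F.map_sub]
      exact hk
    have hn : F.map ((monad g).map (munit g M)) ≫ s = r ≫ F.map (munit g M) :=
      a.counit.naturality (F.map (munit g M))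
    rw [Category.assoc, ← hn, ← Category.assoc, ← hk', Category.assoc, hs, Category.comp_id]
  have hex' : S.Exact := by
    rw [ShortComplex.exact_iff_isZero_homology]
    exact isZero_of_pullback g (((ShortComplex.exact_iff_isZero_homology _).1 hex).of_iso
      (S.mapHomologyIso F).symm)
  haveI : Mono (munit g M) := Preadditive.mono_of_isZero_kernel _
    (isZero_of_pullback g ((isZero_kernel_of_mono (F.map (munit g M))).of_iso (PreservesKernel.iso F (munit g M))))
  haveI : Mono S.f := ‹Mono (munit g M)›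
  have hT : ∀ N : X.Modules, Coh.IsQCoh N → Coh.IsQCoh (G.obj N) := fun N hN => by
    haveI : N.IsQuasicoherent := hN
    exact QC.isQCoh_pushforward g
  have h₂ : Coh.IsQCoh ((monad g).obj M) := hT _ h
  have h₃ : Coh.IsQCoh ((monad g).obj ((monad g).obj M)) := hT _ (QC.isQCoh_pullback g (hM := h₂))
  exact QC.isQCoh_of_iso (IsLimit.conePointUniqueUpToIso (kernelIsKernel (mdiff g M)) hex'.fIsKernel)
    (QC.isQCoh_kernel h₂ h₃ (mdiff g M))

/-- Affine local pieces of a covering suffice. -/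
theorem isQCoh_of_pieces (f : X ⟶ Y) [Flat f] (M : Y.Modules)
    (hf : ∀ V : Y.Opens, IsAffineOpen V → ∃ (κ : Type u) (_ : Finite κ) (W : κ → X.Opens),
      (∀ k, IsAffineOpen (W k)) ∧ (∀ k, W k ≤ f ⁻¹ᵁ V) ∧ ∀ y ∈ V, ∃ k, ∃ x ∈ W k, f.base x = y)
    (h : Coh.IsQCoh ((Scheme.Modules.pullback f).obj M)) : Coh.IsQCoh M := by
  refine QC.isQCoh_of_local fun y => ?_
  obtain ⟨_, ⟨V, hV, rfl⟩, hyV, -⟩ := Y.isBasis_affineOpens.exists_subset_of_mem_open (Set.mem_univ y) isOpen_univ
  obtain ⟨κ, _, W, hW, hWV, hcov⟩ := hf V hV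
  let V : Y.Opens := V
  refine ⟨_, V.ι, inferInstance, V.range_ι.symm ▸ hyV, ?_⟩
  haveI : IsAffine (V : Scheme.{u}) := hV
  haveI : ∀ k, IsAffine (W k : Scheme.{u}) := hW
  let g : ∀ k, (W k : Scheme.{u}) ⟶ (V : Scheme.{u}) := fun k => f.resLE V (W k) (hWV k)
  let q : (∐ fun k => (W k : Scheme.{u})) ⟶ (V : Scheme.{u}) := Sigma.desc g
  haveI : ∀ k, Flat (g k) := fun k => inferInstanceAs (Flat (f.resLE V (W k) (hWV k)))
  haveI : Flat q := IsZariskiLocalAtSource.sigmaDesc (fun k => inferInstance)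
  haveI : Surjective q := ⟨fun z => by
    obtain ⟨k, x, hx, hxy⟩ := hcov (V.ι.base z) z.2
    refine ⟨(Sigma.ι (fun k => (W k : Scheme.{u})) k).base ⟨x, hx⟩, V.ι.isOpenEmbedding.injective ?_⟩
    have e : Sigma.ι (fun k => (W k : Scheme.{u})) k ≫ q ≫ V.ι = (W k).ι ≫ f := by
      simp [q, g, Scheme.Hom.resLE_comp_ι]
    exact (congrArg (fun t => t.base ⟨x, hx⟩) e).trans hxy⟩
  refine isQCoh_of_pullback q _ (QC.isQCoh_of_local fun z => ?_)
  obtain ⟨k, x, hx⟩ := (sigmaOpenCover fun k => (W k : Scheme.{u})).exists_eq z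
  let ι := Sigma.ι (fun k => (W k : Scheme.{u})) k
  refine ⟨_, ι, inferInstance, ⟨x, hx⟩, ?_⟩
  have e : ι ≫ q ≫ V.ι = (W k).ι ≫ f := by simp [ι, q, g, Scheme.Hom.resLE_comp_ι]
  let i1 : (((Scheme.Modules.pullback q).obj ((Scheme.Modules.restrictFunctor V.ι).obj M))).restrict ι ≅
      (Scheme.Modules.pullback (ι ≫ q ≫ V.ι)).obj M :=
    (Scheme.Modules.restrictFunctorIsoPullback ι).app _ ≪≫
      (Scheme.Modules.pullback ι).mapIso ((Scheme.Modules.pullback q).mapIso
        ((Scheme.Modules.restrictFunctorIsoPullback V.ι).app M) ≪≫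
        (Scheme.Modules.pullbackComp q V.ι).app M) ≪≫
      (Scheme.Modules.pullbackComp ι (q ≫ V.ι)).app M
  let i2 : (Scheme.Modules.pullback (ι ≫ q ≫ V.ι)).obj M ≅
      ((Scheme.Modules.pullback f).obj M).restrict (W k).ι :=
    eqToIso (by rw [e]) ≪≫ ((Scheme.Modules.pullbackComp (W k).ι f).app M).symm ≪≫
      ((Scheme.Modules.restrictFunctorIsoPullback (W k).ι).app _).symm
  exact QC.isQCoh_of_iso (i1 ≪≫ i2).symm (QC.isQCoh_restrict _ h)

lemma pieces_of_qc (f : X ⟶ Y) [Surjective f] [QuasiCompact f] (V : Y.Opens) (hV : IsAffineOpen V) :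
    ∃ (κ : Type u) (_ : Finite κ) (W : κ → X.Opens),
      (∀ k, IsAffineOpen (W k)) ∧ (∀ k, W k ≤ f ⁻¹ᵁ V) ∧ ∀ y ∈ V, ∃ k, ∃ x ∈ W k, f.base x = y := by
  have hc : IsCompact (f ⁻¹ᵁ V : Set X) := f.isCompact_preimage hV.isCompact
  have key : ∀ x : (f ⁻¹ᵁ V : Set X), ∃ W : X.Opens, IsAffineOpen W ∧ x.1 ∈ W ∧ W ≤ f ⁻¹ᵁ V := fun x => by
    obtain ⟨_, ⟨W, hW, rfl⟩, hxW, hWV⟩ :=
      X.isBasis_affineOpens.exists_subset_of_mem_open x.2 (f ⁻¹ᵁ V).isOpen
    exact ⟨W, hW, hxW, hWV⟩
  choose W hW hxW hWV using key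
  obtain ⟨T, hT⟩ := hc.elim_finite_subcover (fun x => (W x : Set X)) (fun x => (W x).isOpen)
    (fun x hx => Set.mem_iUnion.2 ⟨⟨x, hx⟩, hxW ⟨x, hx⟩⟩)
  refine ⟨T, inferInstance, fun k => W k.1, fun k => hW k.1, fun k => hWV k.1, fun y hy => ?_⟩
  obtain ⟨x, rfl⟩ := f.surjective y
  obtain ⟨k, hkT, hx⟩ := Set.mem_iUnion₂.1 (hT hy)
  exact ⟨⟨k, hkT⟩, x, hx, rfl⟩

lemma pieces_of_lfp (f : X ⟶ Y) [Surjective f] [Flat f] [LocallyOfFinitePresentation f] (V : Y.Opens)
    (hV : IsAffineOpen V) :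
    ∃ (κ : Type u) (_ : Finite κ) (W : κ → X.Opens),
      (∀ k, IsAffineOpen (W k)) ∧ (∀ k, W k ≤ f ⁻¹ᵁ V) ∧ ∀ y ∈ V, ∃ k, ∃ x ∈ W k, f.base x = y := by
  obtain ⟨κ, hκ, -, W, hW, hcov⟩ := RelPCS.exists_finite_pieces (S := Y) (ι := PUnit.{u + 1}) (fun _ => X) (fun _ => f)
    (fun y => let ⟨x, hx⟩ := f.surjective y; ⟨PUnit.unit, x, hx⟩) hV
  exact ⟨κ, hκ, fun k => (W k).1, fun k => (W k).2, hW, hcov⟩

end Groth.Agent.DQCoh
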