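import Groth.Agent.DQCoh.Serre
import Groth.Agent.KFlat.Acyclic
import Groth.Agent.KFlat.SchemeStalk
import Groth.Agent.KFlat.Derived

/-!
# Homology of colimits of complexes; quasi-coherence
-/

set_option backward.isDefEq.respectTransparency false
set_option backward.isDefEq.respectTransparency.types false
set_option linter.style.haveILetI false
set_option autoImplicit false

universe w w' v u

open CategoryTheory Limits AlgebraicGeometry Opposite HomologicalComplex

namespace Groth.Agent.DQCoh

section General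

variable {A : Type u} [Category.{v} A] [Abelian A] {J : Type w} [Category.{w'} J] [HasColimitsOfShape J A]
  [HasExactColimitsOfShape J A]

/-- Homology commutes with exact colimits. -/
theorem exists_homology_isColimit (D : J ⥤ CochainComplex A ℤ) {c : Cocone D} (hc : IsColimit c) (i : ℤ) :
    ∃ H : J ⥤ A, (∀ j, Nonempty (H.obj j ≅ (D.obj j).homology i)) ∧ Nonempty (c.pt.homology i ≅ colimit H) := by
  let S : ShortComplex (J ⥤ A) := ShortComplex.mk
    (Functor.whiskerLeft D (dNatTrans A (ComplexShape.up ℤ) (i - 1) i))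
    (Functor.whiskerLeft D (dNatTrans A (ComplexShape.up ℤ) i (i + 1))) (by ext j; exact (D.obj j).d_comp_d _ _ _)
  refine ⟨S.homology, fun j => ⟨(S.mapHomologyIso ((evaluation J A).obj j)).symm ≪≫
    (ShortComplex.homologyMapIso ((D.obj j).isoSc' (i - 1) i (i + 1) (by simp) (by simp))).symm⟩, ?_⟩
  let e : ∀ n, colimit (D ⋙ eval A (ComplexShape.up ℤ) n) ≅ c.pt.X n := fun n =>
    (colimit.isColimit _).coconePointUniqueUpToIso (isColimitOfPreserves (eval A (ComplexShape.up ℤ) n) hc)
  have he : ∀ n j, colimit.ι (D ⋙ eval A (ComplexShape.up ℤ) n) j ≫ (e n).hom = (c.ι.app j).f n := fun n j =>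
    IsColimit.comp_coconePointUniqueUpToIso_hom (colimit.isColimit _)
      (isColimitOfPreserves (eval A (ComplexShape.up ℤ) n) hc) j
  have hcomm : ∀ m n : ℤ, colimMap (Functor.whiskerLeft D (dNatTrans A (ComplexShape.up ℤ) m n)) ≫ (e n).hom =
      (e m).hom ≫ c.pt.d m n := fun m n => colimit.hom_ext fun j => by
    rw [ι_colimMap_assoc, he, reassoc_of% (he m j)]
    exact ((c.ι.app j).comm m n).symm
  let φ : S.map colim ≅ c.pt.sc' (i - 1) i (i + 1) :=
    ShortComplex.isoMk (e _) (e _) (e _) (hcomm _ _).symm (hcomm _ _).symm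
  exact ⟨ShortComplex.homologyMapIso (c.pt.isoSc' (i - 1) i (i + 1) (by simp) (by simp)) ≪≫
    (ShortComplex.homologyMapIso φ).symm ≪≫ S.mapHomologyIso colim⟩

end General

section Schemes

variable {X : Scheme.{u}}

lemma isQCoh_colimit_of_equiv {J : Type w} [Category.{w'} J] {J' : Type u} [SmallCategory J'] (e : J' ≌ J)
    (H : J ⥤ X.Modules) [HasColimit H] (hH : ∀ j, Coh.IsQCoh (H.obj j)) : Coh.IsQCoh (colimit H) :=
  QC.isQCoh_of_iso ((colimit.isColimit (e.functor ⋙ H)).coconePointUniqueUpToIso (t := (colimit.cocone H).whisker e.functor)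
    ((colimit.isColimit H).whiskerEquivalence e))
    (QC.isQCoh_colimit _ fun j => hH _)

/-- Sequential colimits of complexes with quasi-coherent cohomology. -/
theorem isQCoh_homology_colimit_nat (D : ℕ ⥤ CochainComplex X.Modules ℤ) {c : Cocone D} (hc : IsColimit c)
    (i : ℤ) (h : ∀ j, Coh.IsQCoh ((D.obj j).homology i)) : Coh.IsQCoh (c.pt.homology i) := by
  haveI : HasExactColimitsOfShape ℕ X.Modules := KFlat.hasExactColimits_nat X.sheaf
  obtain ⟨H, hH, ⟨e⟩⟩ := exists_homology_isColimit D hc i
  exact QC.isQCoh_of_iso e.symm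
    (isQCoh_colimit_of_equiv (J := ℕ) (AsSmall.equiv (C := ℕ)).symm H fun j => QC.isQCoh_of_iso (hH j).some.symm (h j))

end Schemes

end Groth.Agent.DQCoh
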