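import Groth.Agent.KFlat.TorFlat
import Groth.Agent.DRingKP.Descend
import Groth.Agent.KFlat.StalkTot

/-!
# Descent of tor amplitude along flat surjective morphisms
-/

set_option backward.isDefEq.respectTransparency false
set_option backward.isDefEq.respectTransparency.types false
set_option linter.style.haveILetI false
set_option autoImplicit false

universe u

open CategoryTheory Limits AlgebraicGeometry HomologicalComplex MonoidalCategory
open scoped TensorProduct
open ZeroObject

attribute [local instance] HasDerivedCategory.standard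

namespace Groth.Agent.DQCoh

lemma isZero_homology_of_faithfullyFlat {R S : Type u} [CommRing R] [CommRing S] (φ : R →+* S)
    (hφ : φ.FaithfullyFlat) (C : DRing.Cx R) (i : ℤ)
    (h : IsZero (((DRingKP.bc φ).obj C).homology i)) : IsZero (C.homology i) := by
  let := φ.toAlgebra
  haveI : Module.FaithfullyFlat R S := hφ
  exact DRingKP.isZero_homology_of_bc (B := fun _ : Unit => S) (DRingKP.detects_of_faithfullyFlat S) C i
    fun _ => h.of_iso ((DerivedCategory.homologyFunctorFactors (ModuleCat.{u} S) i).app _)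

variable {X Y : Scheme.{u}}

theorem flatAmplitude_of_Lpull (f : X ⟶ Y) [Flat f] [Surjective f] [DCoh.HasLpull f] (E : DCoh.D Y) (a b : ℤ)
    (h : DCoh.HasFlatAmplitudeIn a b ((DCoh.Lpull f).obj E)) : DCoh.HasFlatAmplitudeIn a b E := by
  obtain ⟨K, hK, -, ⟨e⟩⟩ := KFlat.exists_isKFlat_rep E
  let fK := ((Scheme.Modules.pullback f).mapHomologicalComplex (ComplexShape.up ℤ)).obj K
  have hv := KFlat.isZero_of_hasTorAmplitudeIn
    (KFlat.hasTorAmplitudeIn_of_torRep (KFlat.torRep_of_flatAmplitude h))
    (KFlat.isKFlat_pullback f hK)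
    ((KFlat.lpullIso f hK).symm ≪≫ (DCoh.Lpull f).mapIso e)
  have hz : ∀ (M : Y.Modules) (i : ℤ), (i < a ∨ b < i) → IsZero (((KFlat.tR M).obj K).homology i) := by
    intro M i hi
    refine KFlat.isZero_of_stalks _ fun y => ?_
    obtain ⟨x, rfl⟩ := f.surjective y
    let My := (DerSch.stalkFunctor Y (f.base x)).obj M
    let φ := (f.stalkMap x).hom
    let C := ((tensorRight My).mapHomologicalComplex (ComplexShape.up ℤ)).obj ((KFlat.stCx (f.base x)).obj K)
    let F := ModuleCat.extendScalars.{u, u, u} φ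
    have h1 := KFlat.exactAt_stalk_tensor (K := fK) x (F.obj My) i
      ((exactAt_iff_isZero_homology _ _).2 (hv _ i hi))
    let ps := KFlat.pullStalkIso f x
    let e1 : ((tensorRight (F.obj My)).mapHomologicalComplex (ComplexShape.up ℤ)).obj ((KFlat.stCx x).obj fK) ≅
        (DRingKP.bc φ).obj C :=
      (((tensorRight (F.obj My)).mapHomologicalComplex (ComplexShape.up ℤ)).mapIso
        (show (KFlat.stCx x).obj fK ≅ (DRingKP.bc φ).obj ((KFlat.stCx (f.base x)).obj K) from
          HomologicalComplex.Hom.isoOfComponents (fun n => ps.app (K.X n))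
          fun p q _ => (ps.hom.naturality (K.d p q)).symm)) ≪≫
        DRingKP.bcTRIso φ ((KFlat.stCx (f.base x)).obj K) My
    have hff : φ.FaithfullyFlat := by
      let := φ.toAlgebra
      haveI : Module.Flat (Y.presheaf.stalk (f.base x)) (X.presheaf.stalk x) := Flat.stalkMap f x
      haveI : IsLocalHom (algebraMap (Y.presheaf.stalk (f.base x)) (X.presheaf.stalk x)) := f.toLRSHom.prop x
      exact Module.FaithfullyFlat.of_flat_of_isLocalHom
    have h2 : IsZero (C.homology i) :=
      isZero_homology_of_faithfullyFlat φ hff C i ((exactAt_iff_isZero_homology _ _).1 (h1.of_iso e1))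
    let eC : C ≅ (KFlat.stCx (f.base x)).obj ((KFlat.tR M).obj K) :=
      HomologicalComplex.Hom.isoOfComponents (fun n => (KFlat.stTensorRightIso M (f.base x)).app (K.X n))
        fun p q _ => ((KFlat.stTensorRightIso M (f.base x)).hom.naturality (K.d p q)).symm
    exact (h2.of_iso ((HomologicalComplex.homologyFunctor _ _ i).mapIso eC).symm).of_iso
      ((((KFlat.tR M).obj K).sc i).mapHomologyIso (DerSch.stalkFunctor Y (f.base x))).symm
  by_cases hab : a ≤ b
  · exact KFlat.flatAmplitude_of_torAmplitude E a b hab (KFlat.hasTorAmplitudeIn_of_torRep ⟨K, hK, ⟨e⟩, hz⟩)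
  · have hz0 : ∀ i, IsZero ((0 : CochainComplex Y.Modules ℤ).X i) := fun i =>
      (HomologicalComplex.eval _ _ i).map_isZero (isZero_zero _)
    have hq : QuasiIso (0 : (0 : CochainComplex Y.Modules ℤ) ⟶ K) := ⟨fun i => (quasiIsoAt_iff_isIso_homologyMap _ i).2
      ⟨0, (ShortComplex.isZero_homology_of_isZero_X₂ _ (hz0 i)).eq_of_src _ _,
        ((exactAt_iff_isZero_homology _ _).1 (KFlat.exactAt_of_forall_tensor i
          fun M => (exactAt_iff_isZero_homology _ _).2 (hz M i (by lia)))).eq_of_src _ _⟩⟩
    exact ⟨0, fun i _ => hz0 i, fun i => KFlat.isFlat_of_isZero (hz0 i),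
      ⟨@asIso _ _ _ _ (DerivedCategory.Q.map (0 : (0 : CochainComplex Y.Modules ℤ) ⟶ K))
        ((DerivedCategory.isIso_Q_map_iff_quasiIso _ _).2 hq) ≪≫ e⟩⟩

end Groth.Agent.DQCoh
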