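import Groth.Agent.DQCoh.RelPerf
import Groth.Agent.DQCoh.BCStalk
import Groth.Agent.DQCoh.BCRing
import Groth.Agent.DerPerf.PseudoCoh

/-!
# Base change of `S`-perfect objects
-/

set_option backward.isDefEq.respectTransparency false
set_option backward.isDefEq.respectTransparency.types false
set_option linter.style.haveILetI false
set_option autoImplicit false

universe u

open CategoryTheory Limits AlgebraicGeometry HomologicalComplex

attribute [local instance] HasDerivedCategory.standard

namespace Groth.Agent.DQCoh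

variable {X S S' : Scheme.{u}} (f : X ⟶ S) (g : S' ⟶ S)

/-- stalkwise base change of relative tor amplitude -/
lemma relAmpAt_pullback [Flat f] {F : CochainComplex X.Modules ℤ} (hF : DCoh.IsKFlat F) {a b : ℤ}
    (y : ↑(pullback f g)) (h : RelAmpAt f a b (DCoh.toD X F) ((pullback.fst f g).base y)) :
    RelAmpAt (pullback.snd f g) a b (DerivedCategory.Q.obj
      (((Scheme.Modules.pullback (pullback.fst f g)).mapHomologicalComplex (ComplexShape.up ℤ)).obj F)) y := by
  let p := pullback.fst f g
  let q := pullback.snd f g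
  let x := p.base y
  let s' := q.base y
  let A := S.presheaf.stalk (f.base x)
  let Rx := X.presheaf.stalk x
  let A' := S'.presheaf.stalk s'
  let C := (pullback f g).presheaf.stalk y
  letI : Algebra A Rx := (f.stalkMap x).hom.toAlgebra
  letI : Algebra A A' := (BCStalk.baseMap f g y).hom.toAlgebra
  letI : Algebra Rx C := (p.stalkMap y).hom.toAlgebra
  letI : Algebra A' C := (q.stalkMap y).hom.toAlgebra
  letI : Algebra A C := (f.stalkMap x ≫ p.stalkMap y).hom.toAlgebra
  haveI : IsScalarTower A Rx C := IsScalarTower.of_algebraMap_eq fun _ => rfl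
  haveI : IsScalarTower A A' C := IsScalarTower.of_algebraMap_eq fun t => congr(($(BCStalk.comm f g y)).hom t)
  have hφ : (BCAlg.cmpHom A Rx A' C).Flat := BCStalk.flat_cmpHom f g y
  haveI : Module.Flat A Rx := Flat.stalkMap f x
  let Fx := (KFlat.stCx x).obj F
  have h1 : DRing.HasTorAmplitudeIn A a b ((BCAlg.resB (A := A) (S := Rx)).mapDerivedCategory.obj (DRing.toD Fx)) :=
    DRingKP.amp_of_iso (((stA f x).mapDerivedCategoryFactors.app F) ≪≫
      ((BCAlg.resB (A := A) (S := Rx)).mapDerivedCategoryFactors.app Fx).symm) h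
  have h2 := BCAlg.amp_bcRes (A := A) (S := Rx) (A' := A') (C := C) hφ ((KFlat.isKFlat_iff_stalks F).1 hF x) h1
  let i := Functor.isoWhiskerRight (KFlat.pullStalkIso p y)
    (ModuleCat.restrictScalars.{u} (q.stalkMap y).hom)
  refine DRingKP.amp_of_iso (DerivedCategory.Q.mapIso ?_ ≪≫ ((stA q y).mapDerivedCategoryFactors.app _).symm) h2
  exact (HomologicalComplex.Hom.isoOfComponents (fun n => i.app (F.X n))
    (fun m n _ => (i.hom.naturality (F.d m n)).symm)).symm

theorem sPerf_Lpull [Flat f] [DCoh.HasLpull (pullback.fst f g)] {K : DCoh.D X} (h : SPerf f K) :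
    SPerf (pullback.snd f g) ((DCoh.Lpull (pullback.fst f g)).obj K) := by
  refine ⟨fun m => DerPerf.isPseudoCoherent_Lpull _ m K (h.1 m), ?_⟩
  obtain ⟨F, hF, -, ⟨e⟩⟩ := KFlat.exists_isKFlat_rep K
  rw [locHas_iff]
  intro z
  obtain ⟨V, a, b, hx, hV⟩ := locHas_iff.1 h.2 ((pullback.fst f g).base z)
  exact ⟨pullback.fst f g ⁻¹ᵁ V, a, b, hx, fun y hy => relAmpAt_of_iso
    ((KFlat.lpullIso _ hF).symm ≪≫ (DCoh.Lpull (pullback.fst f g)).mapIso e)
    (relAmpAt_pullback f g hF y (relAmpAt_of_iso e.symm (hV _ hy)))⟩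

end Groth.Agent.DQCoh
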