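import Groth.Agent.DQCoh.PCCalc
import Groth.Agent.DQCoh.AffinePerf
import Groth.Agent.DRingKP.Finite
import Groth.Agent.QC.SpecFT

/-!
# The top cohomology sheaf of a pseudo-coherent object
-/

set_option autoImplicit false
set_option backward.isDefEq.respectTransparency false
set_option backward.isDefEq.respectTransparency.types false
set_option linter.style.haveILetI false

universe u

open CategoryTheory Limits AlgebraicGeometry Opposite TopologicalSpace Pretriangulated

attribute [local instance] HasDerivedCategory.standard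

namespace Groth.Agent.DQCoh

variable {X : Scheme.{u}}

/-- pseudo-coherent objects near a point are given by perfect complexes of modules over a ring -/
lemma exists_chart (m : ℤ) (K : DCoh.D X) (hK : DCoh.IsPseudoCoherentD m K) (x : X) :
    ∃ (A : Type u) (_ : CommRing A) (j : Spec (CommRingCat.of A) ⟶ X) (_ : IsOpenImmersion j)
      (M : Dual.D A) (α : (DCoh.tildeD (CommRingCat.of A)).obj M ⟶ (RD j).obj K),
      x ∈ Set.range j.base ∧ (∀ n, DRing.IsPseudoCoherent A n M) ∧ MIsoD m α := by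
  obtain ⟨U, j, hj, u, hu, hP⟩ := (pc_iff_near m K).1 hK x
  haveI := hj
  obtain ⟨_, ⟨W, hW, rfl⟩, huW, -⟩ := U.isBasis_affineOpens.exists_subset_of_mem_open (Set.mem_univ u) isOpen_univ
  obtain ⟨w, hw⟩ : u ∈ Set.range hW.fromSpec.base := hW.range_fromSpec.ge huW
  obtain ⟨E, α, hE, hα⟩ := pcOn_comp hW.fromSpec j hP
  obtain ⟨E₀, a, b, hv, hp, ⟨e⟩⟩ := exists_tilde_strictlyPerfect E hE
  refine ⟨Γ(U, W), inferInstance, hW.fromSpec ≫ j, inferInstance, DRing.toD E₀,
    (tildeToDIso (R := CommRingCat.of Γ(U, W)) E₀ ≪≫ DerivedCategory.Q.mapIso e).hom ≫ α,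
    ⟨w, (congrArg j.base hw).trans hu⟩,
    DRingKP.pc_of_pc' (DRingKP.pc'_of_isPerfect ⟨E₀, a, b, hv, hp, ⟨Iso.refl _⟩⟩),
    mIsoD_comp (mIsoD_of_isIso m _) hα⟩

lemma isFP_of_iso {M N : X.Modules} (e : M ≅ N) (h : CohB1.IsFP M) : CohB1.IsFP N :=
  QC.isFP_iff_exists_hasFinPres.mpr fun x => by
    obtain ⟨U, hU, P, hP⟩ := QC.isFP_iff_exists_hasFinPres.mp h x
    haveI := hP
    exact ⟨U, hU, SheafOfModules.Presentation.ofIsIso.{u} ((Scheme.Modules.restrictFunctor U.ι).mapIso e).hom P,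
      inferInstance⟩

lemma chart_isAbove {m n : ℤ} (hn : m < n) {A : Type u} [CommRing A] {j : Spec (CommRingCat.of A) ⟶ X}
    [IsOpenImmersion j] {K : DCoh.D X} {M : Dual.D A}
    {α : (DCoh.tildeD (CommRingCat.of A)).obj M ⟶ (RD j).obj K} (hα : MIsoD m α)
    (hz : ∀ i, n ≤ i → IsZero (DCoh.HD K i)) : DRingKP.IsAbove n M := fun i hi => by
  haveI := hα.1 i (by lia)
  have h1 : IsZero (DCoh.HD ((RD j).obj K) i) :=
    ((Scheme.Modules.restrictFunctor j).map_isZero (hz i hi)).of_iso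
      ((homologyDerIso (Scheme.Modules.restrictFunctor j) i).app K)
  exact isZero_of_tilde ((h1.of_iso
    (asIso ((DerivedCategory.homologyFunctor (Spec (CommRingCat.of A)).Modules i).map α))).of_iso
      (hdTildeIso (R := CommRingCat.of A) M i).symm)

theorem isFT_top (m : ℤ) (K : DCoh.D X) (hK : DCoh.IsPseudoCoherentD m K)
    (hz : ∀ i : ℤ, m < i → IsZero (DCoh.HD K i)) : CohB1.IsFT (DCoh.HD K m) := by
  refine QC.isFT_of_local fun x => ?_
  obtain ⟨A, _, j, hj, M, α, hx, hM, hα⟩ := exists_chart m K hK x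
  haveI := hj
  refine ⟨_, j, inferInstance, hx, ?_⟩
  haveI := DRingKP.finite_top (hM m) (chart_isAbove (by lia) hα fun i hi => hz i (by lia))
  haveI := hα.2
  exact QC.isFT_of_epi ((hdTildeIso (R := CommRingCat.of A) M m).inv ≫
    (DerivedCategory.homologyFunctor _ m).map α ≫
      ((homologyDerIso (Scheme.Modules.restrictFunctor j) m).app K).hom) (QC.isFT_tilde _)

theorem isFP_top (m : ℤ) (K : DCoh.D X) (hK : DCoh.IsPseudoCoherentD m K)
    (hz : ∀ i : ℤ, m + 1 < i → IsZero (DCoh.HD K i)) : CohB1.IsFP (DCoh.HD K (m + 1)) := by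
  refine QC.isFP_of_local fun x => ?_
  obtain ⟨A, _, j, hj, M, α, hx, hM, hα⟩ := exists_chart m K hK x
  haveI := hj
  refine ⟨_, j, inferInstance, hx, ?_⟩
  haveI := DRingKP.finitePresentation_top (hM m) (chart_isAbove (by lia) hα fun i hi => hz i (by lia))
  haveI := hα.1 (m + 1) (by lia)
  exact isFP_of_iso ((hdTildeIso (R := CommRingCat.of A) M (m + 1)).symm ≪≫
    asIso ((DerivedCategory.homologyFunctor _ (m + 1)).map α) ≪≫
      (homologyDerIso (Scheme.Modules.restrictFunctor j) (m + 1)).app K) (QC.isFP_tilde _)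

end Groth.Agent.DQCoh
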